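import Mathlib
import Cfsg.Prelude
import Cfsg.Agent.Coprime.Sylow
import Cfsg.Agent.Coprime.SolvableBasics
import Cfsg.Agent.PLocal.StableClosureApps
import Cfsg.Agent.PGroups.Basic
import Cfsg.Agent.Components.Cores

/-!
The action of `G / O_p(G)` on `O_p(G) / Φ(O_p(G))` when `O_{p'}(G) = 1`, and the norm identity.
-/

set_option linter.style.haveILetI false
set_option linter.unusedSectionVars false

namespace Cfsg.Lib.HallHigman

open Subgroup

universe u

variable {p : ℕ} [hp : Fact p.Prime]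

/-- The linear action attached to an automorphism of an elementary abelian group. -/
def mulAutToEnd (p : ℕ) (A : Type u) [CommGroup A] [Module (ZMod p) (Additive A)] :
    MulAut A →* Module.End (ZMod p) (Additive A) where
  toFun e := (MonoidHom.toAdditive e.toMonoidHom).toZModLinearMap p
  map_one' := LinearMap.ext fun _ => rfl
  map_mul' _ _ := LinearMap.ext fun _ => rfl

theorem mulAutToEnd_apply (A : Type u) [CommGroup A] [Module (ZMod p) (Additive A)] (e : MulAut A) (a : A) :
    mulAutToEnd p A e (Additive.ofMul a) = Additive.ofMul (e a) := rfl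

open scoped IsMulCommutative

theorem geom_sum_eq_pow (n : ℕ) :
    (Polynomial.X - 1 : Polynomial (ZMod p)) ^ (p ^ n - 1) = ∑ i ∈ Finset.range (p ^ n), Polynomial.X ^ i := by
  have hne : (Polynomial.X - 1 : Polynomial (ZMod p)) ≠ 0 := by
    rw [← Polynomial.C_1]; exact Polynomial.X_sub_C_ne_zero 1
  refine mul_right_cancel₀ hne ?_
  rw [geom_sum_mul, ← pow_succ, Nat.sub_add_cancel (pow_pos hp.out.pos n), sub_pow_char_pow, one_pow]

theorem mul_pow_eq_norm {Γ : Type*} [Group Γ] (g : Γ) (v : Γ) :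
    ∀ k : ℕ, (v * g) ^ k = ((List.range k).map fun i => g ^ i * v * (g ^ i)⁻¹).prod * g ^ k := by
  intro k
  induction k with
  | zero => simp
  | succ k ih => rw [pow_succ, ih, List.range_succ, List.map_append, List.prod_append]; simp; group

theorem pCore_quotient_pCore {G : Type*} [Group G] [Finite G] :
    Cfsg.pCore p (G ⧸ Cfsg.pCore p G) = ⊥ := by
  set π := QuotientGroup.mk' (Cfsg.pCore p G)
  have hs := QuotientGroup.mk'_surjective (Cfsg.pCore p G)
  have hle : (Cfsg.pCore p (G ⧸ Cfsg.pCore p G)).comap π ≤ Cfsg.pCore p G :=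
    Cfsg.Lib.Components.le_pCore ((Cfsg.Lib.Components.isPGroup_pCore p).comap_of_ker_isPGroup π
      (by rw [QuotientGroup.ker_mk']; exact Cfsg.Lib.Components.isPGroup_pCore p))
  rw [eq_bot_iff, ← Subgroup.map_comap_eq_self_of_surjective hs (Cfsg.pCore p (G ⧸ Cfsg.pCore p G))]
  exact (Subgroup.map_mono hle).trans (QuotientGroup.map_mk'_self _).le

/-- `G / O_p(G)` acts faithfully on an elementary abelian group on which every element coming from
`G` satisfies the norm identity given by the exponent of a Sylow subgroup. -/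
theorem exists_faithful_module {G : Type u} [Group G] [Finite G] (hsol : Cfsg.IsPSolvable p G)
    (hO : Cfsg.pPrimeCore p G = ⊥) (n : ℕ) (hexp : ∀ (P : Sylow p G), ∀ x ∈ (P : Subgroup G), x ^ p ^ n = 1) :
    ∃ (V : Type u) (_ : AddCommGroup V) (_ : Module (ZMod p) V) (_ : Finite V)
      (ρ : G ⧸ Cfsg.pCore p G →* Module.End (ZMod p) V),
      Function.Injective ρ ∧ ∀ h : G ⧸ Cfsg.pCore p G, (∃ k : ℕ, orderOf h = p ^ k) →
        (ρ h - 1) ^ (p ^ n - 1) = 0 := by
  classical
  set Q := Cfsg.pCore p G with hQdef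
  have hQp : IsPGroup p Q := Cfsg.Lib.Components.isPGroup_pCore p
  set Φ := (frattini Q).map Q.subtype with hΦ
  haveI : Φ.Normal := ConjAct.normal_of_characteristic_of_normal
  set π := QuotientGroup.mk' Φ
  have hπ : Function.Surjective π := QuotientGroup.mk'_surjective Φ
  set W := Q.map π with hW
  haveI : W.Normal := Subgroup.Normal.map inferInstance _ hπ
  have hWmem : ∀ a ∈ Q, ∀ b ∈ Q, π a * π b = π b * π a := by
    intro a ha b hb
    rw [← map_mul, ← map_mul]
    refine QuotientGroup.eq.2 ?_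
    have h := (Subgroup.Normal.quotient_commutative_iff_commutator_le (N := frattini Q)).2
      (Cfsg.Lib.PGroups.commutator_le_frattini hQp)
    have h2 : (QuotientGroup.mk (⟨a, ha⟩ * ⟨b, hb⟩ : Q) : Q ⧸ frattini Q) = QuotientGroup.mk (⟨b, hb⟩ * ⟨a, ha⟩) := by
      rw [QuotientGroup.mk_mul, QuotientGroup.mk_mul]; exact h.is_comm.comm _ _
    exact ⟨_, QuotientGroup.eq.1 h2, rfl⟩
  haveI hWc : IsMulCommutative W := ⟨⟨by
    rintro ⟨_, a, ha, rfl⟩ ⟨_, b, hb, rfl⟩; exact Subtype.ext (hWmem a ha b hb)⟩⟩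
  have hWpow : ∀ w : W, w ^ p = 1 := by
    rintro ⟨_, a, ha, rfl⟩
    refine Subtype.ext ?_
    show π a ^ p = 1
    rw [← map_pow]
    exact (QuotientGroup.eq_one_iff _).2 ⟨⟨a, ha⟩ ^ p, Cfsg.Lib.PGroups.pow_mem_frattini hQp _, rfl⟩
  haveI : Module (ZMod p) (Additive W) := AddCommGroup.zmodModule fun w => by
    apply Additive.toMul.injective
    rw [toMul_nsmul, hWpow]; rfl
  let c : G →* MulAut W := (MulAut.conjNormal (H := W)).comp π
  let ρ₀ : G →* Module.End (ZMod p) (Additive W) := (mulAutToEnd p W).comp c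
  have hρv : ∀ g : G, ∀ w : W, (ρ₀ g) (Additive.ofMul w) = Additive.ofMul (c g w) := fun g w => mulAutToEnd_apply _ _ _
  have hker : ∀ g : G, ρ₀ g = 1 ↔ ∀ a ∈ Q, π (g * a * g⁻¹) = π a := by
    intro g
    constructor
    · intro h a ha
      have h1 := congrArg (fun f : Module.End (ZMod p) (Additive W) =>
        (((Additive.toMul (f (Additive.ofMul (⟨π a, a, ha, rfl⟩ : W))) : W)) : G ⧸ Φ)) h
      rw [map_mul, map_mul, map_inv]
      exact h1
    · intro h
      refine LinearMap.ext fun v => ?_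
      obtain ⟨⟨_, a, ha, rfl⟩, rfl⟩ := Additive.ofMul.surjective v
      rw [hρv]
      show _ = Additive.ofMul _
      congr 1
      refine Subtype.ext ?_
      show π g * π a * (π g)⁻¹ = π a
      rw [← map_inv, ← map_mul, ← map_mul]
      exact h a ha
  have hmemker : ∀ g : G, g ∈ ρ₀.ker ↔ ρ₀ g = 1 := fun g => Iff.rfl
  have hQker : Q ≤ ρ₀.ker := fun g hg => (hker g).2 fun a ha => by
    rw [map_mul, map_mul, map_inv, hWmem g hg a ha, mul_inv_cancel_right]
  have hkerQ : ρ₀.ker ≤ Q := by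
    refine Cfsg.Lib.Components.le_pCore (fun g => ?_)
    obtain ⟨a, r, hr, har⟩ := Nat.exists_eq_pow_mul_and_not_dvd (orderOf_pos (g : G)).ne' p hp.out.ne_one
    refine ⟨a, Subtype.ext ?_⟩
    set y := (g : G) ^ p ^ a with hy
    have hyo : orderOf y ∣ r := orderOf_dvd_of_pow_eq_one (by rw [hy, ← pow_mul, ← har, pow_orderOf_eq_one])
    have hycop : (orderOf y).Coprime p := Nat.Coprime.coprime_dvd_left hyo ((hp.out.coprime_iff_not_dvd.2 hr).symm)
    have hyk : y ∈ ρ₀.ker := pow_mem g.2 _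
    have hC : zpowers y ≤ centralizer (Q : Set G) := by
      refine Cfsg.Lib.Coprime.le_centralizer_of_frattini (by rw [normalizer_eq_top_iff.2 inferInstance]; exact le_top) ?_ fun b hb k hk => ?_
      · obtain ⟨m, hm⟩ := IsPGroup.iff_card.1 (hQp.to_subgroup (frattini Q))
        rw [Nat.card_zpowers, hm]
        exact hycop.pow_right m
      · show b * k * b⁻¹ * k⁻¹ ∈ Φ
        rw [← QuotientGroup.eq_one_iff (N := Φ)]
        show π (b * k * b⁻¹ * k⁻¹) = 1
        rw [map_mul, (hker b).1 (zpowers_le.2 hyk hb) k hk, ← map_mul, mul_inv_cancel, map_one]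
    have hyQ : y ∈ Q := Cfsg.Lib.StableClosure.centralizer_pCore_le_of_pSolvable hsol hO (hC (mem_zpowers y))
    obtain ⟨j, hj⟩ := IsPGroup.iff_orderOf.1 hQp ⟨y, hyQ⟩
    rw [Subgroup.orderOf_mk] at hj
    rw [Subgroup.coe_pow, Subgroup.coe_one]
    show y = 1
    exact orderOf_eq_one_iff.1 (Nat.eq_one_of_dvd_coprimes (hycop.pow_right j) dvd_rfl hj.dvd)
  refine ⟨Additive W, inferInstance, inferInstance, inferInstance, QuotientGroup.lift Q ρ₀ hQker, ?_, ?_⟩
  · intro x y e
    obtain ⟨x, rfl⟩ := QuotientGroup.mk_surjective x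
    obtain ⟨y, rfl⟩ := QuotientGroup.mk_surjective y
    refine QuotientGroup.eq.2 (hkerQ ?_)
    have e' : ρ₀ x = ρ₀ y := e
    rw [hmemker, map_mul, ← e', ← map_mul, inv_mul_cancel, map_one]
  intro h hh
  have hQs := QuotientGroup.mk'_surjective Q
  obtain ⟨k, hk⟩ := hh
  have hz : IsPGroup p (zpowers h) := IsPGroup.of_card (n := k) (by rw [Nat.card_zpowers, hk])
  obtain ⟨T, hT⟩ := hz.exists_le_sylow
  obtain ⟨S, rfl⟩ := Sylow.mapSurjective_surjective hQs p T
  obtain ⟨g, hg, rfl⟩ := hT (mem_zpowers h)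
  show (ρ₀ g - 1) ^ (p ^ n - 1) = 0
  have hpoly := congrArg (Polynomial.aeval (ρ₀ g)) (geom_sum_eq_pow (p := p) n)
  simp only [map_pow, map_sub, Polynomial.aeval_X, map_one, map_sum] at hpoly
  rw [hpoly]
  refine LinearMap.ext fun v => ?_
  obtain ⟨⟨_, a, ha, rfl⟩, rfl⟩ := Additive.ofMul.surjective v
  have hsum : ∀ k : ℕ, ((Additive.toMul ((∑ i ∈ Finset.range k, ρ₀ g ^ i) (Additive.ofMul (⟨π a, a, ha, rfl⟩ : W))) : W) : G ⧸ Φ)
      = ((List.range k).map fun i => π g ^ i * π a * (π g ^ i)⁻¹).prod := by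
    intro k
    induction k with
    | zero => simp
    | succ k ih =>
      rw [Finset.sum_range_succ, List.range_succ, List.map_append, List.prod_append, LinearMap.add_apply, toMul_add,
        Subgroup.coe_mul, ih, ← map_pow ρ₀, hρv]
      simp [c, ← map_pow, MulAut.conjNormal_apply]
  refine Additive.toMul.injective (Subtype.ext ((hsum _).trans ?_))
  have h1 := mul_pow_eq_norm (π g) (π a) (p ^ n)
  rw [← map_mul, ← map_pow, hexp S _ (mul_mem (Cfsg.Lib.Coprime.pCore_le_sylow p S ha) hg), ← map_pow, hexp S g hg,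
    map_one, mul_one] at h1
  exact h1.symm

end Cfsg.Lib.HallHigman
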