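import Mathlib
import Cfsg.Prelude
import Cfsg.Agent.Coprime.Action
import Cfsg.Agent.HallHigman.Drop
import Cfsg.Agent.GaschutzYen.Basic
import Cfsg.Agent.S4748

/-!
A split quotient `W ⋊ G / O_p(G)` of a `p`-solvable group with trivial `p'`-core.
-/

set_option linter.style.haveILetI false
set_option linter.unusedSectionVars false

namespace Cfsg.Lib.HallHigman

open Subgroup
open Cfsg.Lib.Coprime (conjMap)

universe u

variable {p : ℕ} [hp : Fact p.Prime]

/-- The kernel of the action on the Frattini quotient of `O_p`. -/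
theorem mem_pCore_of_centralizes_frattini {G : Type u} [Group G] [Finite G] (hsol : Cfsg.IsPSolvable p G)
    (hO : Cfsg.pPrimeCore p G = ⊥) (Φ : Subgroup G) [Φ.Normal]
    (hΦ : Φ = (frattini (Cfsg.pCore p G)).map (Cfsg.pCore p G).subtype) (g : G)
    (hg : ∀ a ∈ Cfsg.pCore p G, g * a * g⁻¹ * a⁻¹ ∈ Φ) : g ∈ Cfsg.pCore p G := by
  subst hΦ
  set Q := Cfsg.pCore p G with hQdef
  have hQp : IsPGroup p Q := Cfsg.Lib.Components.isPGroup_pCore p
  set Φ := (frattini Q).map Q.subtype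
  set π := QuotientGroup.mk' Φ
  set X := (centralizer (Q.map π : Set (G ⧸ Φ))).comap π
  haveI : (Q.map π).Normal := Subgroup.Normal.map inferInstance _ (QuotientGroup.mk'_surjective Φ)
  haveI : X.Normal := Subgroup.Normal.comap inferInstance _
  have hX : ∀ y ∈ X, ∀ a ∈ Q, y * a * y⁻¹ * a⁻¹ ∈ Φ := by
    intro y hy a ha
    rw [← QuotientGroup.eq_one_iff (N := Φ)]
    show π (y * a * y⁻¹ * a⁻¹) = 1
    rw [map_mul, map_mul, map_mul, map_inv, map_inv, ← mem_centralizer_iff.1 hy _ ⟨a, ha, rfl⟩]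
    group
  suffices h : IsPGroup p X by
    refine Cfsg.Lib.Components.le_pCore h (mem_centralizer_iff.2 ?_)
    rintro _ ⟨a, ha, rfl⟩
    show π a * π g = π g * π a
    have h1 : π (g * a * g⁻¹ * a⁻¹) = 1 := (QuotientGroup.eq_one_iff _).2 (hg a ha)
    rw [map_mul, map_mul, map_mul, map_inv, map_inv, mul_inv_eq_one, mul_inv_eq_iff_eq_mul] at h1
    exact h1.symm
  intro g
  obtain ⟨a, r, hr, har⟩ := Nat.exists_eq_pow_mul_and_not_dvd (orderOf_pos (g : G)).ne' p hp.out.ne_one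
  refine ⟨a, Subtype.ext ?_⟩
  set y := (g : G) ^ p ^ a with hy
  have hyo : orderOf y ∣ r := orderOf_dvd_of_pow_eq_one (by rw [hy, ← pow_mul, ← har, pow_orderOf_eq_one])
  have hycop : (orderOf y).Coprime p := Nat.Coprime.coprime_dvd_left hyo ((hp.out.coprime_iff_not_dvd.2 hr).symm)
  have hyk : y ∈ X := pow_mem g.2 _
  have hC : zpowers y ≤ centralizer (Q : Set G) := by
    refine Cfsg.Lib.Coprime.le_centralizer_of_frattini (by rw [normalizer_eq_top_iff.2 inferInstance]; exact le_top) ?_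
      fun b hb k hk => hX b (zpowers_le.2 hyk hb) k hk
    obtain ⟨m, hm⟩ := IsPGroup.iff_card.1 (hQp.to_subgroup (frattini Q))
    rw [Nat.card_zpowers, hm]
    exact hycop.pow_right m
  have hyQ : y ∈ Q := Cfsg.Lib.StableClosure.centralizer_pCore_le_of_pSolvable hsol hO (hC (mem_zpowers y))
  obtain ⟨j, hj⟩ := IsPGroup.iff_orderOf.1 hQp ⟨y, hyQ⟩
  rw [Subgroup.orderOf_mk] at hj
  rw [Subgroup.coe_pow, Subgroup.coe_one]
  exact orderOf_eq_one_iff.1 (Nat.eq_one_of_dvd_coprimes (hycop.pow_right j) dvd_rfl hj.dvd)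

set_option maxHeartbeats 1000000 in
/-- The split quotient. -/
theorem exists_complemented {G : Type u} [Group G] [Finite G] (hsol : Cfsg.IsPSolvable p G)
    (hO : Cfsg.pPrimeCore p G = ⊥) :
    ∃ (Γ : Type u) (_ : Group Γ) (_ : Finite Γ) (π : G →* Γ) (W K : Subgroup Γ), Function.Surjective π ∧ W.Normal ∧
      W = (Cfsg.pCore p G).map π ∧ (∀ v ∈ W, ∀ w ∈ W, v * w = w * v) ∧ (∀ w ∈ W, w ^ p = 1) ∧ W ⊓ K = ⊥ ∧ W ⊔ K = ⊤ ∧
      (∀ g : Γ, (∀ w ∈ W, g * w = w * g) → g ∈ W) ∧ π.ker ≤ Cfsg.pCore p G := by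
  classical
  set Q := Cfsg.pCore p G with hQdef
  have hQp : IsPGroup p Q := Cfsg.Lib.Components.isPGroup_pCore p
  set Φ := (frattini Q).map Q.subtype with hΦ
  haveI : Φ.Normal := ConjAct.normal_of_characteristic_of_normal
  have hΦQ : Φ ≤ Q := map_subtype_le _
  set π₁ := QuotientGroup.mk' Φ
  have hπ₁ : Function.Surjective π₁ := QuotientGroup.mk'_surjective Φ
  set W₁ := Q.map π₁ with hW₁
  haveI : W₁.Normal := Subgroup.Normal.map inferInstance _ hπ₁
  have hWc : ∀ v ∈ W₁, ∀ w ∈ W₁, v * w = w * v := by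
    rintro _ ⟨a, ha, rfl⟩ _ ⟨b, hb, rfl⟩
    rw [← map_mul, ← map_mul]
    refine QuotientGroup.eq.2 ?_
    have h := (Subgroup.Normal.quotient_commutative_iff_commutator_le (N := frattini Q)).2
      (Cfsg.Lib.PGroups.commutator_le_frattini hQp)
    have h2 : (QuotientGroup.mk (⟨a, ha⟩ * ⟨b, hb⟩ : Q) : Q ⧸ frattini Q) = QuotientGroup.mk (⟨b, hb⟩ * ⟨a, ha⟩) := by
      rw [QuotientGroup.mk_mul, QuotientGroup.mk_mul]; exact h.is_comm.comm _ _
    exact ⟨_, QuotientGroup.eq.1 h2, rfl⟩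
  have hWp : ∀ w ∈ W₁, w ^ p = 1 := by
    rintro _ ⟨a, ha, rfl⟩
    rw [← map_pow]
    exact (QuotientGroup.eq_one_iff _).2 ⟨⟨a, ha⟩ ^ p, Cfsg.Lib.PGroups.pow_mem_frattini hQp _, rfl⟩
  let f : (G ⧸ Φ) →* G ⧸ Q := QuotientGroup.lift Φ (QuotientGroup.mk' Q) (by rw [QuotientGroup.ker_mk']; exact hΦQ)
  have hfs : Function.Surjective f := fun x => by
    obtain ⟨g, rfl⟩ := QuotientGroup.mk_surjective x
    exact ⟨π₁ g, rfl⟩
  have hfker : ∀ x, f x = 1 ↔ x ∈ W₁ := by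
    intro x
    obtain ⟨g, rfl⟩ := hπ₁ x
    constructor
    · exact fun h => ⟨g, (QuotientGroup.eq_one_iff g).1 h, rfl⟩
    · rintro ⟨a, ha, e⟩
      show f (π₁ g) = 1
      rw [← e]
      exact (QuotientGroup.eq_one_iff a).2 ha
  have hbot : (⊥ : Subgroup (G ⧸ Q)).comap f = W₁ := Subgroup.ext fun x => by rw [mem_comap, mem_bot]; exact hfker x
  set R := Cfsg.pPrimeCore p (G ⧸ Q)
  haveI : R.Normal := Cfsg.Lib.Components.pPrimeCore_normal' p
  set M := R.comap f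
  haveI : M.Normal := Subgroup.Normal.comap inferInstance _
  have hWM : W₁ ≤ M := hbot ▸ Subgroup.comap_mono bot_le
  have hrel : W₁.relIndex M = Nat.card R := by
    rw [← hbot, relIndex_comap, Subgroup.map_comap_eq_self_of_surjective hfs, relIndex_bot_left]
  obtain ⟨m, hm⟩ := IsPGroup.iff_card.1 (hQp.map π₁)
  have hcopWR : (Nat.card W₁).Coprime (Nat.card R) := by
    rw [hW₁, hm]
    exact (Cfsg.Lib.Components.coprime_card_pPrimeCore p).symm.pow_left m
  have hWn : ∀ X : Subgroup (G ⧸ Φ), X ≤ normalizer (W₁ : Set (G ⧸ Φ)) := fun X => by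
    rw [normalizer_eq_top_iff.2 inferInstance]; exact le_top
  obtain ⟨Rt, hRtM, hRtsup, hRtc⟩ := Cfsg.Lib.Coprime.exists_complement_in hWM (hWn M) (by rw [hrel]; exact hcopWR)
  rw [hrel] at hRtc
  have hcopWt : (Nat.card W₁).Coprime (Nat.card Rt) := by rw [hRtc]; exact hcopWR
  have hdisj : ∀ x ∈ W₁, x ∈ Rt → x = 1 := fun x hx hx' => by
    have h1 : W₁ ⊓ Rt = ⊥ := Subgroup.inf_eq_bot_of_coprime hcopWt
    have : x ∈ W₁ ⊓ Rt := ⟨hx, hx'⟩
    rwa [h1, mem_bot] at this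
  set N := normalizer (Rt : Set (G ⧸ Φ))
  haveI hWsol : Group.IsSolvable W₁ := by
    haveI : IsMulCommutative W₁ := ⟨⟨fun a b => Subtype.ext (hWc a a.2 b b.2)⟩⟩
    open scoped IsMulCommutative in exact inferInstance
  have hWN : ∀ g : G ⧸ Φ, ∃ x ∈ W₁, x⁻¹ * g ∈ N := by
    intro g
    have hle : conjMap g Rt ≤ W₁ ⊔ Rt := by
      rw [hRtsup]
      intro z hz
      rw [Cfsg.Lib.Coprime.mem_conjMap] at hz
      have h1 := (inferInstance : M.Normal).conj_mem _ (hRtM hz) g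
      rwa [show g * (g⁻¹ * z * g) * g⁻¹ = z by group] at h1
    obtain ⟨x, hx, he⟩ := Cfsg.Lib.Coprime.exists_conj_eq_of_coprime (hWn Rt) hcopWt (Or.inl hWsol) hle
      (Cfsg.Lib.Coprime.card_conjMap _ _)
    refine ⟨x, hx, Cfsg.Lib.Coprime.conjMap_eq_self_iff.1 ?_⟩
    rw [← Cfsg.Lib.Coprime.conjMap_mul, he, Cfsg.Lib.Coprime.conjMap_inv_conjMap]
  set C := W₁ ⊓ N
  have hCR : ∀ c ∈ C, ∀ r ∈ Rt, c * r = r * c := by
    intro c hc r hr
    have h1 : c * r * c⁻¹ * r⁻¹ ∈ W₁ := by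
      rw [show c * r * c⁻¹ * r⁻¹ = c * (r * c⁻¹ * r⁻¹) by group]
      exact mul_mem hc.1 ((inferInstance : W₁.Normal).conj_mem _ (inv_mem hc.1) r)
    have h2 := hdisj _ h1 (mul_mem ((mem_normalizer_iff.1 hc.2 r).1 hr) (inv_mem hr))
    rwa [mul_inv_eq_one, mul_inv_eq_iff_eq_mul] at h2
  haveI hCn : C.Normal := by
    refine ⟨fun c hc g => ?_⟩
    obtain ⟨x, hx, hn⟩ := hWN g
    have h1 : x⁻¹ * g * c * (x⁻¹ * g)⁻¹ ∈ C :=
      ⟨(inferInstance : W₁.Normal).conj_mem _ hc.1 _, N.mul_mem (N.mul_mem hn hc.2) (N.inv_mem hn)⟩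
    have h2 : g * c * g⁻¹ = x * (x⁻¹ * g * c * (x⁻¹ * g)⁻¹) * x⁻¹ := by group
    rw [h2, hWc x hx _ h1.1, mul_inv_cancel_right]
    exact h1
  set π₂ := QuotientGroup.mk' C
  have hπ₂ : Function.Surjective π₂ := QuotientGroup.mk'_surjective C
  refine ⟨(G ⧸ Φ) ⧸ C, inferInstance, inferInstance, π₂.comp π₁, W₁.map π₂, N.map π₂, hπ₂.comp hπ₁,
    Subgroup.Normal.map inferInstance _ hπ₂, (Subgroup.map_map _ _ _), ?_, ?_, ?_, ?_, ?_, ?_⟩
  · rintro _ ⟨v, hv, rfl⟩ _ ⟨w, hw, rfl⟩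
    rw [← map_mul, ← map_mul, hWc v hv w hw]
  · rintro _ ⟨w, hw, rfl⟩
    rw [← map_pow, hWp w hw, map_one]
  · rw [eq_bot_iff]
    rintro _ ⟨⟨w, hw, rfl⟩, n, hn, e⟩
    have h1 : w⁻¹ * n ∈ C := QuotientGroup.eq.1 e.symm
    have h2 : n ∈ W₁ := by
      have := mul_mem hw h1.1
      rwa [mul_inv_cancel_left] at this
    rw [mem_bot, ← e]
    exact (QuotientGroup.eq_one_iff n).2 ⟨h2, hn⟩
  · rw [eq_top_iff]
    rintro z -
    obtain ⟨g, rfl⟩ := hπ₂ z
    obtain ⟨x, hx, hn⟩ := hWN g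
    rw [show g = x * (x⁻¹ * g) by group, map_mul]
    exact mul_mem_sup ⟨x, hx, rfl⟩ ⟨_, hn, rfl⟩
  · set X := (centralizer ((W₁.map π₂ : Subgroup _) : Set ((G ⧸ Φ) ⧸ C))).comap π₂
    haveI : (W₁.map π₂).Normal := Subgroup.Normal.map inferInstance _ hπ₂
    haveI : X.Normal := Subgroup.Normal.comap inferInstance _
    have hWX : W₁ ≤ X := fun v hv => mem_centralizer_iff.2 (by
      rintro _ ⟨w, hw, rfl⟩; rw [← map_mul, ← map_mul, hWc w hw v hv])
    have hXW : X ≤ W₁ := by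
      haveI : (X.map f).Normal := Subgroup.Normal.map inferInstance _ hfs
      have hd : X.map f ⊓ R = ⊥ := by
        rw [eq_bot_iff]
        rintro _ ⟨⟨x, hx, rfl⟩, hxR⟩
        have hxM : x ∈ W₁ ⊔ Rt := by rw [hRtsup]; exact hxR
        obtain ⟨w, hw, r, hr, rfl⟩ := Subgroup.mem_sup_of_normal_left.1 hxM
        have hrX : r ∈ X := (Subgroup.mul_mem_cancel_left _ (hWX hw)).1 hx
        have hcop : (Nat.card (zpowers r)).Coprime (Nat.card C) :=
          (hcopWt.coprime_dvd_left (card_dvd_of_le inf_le_left)).symm.coprime_dvd_left (card_dvd_of_le (zpowers_le.2 hr))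
        have hrz : zpowers r ≤ centralizer (C : Set (G ⧸ Φ)) :=
          zpowers_le.2 (mem_centralizer_iff.2 fun c hc => hCR c hc r hr)
        have hrW : ∀ v ∈ W₁, r * v = v * r := fun v hv => by
          have h := Cfsg.Lib.Coprime.centralizes_of_coprime_chain hcop hrz (k := v) fun a ha => by
            have haX : a ∈ X := (zpowers_le.2 hrX) ha
            have h1 : π₂ v * π₂ a = π₂ a * π₂ v := mem_centralizer_iff.1 haX _ ⟨v, hv, rfl⟩
            refine (QuotientGroup.eq_one_iff _).1 ?_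
            show π₂ (v⁻¹ * a * v * a⁻¹) = 1
            rw [map_mul, map_mul, map_mul, map_inv, map_inv, mul_assoc _ (π₂ a), ← h1]
            group
          exact mem_centralizer_iff.1 h r (mem_zpowers r)
        obtain ⟨g, rfl⟩ := hπ₁ r
        have hgQ : g ∈ Q := by
          refine mem_pCore_of_centralizes_frattini hsol hO Φ hΦ g fun a ha => ?_
          rw [← QuotientGroup.eq_one_iff (N := Φ)]
          show π₁ (g * a * g⁻¹ * a⁻¹) = 1
          rw [map_mul, map_mul, map_mul, map_inv, map_inv, hrW (π₁ a) ⟨a, ha, rfl⟩]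
          group
        rw [mem_bot, map_mul, (hfker w).2 hw, (hfker (π₁ g)).2 ⟨g, hgQ, rfl⟩, one_mul]
      have hle : X.map f ≤ R := le_trans
        (fun a ha => mem_centralizer_iff.2 fun r hr =>
          ((commute_of_normal_of_disjoint _ _ inferInstance inferInstance (disjoint_iff.2 hd) a r ha hr).eq).symm)
        (Cfsg.Agent.S4748.centralizer_pPrimeCore_le p
          (Cfsg.Lib.GaschutzYen.isPSolvable_quotient (p := p) Q hsol) pCore_quotient_pCore)
      intro x hx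
      refine (hfker x).1 ?_
      have : f x ∈ X.map f ⊓ R := ⟨⟨x, hx, rfl⟩, hle ⟨x, hx, rfl⟩⟩
      rwa [hd, mem_bot] at this
    intro z hz
    obtain ⟨x, rfl⟩ := hπ₂ z
    exact ⟨x, hXW (mem_centralizer_iff.2 fun w hw => (hz w hw).symm), rfl⟩
  · intro g hg
    have h1 : π₁ g ∈ C := (QuotientGroup.eq_one_iff _).1 hg
    exact (QuotientGroup.eq_one_iff g).1 ((hfker (π₁ g)).2 h1.1)

end Cfsg.Lib.HallHigman
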