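import Mathlib

/-!
Commutation of elements of order `p` with small support in characteristic `2`.

An irreducible endomorphism generates a field, and elements of a `p`-group whose supports are
isotypic for every central element of order `p` commute.
-/

set_option linter.style.haveILetI false
set_option linter.unusedSectionVars false

namespace Cfsg.Lib.HallHigman

open Module

universe u v w

/-- An irreducible endomorphism of a finite module generates a field, so a commuting endomorphism of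
order `p` is a power of a given one. -/
theorem irreducible_cyclic {F : Type u} [Field F] {M : Type v} [AddCommGroup M] [Module F M] [Finite M] [Nontrivial M]
    (T : Module.End F M) (hirr : ∀ S : Submodule F M, (∀ v ∈ S, T v ∈ S) → S = ⊥ ∨ S = ⊤) :
    (∀ N : ℕ, orderOf T = N → 0 < N → N ∣ Nat.card M - 1) ∧
      ∀ (p j : ℕ) (z : Module.End F M), p.Prime → T ^ j ≠ 1 → (T ^ j) ^ p = 1 → z * T = T * z → z ^ p = 1 →
        ∃ i, z = (T ^ j) ^ i := by
  classical
  set L := Algebra.adjoin F ({T} : Set (Module.End F M)) with hL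
  haveI : Finite (Module.End F M) := DFunLike.finite _
  have hTL : T ∈ L := Algebra.self_mem_adjoin_singleton F T
  have hcommT : ∀ f ∈ L, ∀ g : Module.End F M, g * T = T * g → g * f = f * g := by
    intro f hf g hg
    induction hf using Algebra.adjoin_induction with
    | mem x hx => rw [Set.mem_singleton_iff.1 hx]; exact hg
    | algebraMap r => exact (Algebra.commutes r g).symm
    | add a b _ _ ha hb => rw [mul_add, add_mul, ha, hb]
    | mul a b _ _ ha hb => rw [← mul_assoc, ha, mul_assoc, hb, mul_assoc]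
  have hfT : ∀ f ∈ L, f * T = T * f := fun f hf => (hcommT f hf T rfl).symm
  have hcomm : ∀ f ∈ L, ∀ g ∈ L, g * f = f * g := fun f hf g hg => hcommT f hf g (hfT g hg)
  have hker : ∀ f ∈ L, ∀ v : M, v ≠ 0 → f v = 0 → f = 0 := by
    intro f hf v hv hfv
    refine LinearMap.ker_eq_top.1 ((hirr (LinearMap.ker f) fun w hw => ?_).resolve_left fun h =>
      hv ((Submodule.eq_bot_iff _).1 h v hfv))
    rw [LinearMap.mem_ker] at hw ⊢
    rw [← Module.End.mul_apply, hfT f hf, Module.End.mul_apply, hw, map_zero]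
  obtain ⟨v₀, hv₀⟩ := exists_ne (0 : M)
  have hsurj : ∀ w : M, ∃ f ∈ L, f v₀ = w := by
    intro w
    have h1 : (Subalgebra.toSubmodule L).map (LinearMap.applyₗ v₀ : Module.End F M →ₗ[F] M) = ⊤ := by
      refine (hirr _ ?_).resolve_left fun h => hv₀ ?_
      · rintro _ ⟨f, hf, rfl⟩
        exact ⟨T * f, L.mul_mem hTL hf, rfl⟩
      · exact (Submodule.eq_bot_iff _).1 h v₀ ⟨1, L.one_mem, rfl⟩
    obtain ⟨f, hf, e⟩ := h1.ge (Submodule.mem_top (x := w))
    exact ⟨f, hf, e⟩
  letI : CommRing L := { (inferInstance : Ring L) with mul_comm := fun a b => Subtype.ext (hcomm _ b.2 _ a.2) }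
  haveI : Nontrivial L := ⟨⟨1, 0, fun h => hv₀ (LinearMap.congr_fun (congrArg Subtype.val h) v₀)⟩⟩
  haveI : NoZeroDivisors L := ⟨fun {a b} h => or_iff_not_imp_right.2 fun hb => by
    obtain ⟨v, hv⟩ : ∃ v, (b : Module.End F M) v ≠ 0 := by
      by_contra hall
      push Not at hall
      exact hb (Subtype.ext (LinearMap.ext hall))
    exact Subtype.ext (hker _ a.2 _ hv (LinearMap.congr_fun (congrArg Subtype.val h) v))⟩
  haveI : IsDomain L := NoZeroDivisors.to_isDomain L
  constructor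
  · intro N hN hN0
    have hcard : Nat.card L = Nat.card M := Nat.card_congr (Equiv.ofBijective (fun f : L => (f : Module.End F M) v₀)
      ⟨fun f g h => Subtype.ext (sub_eq_zero.1 (hker _ (L.sub_mem f.2 g.2) v₀ hv₀ (by
        rw [LinearMap.sub_apply, sub_eq_zero]; exact h))),
      fun w => by obtain ⟨f, hf, e⟩ := hsurj w; exact ⟨⟨f, hf⟩, e⟩⟩)
    haveI : Finite L := Subtype.finite
    letI : Field L := (Finite.isField_of_domain L).toField
    haveI := Fintype.ofFinite L
    have hT0 : (⟨T, hTL⟩ : L) ≠ 0 := fun h => by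
      have h1 : T ^ N = 1 := hN ▸ pow_orderOf_eq_one T
      rw [show T = 0 from congrArg Subtype.val h, zero_pow hN0.ne'] at h1
      exact hv₀ (LinearMap.congr_fun h1.symm v₀)
    rw [← hN, ← hcard, Nat.card_eq_fintype_card]
    refine orderOf_dvd_of_pow_eq_one ?_
    exact congrArg Subtype.val (FiniteField.pow_card_sub_one_eq_one _ hT0)
  intro p j z hp hne h1 hzT hz
  obtain ⟨g, hg, hgv⟩ := hsurj (z v₀)
  have hzg : z = g := LinearMap.ext fun w => by
    obtain ⟨f, hf, rfl⟩ := hsurj w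
    rw [← Module.End.mul_apply, hcommT f hf z hzT, Module.End.mul_apply, ← hgv, ← Module.End.mul_apply, hcomm g hg f hf,
      Module.End.mul_apply]
  subst hzg
  have hyL : T ^ j ∈ L := L.pow_mem hTL j
  haveI := Fact.mk hp
  have hy : IsPrimitiveRoot (⟨T ^ j, hyL⟩ : L) p := IsPrimitiveRoot.iff_orderOf.2
    (orderOf_eq_prime (Subtype.ext h1) fun h => hne (congrArg Subtype.val h))
  haveI : NeZero p := ⟨hp.ne_zero⟩
  obtain ⟨i, -, hi⟩ := hy.eq_pow_of_pow_eq_one (ξ := (⟨z, hg⟩ : L)) (Subtype.ext hz)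
  exact ⟨i, (congrArg Subtype.val hi).symm⟩

/-- In characteristic `2`, two elements of a finite `p`-group which are quadratic over central
elements commute. -/
theorem commute_of_quadratic {A : Type u} [Ring A] (h2 : (2 : A) = 0) {p : ℕ} [hp : Fact p.Prime] (hp2 : p ≠ 2)
    (E : Subgroup Aˣ) [Finite E] (hE : IsPGroup p E) (y₁ y₂ : Aˣ) (hgen : E = Subgroup.closure {y₁, y₂})
    (hq : ∀ y ∈ ({y₁, y₂} : Set Aˣ), ∃ ζ : A, (∀ e ∈ E, Commute ζ (e : A)) ∧
      ((y : A) - 1) * ((y : A) - ζ) = 0) :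
    y₁ * y₂ = y₂ * y₁ := by
  classical
  by_contra hne
  have hy₁ : y₁ ∈ E := hgen ▸ Subgroup.subset_closure (Set.mem_insert _ _)
  have hy₂ : y₂ ∈ E := hgen ▸ Subgroup.subset_closure (Set.mem_insert_of_mem _ rfl)
  haveI : Nontrivial (E ⧸ Subgroup.center E) := by
    rw [← not_subsingleton_iff_nontrivial]
    intro h
    have h1 : (⟨y₁, hy₁⟩ : E) ∈ Subgroup.center E := (QuotientGroup.eq_one_iff _).1 (Subsingleton.elim _ _)
    exact hne (congrArg Subtype.val (Subgroup.mem_center_iff.1 h1 ⟨y₂, hy₂⟩)).symm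
  haveI := (hE.to_quotient (Subgroup.center E)).center_nontrivial
  obtain ⟨⟨ū, hū⟩, hū1⟩ := exists_ne (1 : Subgroup.center (E ⧸ Subgroup.center E))
  obtain ⟨u, rfl⟩ := QuotientGroup.mk_surjective ū
  have hu : u ∉ Subgroup.center E := fun h => hū1 (Subtype.ext ((QuotientGroup.eq_one_iff _).2 h))
  obtain ⟨y, hy, hyu⟩ : ∃ y ∈ ({y₁, y₂} : Set Aˣ), (u : Aˣ) * y ≠ y * u := by
    by_contra hh
    push Not at hh
    refine hu (Subgroup.mem_center_iff.2 fun g => Subtype.ext ?_)
    have hle : E ≤ Subgroup.centralizer {(u : Aˣ)} := hgen.le.trans ((Subgroup.closure_le _).2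
      fun y hy => Subgroup.mem_centralizer_singleton_iff.2 (hh y hy).symm)
    exact Subgroup.mem_centralizer_singleton_iff.1 (hle g.2)
  have hyE : y ∈ E := by
    rw [hgen]; exact Subgroup.subset_closure hy
  obtain ⟨ζ, hζ, hquad⟩ := hq y hy
  set lam : E := u * ⟨y, hyE⟩ * u⁻¹ * ⟨y, hyE⟩⁻¹ with hlam
  have hlamc : lam ∈ Subgroup.center E := by
    rw [← QuotientGroup.eq_one_iff, hlam]
    have h1 := Subgroup.mem_center_iff.1 hū (QuotientGroup.mk (⟨y, hyE⟩ : E))
    simp only [QuotientGroup.mk_mul, QuotientGroup.mk_inv]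
    rw [← h1]
    group
  have hlam1 : lam ≠ 1 := fun h => hyu (by
    have h1 := congrArg Subtype.val h
    simp only [hlam, Subgroup.coe_mul, Subgroup.coe_inv, Subgroup.coe_one] at h1
    rw [mul_inv_eq_one, mul_inv_eq_iff_eq_mul] at h1
    exact h1)
  set l : A := ((lam : Aˣ) : A) with hl
  set Y : A := (y : A)
  set Uu : A := ((u : Aˣ) : A)
  have hlE : ∀ e ∈ E, Commute l (e : A) := fun e he => by
    have h1 := congrArg (fun g : E => ((g : Aˣ) : A)) (Subgroup.mem_center_iff.1 hlamc ⟨e, he⟩)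
    simp only [Subgroup.coe_mul, Units.val_mul] at h1
    exact h1.symm
  have hUy : Uu * Y = l * Y * Uu := by
    have h1 : (u : Aˣ) * y = (lam : Aˣ) * y * u := by
      simp only [hlam, Subgroup.coe_mul, Subgroup.coe_inv]
      group
    exact congrArg Units.val h1
  have hUl : Uu * l = l * Uu := (hlE u u.2).eq.symm
  have hUζ : Uu * ζ = ζ * Uu := (hζ u u.2).eq.symm
  have hlY : Commute l Y := hlE y hyE
  have hζl : Commute ζ l := hζ lam lam.2
  have hζY : Commute ζ Y := hζ y hyE
  have hcancel : ∀ a : A, a * Uu = 0 → a = 0 := fun a h => (Units.mul_left_eq_zero (u : Aˣ)).1 h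
  -- conjugating by `u` replaces `y` by `l * y`
  have hq2 : (l * Y - 1) * (l * Y - ζ) = 0 := by
    refine hcancel _ ?_
    calc (l * Y - 1) * (l * Y - ζ) * Uu = (l * Y - 1) * (Uu * (Y - ζ)) := by
          rw [mul_assoc, sub_mul (l * Y) ζ Uu, mul_sub Uu, hUy, hUζ]
      _ = Uu * ((Y - 1) * (Y - ζ)) := by
          rw [← mul_assoc, ← mul_assoc, sub_mul (l * Y) 1 Uu, mul_sub Uu Y 1, hUy, one_mul, mul_one]
      _ = 0 := by rw [hquad, mul_zero]
  let C := Subring.closure ({l, Y, ζ} : Set A)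
  letI : CommRing C := Subring.closureCommRingOfComm (by
    intro a ha b hb
    simp only [Set.mem_insert_iff, Set.mem_singleton_iff] at ha hb
    rcases ha with rfl | rfl | rfl <;> rcases hb with rfl | rfl | rfl <;>
      first | rfl | exact hlY.eq | exact hlY.eq.symm | exact hζl.eq | exact hζl.eq.symm | exact hζY.eq |
        exact hζY.eq.symm)
  let lc : C := ⟨l, Subring.subset_closure (by simp)⟩
  let Yc : C := ⟨Y, Subring.subset_closure (by simp)⟩
  let ζc : C := ⟨ζ, Subring.subset_closure (by simp)⟩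
  have e1 : (Yc - 1) * (Yc - ζc) = 0 := Subtype.ext hquad
  have e2 : (lc * Yc - 1) * (lc * Yc - ζc) = 0 := Subtype.ext hq2
  have e3 : Yc * ((lc - 1) * ((lc + 1) * Yc - (1 + ζc))) = 0 := by linear_combination e2 - e1
  have e4 : (lc - 1) * ((lc + 1) * Yc - (1 + ζc)) = 0 := by
    have h1 : ((y : A)) * (((lc - 1) * ((lc + 1) * Yc - (1 + ζc)) : C) : A) = 0 := congrArg Subtype.val e3
    exact Subtype.ext ((Units.mul_right_eq_zero y).1 h1)
  have e5 : (lc - 1) * ((lc + 1) * (lc * Yc) - (1 + ζc)) = 0 := by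
    refine Subtype.ext (hcancel _ ?_)
    show (l - 1) * ((l + 1) * (l * Y) - (1 + ζ)) * Uu = 0
    have h2 : (l - 1) * ((l + 1) * Y - (1 + ζ)) = 0 := congrArg Subtype.val e4
    have sl : SemiconjBy Uu l l := hUl
    have sY : SemiconjBy Uu Y (l * Y) := hUy
    have sζ : SemiconjBy Uu ζ ζ := hUζ
    have s1 : SemiconjBy Uu 1 1 := SemiconjBy.one_right _
    have hs : SemiconjBy Uu ((l - 1) * ((l + 1) * Y - (1 + ζ))) ((l - 1) * ((l + 1) * (l * Y) - (1 + ζ))) :=
      (sl.sub_right s1).mul_right (((sl.add_right s1).mul_right sY).sub_right (s1.add_right sζ))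
    rw [← hs.eq, h2, mul_zero]
  have e6 : Yc * ((lc - 1) ^ 2 * (lc + 1)) = 0 := by linear_combination e5 - e4
  have h2c : (2 : C) = 0 := Subtype.ext h2
  have e7 : (lc - 1) ^ 2 * (lc + 1) = 0 := by
    have h1 : ((y : A)) * (((lc - 1) ^ 2 * (lc + 1) : C) : A) = 0 := congrArg Subtype.val e6
    exact Subtype.ext ((Units.mul_right_eq_zero y).1 h1)
  have e8 : lc ^ 4 = 1 := by
    linear_combination (lc + 1) * e7 + (lc ^ 2 - 1) * h2c
  refine hlam1 ?_
  have h4 : lam ^ 4 = 1 := Subtype.ext (Units.ext (by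
    rw [Subgroup.coe_pow, Units.val_pow_eq_pow_val]; exact congrArg Subtype.val e8))
  obtain ⟨k, hk⟩ := hE lam
  have hcop : (4 : ℕ).Coprime (p ^ k) := by
    have := (Nat.coprime_primes Nat.prime_two hp.out).2 (Ne.symm hp2)
    exact (this.pow 2 k)
  exact orderOf_eq_one_iff.1 (Nat.eq_one_of_dvd_coprimes hcop (orderOf_dvd_of_pow_eq_one h4)
    (orderOf_dvd_of_pow_eq_one hk))

/-- Elements of order `p` of a `p`-group whose supports are isotypic for each central element of
order `p` commute. -/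
theorem commute_of_isotypic {p : ℕ} [hp : Fact p.Prime] (hp2 : p ≠ 2) {P : Type w} [Group P] [Finite P]
    (hP : IsPGroup p P) (Y : Set P) :
    ∀ (d : ℕ) (W : Type v) [AddCommGroup W] [Module (ZMod 2) W] [Finite W] (σ : P →* Module.End (ZMod 2) W),
      Nat.card W ≤ d → (∀ y ∈ Y, σ y ^ p = 1) →
      (∀ z : Module.End (ZMod 2) W, z ^ p = 1 → (∀ g, Commute z (σ g)) → ∀ y ∈ Y, ∃ j : ℕ,
        ∀ w : W, z (σ y w - w) = (σ y ^ j) (σ y w - w)) →
      ∀ y₁ ∈ Y, ∀ y₂ ∈ Y, σ y₁ * σ y₂ = σ y₂ * σ y₁ := by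
  intro d
  induction d with
  | zero => intro W _ _ _ σ h; exact absurd h (by have := Nat.card_pos (α := W); omega)
  | succ d ih =>
  intro W _ _ _ σ hcard hYp hprop y₁ hy₁ y₂ hy₂
  classical
  by_cases htriv : ∀ g, σ g = 1
  · rw [htriv y₁, htriv y₂]
  push Not at htriv
  obtain ⟨g₀, hg₀⟩ := htriv
  let σu : P →* (Module.End (ZMod 2) W)ˣ := σ.toHomUnits
  have hσu : ∀ g, ((σu g : (Module.End (ZMod 2) W)ˣ) : Module.End (ZMod 2) W) = σ g := fun g => rfl
  haveI : Nontrivial σu.range := ⟨⟨⟨σu g₀, g₀, rfl⟩, 1, fun h => hg₀ (congrArg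
    (fun a : σu.range => ((a : (Module.End (ZMod 2) W)ˣ) : Module.End (ZMod 2) W)) h)⟩⟩
  haveI : Finite σu.range := .of_surjective (fun g : P => (⟨σu g, g, rfl⟩ : σu.range))
    fun ⟨_, g, e⟩ => ⟨g, Subtype.ext e⟩
  have hPr : IsPGroup p σu.range := hP.of_surjective σu.rangeRestrict σu.rangeRestrict_surjective
  haveI := hPr.center_nontrivial
  obtain ⟨m, hm0, hm⟩ : ∃ m > 0, Nat.card (Subgroup.center σu.range) = p ^ m :=
    (hPr.to_subgroup _).nontrivial_iff_card.1 inferInstance
  obtain ⟨c, hc⟩ := exists_prime_orderOf_dvd_card' (G := Subgroup.center σu.range) p (hm ▸ dvd_pow_self p hm0.ne')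
  obtain ⟨g, hg⟩ := (c : σu.range).2
  set z := σ g with hz
  have hzval : (((c : σu.range) : (Module.End (ZMod 2) W)ˣ) : Module.End (ZMod 2) W) = z := by rw [← hg, hσu]
  have hzp : z ^ p = 1 := by
    have h1 := congrArg (fun a : Subgroup.center σu.range =>
      (((a : σu.range) : (Module.End (ZMod 2) W)ˣ) : Module.End (ZMod 2) W)) (hc ▸ pow_orderOf_eq_one c : c ^ p = 1)
    simpa [hzval] using h1
  have hz1 : z ≠ 1 := fun h => hp.out.ne_one (by
    rw [← hc, orderOf_eq_one_iff]
    exact Subtype.ext (Subtype.ext (Units.ext (hzval.trans h))))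
  have hzc : ∀ h, Commute z (σ h) := fun h => by
    have h1 := congrArg (fun a : σu.range => ((a : (Module.End (ZMod 2) W)ˣ) : Module.End (ZMod 2) W))
      (Subgroup.mem_center_iff.1 c.2 ⟨σu h, h, rfl⟩)
    simp only [Subgroup.coe_mul, Units.val_mul, hzval, hσu] at h1
    exact h1.symm
  set π : Module.End (ZMod 2) W := ∑ i ∈ Finset.range p, z ^ i with hπ
  have hpodd : Odd p := hp.out.odd_of_ne_two hp2
  have hpsmul : ∀ w : W, (p : ℕ) • w = w := fun w => by
    obtain ⟨i, hi⟩ := hpodd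
    have h2 : ((2 : ℕ) : ZMod 2) = 0 := by decide
    rw [← Nat.cast_smul_eq_nsmul (ZMod 2), hi, Nat.cast_add, Nat.cast_mul, h2, zero_mul, zero_add, Nat.cast_one,
      one_smul]
  have hzπ : z * π = π := by
    have h1 : z * π - π = 0 := by
      rw [show z * π - π = (z - 1) * π by rw [sub_mul, one_mul], hπ, mul_geom_sum, hzp, sub_self]
    exact sub_eq_zero.1 h1
  have hπfix : ∀ w, z w = w → π w = w := by
    intro w hw
    have hi : ∀ i : ℕ, (z ^ i) w = w := fun i => by
      induction i with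
      | zero => simp
      | succ i hi => rw [pow_succ, Module.End.mul_apply, hw, hi]
    rw [hπ, LinearMap.sum_apply, Finset.sum_congr rfl fun i _ => hi i, Finset.sum_const, Finset.card_range, hpsmul]
  have hπc : ∀ h, Commute π (σ h) := fun h => Commute.sum_left _ _ _ fun i _ => (hzc h).pow_left i
  -- the fixed part
  set Fx := LinearMap.ker (z - 1) with hFx
  have hmemF : ∀ w, w ∈ Fx ↔ z w = w := fun w => by simp [hFx, LinearMap.mem_ker, sub_eq_zero]
  have hFinv : ∀ h, ∀ w ∈ Fx, σ h w ∈ Fx := fun h w hw => by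
    rw [hmemF, ← Module.End.mul_apply, (hzc h).eq, Module.End.mul_apply, (hmemF w).1 hw]
  have hπF : ∀ w, π w ∈ Fx := fun w => (hmemF _).2 (by rw [← Module.End.mul_apply, hzπ])
  let σF : P →* Module.End (ZMod 2) Fx :=
    { toFun := fun h => (σ h).restrict (hFinv h)
      map_one' := LinearMap.ext fun x => Subtype.ext (by simp)
      map_mul' := fun a b => LinearMap.ext fun x => Subtype.ext (by simp) }
  have hσFpow : ∀ (y : P) (i : ℕ) (x : Fx), (((σF y ^ i) x : Fx) : W) = (σ y ^ i) (x : W) := by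
    intro y i
    induction i with
    | zero => intro x; simp
    | succ i hi => intro x; rw [pow_succ, Module.End.mul_apply, hi, pow_succ, Module.End.mul_apply]; rfl
  have hF : σF y₁ * σF y₂ = σF y₂ * σF y₁ := by
    refine ih Fx σF ?_ (fun y hy => LinearMap.ext fun x => Subtype.ext (by rw [hσFpow, hYp y hy]; rfl))
      (fun z' hz' hz'c y hy => ?_) y₁ hy₁ y₂ hy₂
    · have h1 : Nat.card Fx < Nat.card W := by
        refine lt_of_le_of_ne (Nat.card_le_card_of_injective _ Subtype.val_injective) fun he => hz1 ?_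
        refine LinearMap.ext fun w => ?_
        obtain ⟨x, rfl⟩ := ((Nat.bijective_iff_injective_and_card _).2 ⟨Subtype.val_injective, he⟩).2 w
        exact (hmemF _).1 x.2
      omega
    let Z : Module.End (ZMod 2) W := Fx.subtype ∘ₗ z' ∘ₗ π.codRestrict Fx hπF + (1 - π)
    have hZv : ∀ w, Z w = (z' ⟨π w, hπF w⟩ : W) + (w - π w) := fun w => rfl
    have hππ : ∀ w, π (π w) = π w := fun w => hπfix _ ((hmemF _).1 (hπF w))
    have hZpow : ∀ (i : ℕ) (w : W), (Z ^ i) w = ((z' ^ i) ⟨π w, hπF w⟩ : W) + (w - π w) := by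
      intro i
      induction i with
      | zero => intro w; simp
      | succ i hi =>
        intro w
        rw [pow_succ', Module.End.mul_apply, hZv]
        have h1 : π ((Z ^ i) w) = ((z' ^ i) ⟨π w, hπF w⟩ : W) := by
          rw [hi, map_add, map_sub, hππ, sub_self, add_zero, hπfix _ ((hmemF _).1 ((z' ^ i) _).2)]
        rw [show (⟨π ((Z ^ i) w), hπF _⟩ : Fx) = (z' ^ i) ⟨π w, hπF w⟩ from Subtype.ext h1, h1, hi,
          pow_succ', Module.End.mul_apply]
        abel
    obtain ⟨j, hj⟩ := hprop Z (LinearMap.ext fun w => by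
        rw [hZpow, hz', Module.End.one_apply, Module.End.one_apply]; abel)
      (fun h => LinearMap.ext fun w => by
        have hππh : π (σ h w) = σ h (π w) := LinearMap.congr_fun (hπc h).eq w
        rw [Module.End.mul_apply, Module.End.mul_apply, hZv, hZv, map_add, map_sub]
        have h1 : z' ⟨π (σ h w), hπF _⟩ = σF h (z' ⟨π w, hπF w⟩) := by
          rw [← Module.End.mul_apply (σF h), ← (hz'c h).eq, Module.End.mul_apply]
          exact congrArg z' (Subtype.ext hππh)
        rw [h1, hππh]; rfl) y hy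
    refine ⟨j, fun x => Subtype.ext ?_⟩
    have hv : σ y x - x ∈ Fx := Fx.sub_mem (hFinv y _ x.2) x.2
    have h1 := hj (x : W)
    have hπv := hπfix _ ((hmemF _).1 hv)
    have e : (⟨π (σ y x - x), hπF _⟩ : Fx) = ⟨σ y x - x, hv⟩ := Subtype.ext hπv
    rw [hZv, e, hπv, sub_self, add_zero] at h1
    rw [hσFpow]
    exact h1
  -- the moved part
  set Mv := LinearMap.range (z - 1) with hMv
  have hMinv : ∀ h, ∀ w ∈ Mv, σ h w ∈ Mv := by
    rintro h _ ⟨w, rfl⟩
    exact ⟨σ h w, by
      show z (σ h w) - σ h w = σ h (z w - w)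
      rw [map_sub, ← Module.End.mul_apply, (hzc h).eq, Module.End.mul_apply]⟩
  have hMπ : ∀ w ∈ Mv, π w = 0 := by
    rintro _ ⟨w, rfl⟩
    rw [← Module.End.mul_apply, hπ, geom_sum_mul, hzp, sub_self, LinearMap.zero_apply]
  let σM : P →* Module.End (ZMod 2) Mv :=
    { toFun := fun h => (σ h).restrict (hMinv h)
      map_one' := LinearMap.ext fun x => Subtype.ext (by simp)
      map_mul' := fun a b => LinearMap.ext fun x => Subtype.ext (by simp) }
  have hσMpow : ∀ (y : P) (i : ℕ) (x : Mv), (((σM y ^ i) x : Mv) : W) = (σ y ^ i) (x : W) := by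
    intro y i
    induction i with
    | zero => intro x; simp
    | succ i hi => intro x; rw [pow_succ, Module.End.mul_apply, hi, pow_succ, Module.End.mul_apply]; rfl
  have hquad : ∀ y ∈ Y, ∃ i : ℕ, (σM y - 1) * (σM y - σM g ^ i) = 0 := by
    intro y hy
    obtain ⟨j, hj⟩ := hprop z hzp hzc y hy
    have hyc : ∀ a b : ℕ, (σ y ^ a) * z ^ b = z ^ b * σ y ^ a := fun a b => (((hzc y).pow_pow b a).eq).symm
    -- moved vectors in the support
    have hmv : ∀ x : Mv, ∀ a : ℕ, (σ y ^ (j * a)) (σ y x - x) = (z ^ a) (σ y x - x) := by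
      intro x a
      induction a with
      | zero => simp
      | succ a hi =>
        rw [Nat.mul_succ, pow_add, Module.End.mul_apply, ← hj, ← Module.End.mul_apply, ← pow_one z, hyc, pow_one,
          Module.End.mul_apply, hi, ← Module.End.mul_apply, ← pow_succ']
    by_cases hjp : p ∣ j
    · obtain ⟨j', rfl⟩ := hjp
      refine ⟨0, LinearMap.ext fun x => ?_⟩
      have hfix : ∀ x : Mv, σ y x - x = 0 := fun x => by
        have h1 := hj (x : W)
        rw [pow_mul, hYp y hy, one_pow, Module.End.one_apply] at h1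
        rw [← hπfix _ h1]
        exact hMπ _ (Mv.sub_mem (hMinv y _ x.2) x.2)
      rw [Module.End.mul_apply, pow_zero, LinearMap.zero_apply]
      refine Subtype.ext ?_
      show σ y (σ y (x : W) - x) - (σ y (x : W) - x) = 0
      rw [hfix, map_zero, sub_zero]
    obtain ⟨i, -, hi⟩ := Nat.exists_mul_mod_eq_one_of_coprime ((hp.out.coprime_iff_not_dvd.2 hjp).symm) hp.out.one_lt
    refine ⟨i, LinearMap.ext fun x => ?_⟩
    have h0 : (σM y - 1) * (σM y - σM g ^ i) = (σM y - σM g ^ i) * (σM y - 1) := by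
      have hc' : Commute (σM y) (σM g) := LinearMap.ext fun x => Subtype.ext (LinearMap.congr_fun (hzc y).eq.symm (x : W))
      exact (((Commute.refl _).sub_right (hc'.pow_right i)).sub_left (Commute.one_left _)).eq
    rw [h0, Module.End.mul_apply, LinearMap.sub_apply, LinearMap.zero_apply, sub_eq_zero]
    refine Subtype.ext ?_
    rw [hσMpow]
    have h1 : σ y (σ y (x : W) - x) = (z ^ i) (σ y x - x) := by
      have h2 : σ y ^ (j * i) = σ y := by
        rw [← Nat.mod_add_div (j * i) p, hi, pow_add, pow_one, pow_mul, hYp y hy, one_pow, mul_one]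
      rw [← hmv x i, h2]
    exact h1
  haveI : Finite (Module.End (ZMod 2) Mv) := DFunLike.finite _
  let σMu : P →* (Module.End (ZMod 2) Mv)ˣ := σM.toHomUnits
  have hM : σM y₁ * σM y₂ = σM y₂ * σM y₁ := by
    have hcl : Subgroup.closure {σMu y₁, σMu y₂} = (Subgroup.closure {y₁, y₂}).map σMu := by
      rw [MonoidHom.map_closure, Set.image_pair]
    refine congrArg Units.val (commute_of_quadratic (p := p) ?_ hp2 _
      (hcl.symm ▸ (hP.to_subgroup (Subgroup.closure {y₁, y₂})).map σMu) (σMu y₁) (σMu y₂) rfl ?_)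
    · refine LinearMap.ext fun x => ?_
      show (((2 : ℕ)) : Module.End (ZMod 2) Mv) x = 0
      rw [Module.End.natCast_apply, ← Nat.cast_smul_eq_nsmul (ZMod 2), ZMod.natCast_self, zero_smul]
    · intro u hu
      obtain ⟨y, hy, rfl⟩ : ∃ y ∈ Y, σMu y = u := by
        rcases hu with rfl | rfl
        exacts [⟨y₁, hy₁, rfl⟩, ⟨y₂, hy₂, rfl⟩]
      obtain ⟨i, hi⟩ := hquad y hy
      refine ⟨σM g ^ i, fun e he => ?_, hi⟩
      rw [hcl] at he
      obtain ⟨h, -, rfl⟩ := he
      refine Commute.pow_left ?_ i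
      exact LinearMap.ext fun x => Subtype.ext (LinearMap.congr_fun (hzc h).eq (x : W))
  refine LinearMap.ext fun w => ?_
  have hdec : w = π w + (w - π w) := by abel
  have hmem : w - π w ∈ Mv := by
    have h1 : w - π w = - ∑ i ∈ Finset.range p, ((z ^ i) w - w) := by
      rw [hπ, LinearMap.sum_apply, Finset.sum_sub_distrib, Finset.sum_const, Finset.card_range, hpsmul]; abel
    rw [h1]
    refine Mv.neg_mem (Submodule.sum_mem _ fun i _ => ?_)
    refine ⟨(∑ l ∈ Finset.range i, z ^ l) w, ?_⟩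
    rw [← Module.End.mul_apply, mul_geom_sum, LinearMap.sub_apply, Module.End.one_apply]
  have h1 := congrArg Subtype.val (LinearMap.congr_fun hF ⟨π w, hπF w⟩)
  have h2 := congrArg Subtype.val (LinearMap.congr_fun hM ⟨w - π w, hmem⟩)
  simp only [Module.End.mul_apply] at h1 h2 ⊢
  change σ y₁ (σ y₂ (π w)) = σ y₂ (σ y₁ (π w)) at h1
  change σ y₁ (σ y₂ (w - π w)) = σ y₂ (σ y₁ (w - π w)) at h2
  rw [hdec, map_add, map_add, map_add, map_add, h1, h2]

end Cfsg.Lib.HallHigman
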