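import Mathlib
import Cfsg.Agent.OddLocal.FullyRamified

/-!
Hall–Higman: an element of order `p ^ n` normalizing an abelian `p'`-group, whose element of order `p`
moves it, has minimal polynomial of degree `p ^ n`.
-/

set_option linter.style.haveILetI false
set_option linter.unusedSectionVars false

namespace Cfsg.Lib.HallHigman

open Module Subgroup

universe u v w

variable {K : Type u} [Field K] [IsAlgClosed K] {W : Type v} [AddCommGroup W] [Module K W]
  [FiniteDimensional K W] {Q : Type w} [Group Q]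

/-- A common eigenvector inside a non-zero invariant subspace. -/
theorem exists_common_eigenvector (hcomm : ∀ a b : Q, a * b = b * a) (ρ : Q →* Module.End K W) :
    ∀ (d : ℕ) (S : Submodule K W), finrank K S ≤ d → S ≠ ⊥ → (∀ a : Q, ∀ w ∈ S, ρ a w ∈ S) →
    ∃ v ∈ S, v ≠ 0 ∧ ∀ a : Q, ∃ c : K, ρ a v = c • v := by
  intro d
  induction d with
  | zero =>
    intro S hd hS _
    exact absurd (Submodule.finrank_eq_zero.1 (Nat.le_zero.1 hd)) hS
  | succ d ih =>
    intro S hd hS hinv
    by_cases hall : ∀ a : Q, ∃ c : K, ∀ w ∈ S, ρ a w = c • w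
    · obtain ⟨v, hv, hv0⟩ := Submodule.exists_mem_ne_zero_of_ne_bot hS
      exact ⟨v, hv, hv0, fun a => (hall a).imp fun c hc => hc v hv⟩
    push Not at hall
    obtain ⟨a, ha⟩ := hall
    haveI : Nontrivial S := Submodule.nontrivial_iff_ne_bot.2 hS
    obtain ⟨c, hc⟩ := Module.End.exists_eigenvalue ((ρ a).restrict (hinv a))
    obtain ⟨⟨u, hu⟩, hu'⟩ := hc.exists_hasEigenvector
    set S' := S ⊓ (ρ a).eigenspace c
    have huS' : u ∈ S' := ⟨hu, Module.End.mem_eigenspace_iff.2 (congrArg Subtype.val hu'.apply_eq_smul)⟩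
    obtain ⟨w, hw, hwne⟩ := ha c
    have hlt : S' < S := lt_of_le_of_ne inf_le_left fun e =>
      hwne (Module.End.mem_eigenspace_iff.1 ((e.ge hw).2))
    have h1 := Submodule.finrank_lt_finrank_of_lt hlt
    obtain ⟨v, hv, hrest⟩ := ih S' (by omega)
      (fun e => hu'.2 (Subtype.ext ((Submodule.eq_bot_iff _).1 e u huS'))) fun b x hx => ⟨hinv b x hx.1, Module.End.mem_eigenspace_iff.2 (by
        rw [← Module.End.mul_apply, ← map_mul, hcomm a b, map_mul,
          Module.End.mul_apply, Module.End.mem_eigenspace_iff.1 hx.2, map_smul])⟩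
    exact ⟨v, hv.1, hrest⟩

/-- Vectors with distinct eigenvalue functions are independent. -/
theorem sum_eq_zero_of_distinct {ι : Type*} [Fintype ι] (ρ : Q →* Module.End K W) (f : ι → Q → K)
    (v : ι → W) (hv : ∀ i a, ρ a (v i) = f i a • v i) (hv0 : ∀ i, v i ≠ 0) (hf : Function.Injective f) :
    LinearIndependent K v := by
  classical
  have hmul : ∀ i, ∀ a b : Q, f i (a * b) = f i a * f i b := by
    intro i a b
    apply smul_left_injective K (hv0 i)
    show f i (a * b) • v i = (f i a * f i b) • v i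
    rw [← hv, map_mul, Module.End.mul_apply, hv, map_smul, hv, smul_smul, mul_comm]
  have hone : ∀ i, f i 1 = 1 := by
    intro i
    apply smul_left_injective K (hv0 i)
    show f i 1 • v i = (1 : K) • v i
    rw [← hv, map_one, Module.End.one_apply, one_smul]
  let χ : ι → (Q →* K) := fun i => ⟨⟨f i, hone i⟩, hmul i⟩
  have hχ : Function.Injective χ := fun i j e => hf (congrArg (fun g : Q →* K => (g : Q → K)) e)
  rw [Fintype.linearIndependent_iff]
  intro g hg i
  by_contra hgi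
  obtain ⟨φ, hφ⟩ : ∃ φ : W →ₗ[K] K, φ (v i) ≠ 0 := by
    by_contra hh
    push Not at hh
    exact hv0 i ((Module.forall_dual_apply_eq_zero_iff K _).1 hh)
  have h1 : ∑ j, (g j * φ (v j)) • (f j : Q → K) = 0 := by
    funext a
    simp only [Finset.sum_apply, Pi.smul_apply, smul_eq_mul, Pi.zero_apply]
    have h2 := congrArg (fun w => φ (ρ a w)) hg
    simp only [map_sum, map_smul, hv, smul_eq_mul, map_zero] at h2
    rw [← h2]
    exact Finset.sum_congr rfl fun j _ => by ring
  have hli : LinearIndependent K (fun j => (χ j : Q → K)) := (linearIndependent_monoidHom Q K).comp χ hχ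
  exact hgi ((mul_eq_zero.1 (Fintype.linearIndependent_iff.1 hli _ h1 i)).resolve_right hφ)

/-- A regular orbit of eigenvalue functions gives a free cyclic submodule. -/
theorem pow_sub_one_apply_ne_zero_of_orbit (ρ : Q →* Module.End K W) (θ : Module.End K W) (hθ : IsUnit θ)
    (σ : Q → Q) (hσ : ∀ a, θ * ρ (σ a) = ρ a * θ) (v : W) (f : Q → K) (hv : ∀ a, ρ a v = f a • v) (hv0 : v ≠ 0)
    (N : ℕ) (hN : Set.InjOn (fun i => f ∘ σ^[i]) (Set.Iio N)) (hpos : 0 < N) :
    ((θ - 1) ^ (N - 1)) v ≠ 0 := by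
  have hkey : ∀ i : ℕ, ∀ a, ρ a ((θ ^ i) v) = f (σ^[i] a) • (θ ^ i) v := by
    intro i
    induction i with
    | zero => intro a; simpa using hv a
    | succ i ih =>
      intro a
      rw [pow_succ', Module.End.mul_apply, ← Module.End.mul_apply (ρ a) θ, ← hσ, Module.End.mul_apply,
        ih (σ a), map_smul, ← Function.iterate_succ_apply]
  have hne : ∀ i : ℕ, (θ ^ i) v ≠ 0 := fun i h => hv0 (((Module.End.isUnit_iff _).1 (hθ.pow i)).1 (by rw [h, map_zero]))
  have hli := sum_eq_zero_of_distinct ρ (fun i : Fin N => fun a => f (σ^[i] a)) (fun i => (θ ^ (i : ℕ)) v)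
    (fun i a => hkey i a) (fun i => hne i) fun i j e => Fin.ext (hN i.2 j.2 e)
  intro h0
  set P : Polynomial K := (Polynomial.X - 1) ^ (N - 1)
  have hdeg : P.natDegree = N - 1 := by
    rw [Polynomial.natDegree_pow, ← Polynomial.C_1, Polynomial.natDegree_X_sub_C, mul_one]
  have h1 : ∑ i : Fin N, P.coeff i • (θ ^ (i : ℕ)) v = 0 := by
    have h2 : Polynomial.aeval θ P = (θ - 1) ^ (N - 1) := by simp [P]
    rw [Polynomial.aeval_eq_sum_range' (n := N) (by omega)] at h2
    have h3 := (LinearMap.congr_fun h2 v).trans h0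
    rw [← Fin.sum_univ_eq_sum_range (fun i => P.coeff i • θ ^ i)] at h3
    simpa using h3
  have h4 := Fintype.linearIndependent_iff.1 hli _ h1 ⟨N - 1, by omega⟩
  have hmon : P.Monic := by
    show ((Polynomial.X - 1 : Polynomial K) ^ (N - 1)).Monic
    rw [← Polynomial.C_1]
    exact (Polynomial.monic_X_sub_C 1).pow _
  have h5 := hmon.coeff_natDegree
  rw [hdeg] at h5
  exact one_ne_zero (h5.symm.trans h4)

theorem pow_sub_one_ne_zero_of_orbit (ρ : Q →* Module.End K W) (θ : Module.End K W) (hθ : IsUnit θ)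
    (σ : Q → Q) (hσ : ∀ a, θ * ρ (σ a) = ρ a * θ) (v : W) (f : Q → K) (hv : ∀ a, ρ a v = f a • v) (hv0 : v ≠ 0)
    (N : ℕ) (hN : Set.InjOn (fun i => f ∘ σ^[i]) (Set.Iio N)) (hpos : 0 < N) :
    (θ - 1) ^ (N - 1) ≠ 0 := fun h =>
  pow_sub_one_apply_ne_zero_of_orbit ρ θ hθ σ hσ v f hv hv0 N hN hpos (by rw [h, LinearMap.zero_apply])

/-- Exact period of a point of `p`-power period. -/
theorem injOn_iterate {α : Type*} (T : α → α) (x : α) {p n : ℕ} (hp : p.Prime)
    (hper : T^[p ^ (n + 1)] x = x) (hne : T^[p ^ n] x ≠ x) :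
    Set.InjOn (fun i => T^[i] x) (Set.Iio (p ^ (n + 1))) := by
  have hd : Function.minimalPeriod T x ∣ p ^ (n + 1) := Function.IsPeriodicPt.minimalPeriod_dvd hper
  obtain ⟨j, hj, hje⟩ := (Nat.dvd_prime_pow hp).1 hd
  rcases eq_or_lt_of_le hj with rfl | hlt
  · rw [← hje]; exact Function.iterate_injOn_Iio_minimalPeriod
  · refine absurd ?_ hne
    have h1 : Function.minimalPeriod T x ∣ p ^ n := hje ▸ Nat.pow_dvd_pow p (by omega)
    exact (Function.isPeriodicPt_minimalPeriod T x).trans_dvd h1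

/-- The operator-level theorem. -/
theorem abelian_core [Finite Q] (hcomm : ∀ a b : Q, a * b = b * a) (hQK : ((Nat.card Q : ℕ) : K) ≠ 0)
    (ρ : Q →* Module.End K W) (hρ : Function.Injective ρ) (θ : Module.End K W) {p n : ℕ} (hp : p.Prime)
    (hθ : θ ^ p ^ (n + 1) = 1) (σ : Q → Q) (hσ : ∀ a, θ * ρ (σ a) = ρ a * θ) (hmove : σ^[p ^ n] ≠ id) :
    (θ - 1) ^ (p ^ (n + 1) - 1) ≠ 0 := by
  have hpos : 0 < p ^ (n + 1) := pow_pos hp.pos _
  have hpos' : p ^ (n + 1) ≠ 0 := hpos.ne'
  have hunit : IsUnit θ := IsUnit.of_pow_eq_one hθ hpos'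
  have hiter : ∀ i : ℕ, ∀ a, θ ^ i * ρ (σ^[i] a) = ρ a * θ ^ i := by
    intro i
    induction i with
    | zero => simp
    | succ i ih => intro a; rw [pow_succ', mul_assoc, Function.iterate_succ_apply, ih (σ a), ← mul_assoc, hσ, mul_assoc]
  have hper : ∀ a, σ^[p ^ (n + 1)] a = a := fun a => hρ (by
    have := hiter (p ^ (n + 1)) a
    rwa [hθ, one_mul, mul_one] at this)
  obtain ⟨a, ha⟩ := Function.ne_iff.1 hmove
  set b := σ^[p ^ n] a
  have hcard : ∀ c : Q, (ρ c) ^ Nat.card Q = 1 := fun c => by rw [← map_pow, pow_card_eq_one', map_one]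
  obtain ⟨μ, w₀, hwa, hwb⟩ : ∃ (μ : K) (w : W), ρ a w = μ • w ∧ ρ b w ≠ μ • w := by
    by_contra hh
    push Not at hh
    refine ha (hρ (LinearMap.ext_on (Cfsg.Lib.OddP.eigen_span hQK (ρ a) (hcard a)) ?_))
    rintro w ⟨μ, hμ⟩
    exact (hh μ w hμ).trans hμ.symm
  set S₀ := (ρ a).eigenspace μ
  have hbS : ∀ c : Q, ∀ w ∈ S₀, ρ c w ∈ S₀ := fun c w hw => by
    rw [Module.End.mem_eigenspace_iff, ← Module.End.mul_apply, ← map_mul, hcomm a c, map_mul,
      Module.End.mul_apply, Module.End.mem_eigenspace_iff.1 hw, map_smul]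
  have hspan := Cfsg.Lib.OddP.eigen_span hQK ((ρ b).restrict (hbS b)) (by
    have hr : ∀ (k : ℕ) (x : S₀), ((((ρ b).restrict (hbS b)) ^ k) x : W) = (ρ b ^ k) x := by
      intro k
      induction k with
      | zero => intro x; simp
      | succ k ih =>
        intro x
        rw [pow_succ', Module.End.mul_apply, pow_succ', Module.End.mul_apply]
        show ρ b _ = _
        exact congrArg (ρ b) (ih x)
    exact LinearMap.ext fun x => Subtype.ext (by rw [hr, hcard b]; rfl))
  obtain ⟨ν, u, hu, hu0, hν⟩ : ∃ (ν : K) (u : W), u ∈ S₀ ∧ u ≠ 0 ∧ ν ≠ μ ∧ ρ b u = ν • u := by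
    by_contra hh
    push Not at hh
    have h1 : (ρ b).restrict (hbS b) = μ • 1 := by
      refine LinearMap.ext_on hspan ?_
      rintro ⟨x, hx⟩ ⟨ν, hν⟩
      have h2 : ρ b x = ν • x := congrArg Subtype.val hν
      refine Subtype.ext ?_
      show ρ b x = μ • x
      by_cases hx0 : x = 0
      · simp [hx0]
      by_cases hνμ : ν = μ
      · rw [h2, hνμ]
      · exact absurd h2 (hh ν x hx hx0 hνμ)
    exact hwb (congrArg Subtype.val (LinearMap.congr_fun h1 ⟨w₀, Module.End.mem_eigenspace_iff.2 hwa⟩))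
  set S := S₀ ⊓ (ρ b).eigenspace ν
  obtain ⟨v, hv, hv0, heig⟩ := exists_common_eigenvector hcomm ρ _ S le_rfl
    (fun e => hu0 ((Submodule.eq_bot_iff _).1 e u ⟨hu, Module.End.mem_eigenspace_iff.2 hν.2⟩))
    fun c w hw => ⟨hbS c w hw.1, Module.End.mem_eigenspace_iff.2 (by
      rw [← Module.End.mul_apply, ← map_mul, hcomm b c, map_mul,
        Module.End.mul_apply, Module.End.mem_eigenspace_iff.1 hw.2, map_smul])⟩
  choose f hf using heig
  have hfa : f a = μ := smul_left_injective K hv0 ((hf a).symm.trans (Module.End.mem_eigenspace_iff.1 hv.1))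
  have hfb : f b = ν := smul_left_injective K hv0 ((hf b).symm.trans (Module.End.mem_eigenspace_iff.1 hv.2))
  let T : (Q → K) → (Q → K) := fun g => g ∘ σ
  have hT : ∀ (i : ℕ) (g : Q → K), T^[i] g = g ∘ σ^[i] := by
    intro i
    induction i with
    | zero => intro g; rfl
    | succ i ih => intro g; rw [Function.iterate_succ_apply', ih, Function.iterate_succ]; rfl
  have hinj := injOn_iterate T f hp (by rw [hT]; funext c; exact congrArg f (hper c)) (by
    rw [hT]; intro e
    exact hν.1 (by rw [← hfb, ← hfa]; exact congrFun e a))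
  simp only [hT] at hinj
  exact pow_sub_one_ne_zero_of_orbit ρ θ hunit σ hσ v f hf hv0 _ hinj hpos

/-- The theorem over a prime field. -/
theorem abelian_core_zmod {p : ℕ} [Fact p.Prime] {H : Type v} [Group H] {V : Type w} [AddCommGroup V] [Module (ZMod p) V]
    [FiniteDimensional (ZMod p) V] (ρ : H →* Module.End (ZMod p) V) (hρ : Function.Injective ρ) (A : Subgroup H)
    [Finite A] (hA : IsMulCommutative A) (hcop : (Nat.card A).Coprime p) (x : H) (hxA : x ∈ normalizer (A : Set H))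
    (n : ℕ) (hx : x ^ p ^ (n + 1) = 1) (hmove : ∃ a ∈ A, a * x ^ p ^ n ≠ x ^ p ^ n * a) :
    (ρ x - 1) ^ (p ^ (n + 1) - 1) ≠ 0 := by
  classical
  let b := Module.finBasis (ZMod p) V
  let ι := AlgebraicClosure (ZMod p)
  let Φ : Module.End (ZMod p) V →+* Module.End ι (Fin (finrank (ZMod p) V) → ι) :=
    ((Matrix.toLinAlgEquiv' : Matrix _ _ ι ≃ₐ[ι] _).toRingEquiv.toRingHom.comp
      (algebraMap (ZMod p) ι).mapMatrix).comp (LinearMap.toMatrixAlgEquiv b).toRingEquiv.toRingHom
  have hΦ : Function.Injective Φ := by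
    intro f g e
    exact (LinearMap.toMatrixAlgEquiv b).injective
      (Matrix.map_injective (algebraMap (ZMod p) ι).injective (Matrix.toLinAlgEquiv'.injective e))
  let ρA : A →* Module.End ι (Fin (finrank (ZMod p) V) → ι) := (Φ.toMonoidHom.comp ρ).comp A.subtype
  have hmem : ∀ a : A, x⁻¹ * (a : H) * x ∈ A := fun a => (mem_normalizer_iff''.1 hxA a).1 a.2
  let σ : A → A := fun a => ⟨x⁻¹ * (a : H) * x, hmem a⟩
  have hσv : ∀ (i : ℕ) (a : A), ((σ^[i] a : A) : H) = (x ^ i)⁻¹ * a * x ^ i := by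
    intro i
    induction i with
    | zero => intro a; simp
    | succ i ih =>
      intro a
      rw [Function.iterate_succ_apply', show ((σ (σ^[i] a) : A) : H) = x⁻¹ * ((σ^[i] a : A) : H) * x from rfl, ih,
        pow_succ]
      group
  have hchar : CharP ι p := charP_of_injective_algebraMap (algebraMap (ZMod p) ι).injective p
  have hQK : ((Nat.card A : ℕ) : ι) ≠ 0 := by
    rw [Ne, CharP.cast_eq_zero_iff ι p]
    exact fun h => (Fact.out (p := p.Prime)).ne_one (Nat.eq_one_of_dvd_coprimes hcop h dvd_rfl)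
  intro h0
  refine abelian_core (K := ι) (p := p) (fun a c => hA.is_comm.comm a c) hQK ρA
    ((hΦ.comp hρ).comp A.subtype_injective) (Φ (ρ x)) (Fact.out) (n := n) ?_ σ (fun a => ?_) ?_ ?_
  · rw [← map_pow, ← map_pow, hx, map_one, map_one]
  · show Φ (ρ x) * Φ (ρ (x⁻¹ * (a : H) * x)) = Φ (ρ a) * Φ (ρ x)
    rw [← map_mul, ← map_mul, ← map_mul, ← map_mul]
    congr 2
    group
  · intro e
    obtain ⟨a, ha, hne⟩ := hmove
    refine hne ?_
    have h1 := congrArg Subtype.val (congrFun e ⟨a, ha⟩)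
    rw [hσv, id_eq] at h1
    calc a * x ^ p ^ n = x ^ p ^ n * ((x ^ p ^ n)⁻¹ * a * x ^ p ^ n) := by group
      _ = x ^ p ^ n * a := by rw [show (x ^ p ^ n)⁻¹ * a * x ^ p ^ n = a from h1]
  · rw [← map_one Φ, ← map_sub, ← map_pow, h0, map_zero]

end Cfsg.Lib.HallHigman
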