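import Mathlib
import Cfsg.Agent.OddLocal.FullyRamified

/-!
Tools for the critical case of the Hall–Higman theorem.
-/

set_option linter.style.haveILetI false
set_option linter.unusedSectionVars false

namespace Cfsg.Lib.HallHigman

open Module

universe u v w

variable {K : Type u} [Field K]

/-- The centralizer of an endomorphism. -/
def endCentralizer {V : Type v} [AddCommGroup V] [Module K V] (u : Module.End K V) : Submodule K (Module.End K V) :=
  LinearMap.ker (LinearMap.mulLeft K u - LinearMap.mulRight K u)

theorem mem_endCentralizer {V : Type v} [AddCommGroup V] [Module K V] {u f : Module.End K V} :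
    f ∈ endCentralizer u ↔ u * f = f * u := by
  simp [endCentralizer, LinearMap.mem_ker, sub_eq_zero]

/-- If `u ^ s = 0` then `(dim V) ^ 2 ≤ s * dim C(u)`. -/
theorem sq_le_mul_finrank_centralizer : ∀ (d : ℕ) (V : Type v) [AddCommGroup V] [Module K V] [FiniteDimensional K V]
    (u : Module.End K V) (s : ℕ), finrank K V ≤ d → u ^ s = 0 →
    finrank K V * finrank K V ≤ s * finrank K (endCentralizer u) := by
  intro d
  induction d with
  | zero => intro V _ _ _ u s hd _; simp [Nat.le_zero.1 hd]
  | succ d ih =>
    intro V _ _ _ u s hd hu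
    induction s with
    | zero =>
      have h0 : ∀ w : V, w = 0 := fun w => by
        have := LinearMap.congr_fun hu w
        simpa using this
      haveI : Subsingleton V := ⟨fun a b => by rw [h0 a, h0 b]⟩
      simp [Module.finrank_zero_of_subsingleton]
    | succ t iht =>
      by_cases hut : u ^ t = 0
      · exact (iht hut).trans (Nat.mul_le_mul_right _ (Nat.le_succ t))
      clear iht
      obtain ⟨v, hv⟩ : ∃ v, (u ^ t) v ≠ 0 := by
        by_contra hh
        push Not at hh
        exact hut (LinearMap.ext fun w => by simp [hh w])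
      have hzero : ∀ k, t < k → ∀ w, (u ^ k) w = 0 := fun k hk w => by
        rw [pow_eq_zero_of_le hk hu, LinearMap.zero_apply]
      have hcomp : ∀ (a b : ℕ) (w : V), (u ^ a) ((u ^ b) w) = (u ^ (a + b)) w := fun a b w => by
        rw [pow_add, Module.End.mul_apply]
      have hli : LinearIndependent K (fun i : Fin (t + 1) => (u ^ (i : ℕ)) v) := by
        rw [Fintype.linearIndependent_iff]
        intro g hg i
        induction i using WellFoundedLT.induction with
        | _ i ihi =>
          have h1 := congrArg (u ^ (t - i : ℕ)) hg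
          rw [map_sum, map_zero, Finset.sum_eq_single i] at h1
          · rw [map_smul, hcomp, show t - (i : ℕ) + i = t by omega] at h1
            exact (smul_eq_zero.1 h1).resolve_right hv
          · intro j _ hj
            rw [map_smul, hcomp]
            rcases lt_or_gt_of_ne hj with h | h
            · rw [ihi j h, zero_smul]
            · rw [hzero _ (by have := Fin.lt_def.1 h; omega), smul_zero]
          · simp
      obtain ⟨α, hα'⟩ := ((Basis.span hli).coord (Fin.last t)).exists_extend
      have hα : ∀ k, k ≤ t → α ((u ^ k) v) = if k = t then 1 else 0 := by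
        intro k hk
        have h1 := LinearMap.congr_fun hα' (Basis.span hli ⟨k, by omega⟩)
        rw [LinearMap.comp_apply, Submodule.subtype_apply, Basis.coord_apply, Basis.repr_self,
          Finsupp.single_apply] at h1
        rw [Basis.span_apply] at h1
        rw [h1]
        simp [Fin.ext_iff]
      have hcomb : ∀ (c : ℕ → (V →ₗ[K] K)) (z : V) (x : V),
          (∑ i : Fin (t + 1), LinearMap.smulRight (c i) ((u ^ (i : ℕ)) z) : Module.End K V) x =
            ∑ i : Fin (t + 1), c i x • (u ^ (i : ℕ)) z := by
        intro c z x; simp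
      -- the maps `x ↦ ∑ β (u ^ (t - i) x) • u ^ i z`
      let g : (V →ₗ[K] K) → V → Module.End K V := fun β z =>
        ∑ i : Fin (t + 1), LinearMap.smulRight (β.comp (u ^ (t - i : ℕ))) ((u ^ (i : ℕ)) z)
      have hg : ∀ β z x, g β z x = ∑ i : Fin (t + 1), β ((u ^ (t - i : ℕ)) x) • (u ^ (i : ℕ)) z := by
        intro β z x; simp [g]
      have hgcomm : ∀ β z, g β z ∈ endCentralizer u := by
        intro β z
        rw [mem_endCentralizer]
        refine LinearMap.ext fun x => ?_
        rw [Module.End.mul_apply, Module.End.mul_apply, hg, hg, map_sum]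
        simp only [map_smul]
        have e1 : ∀ i : ℕ, u ((u ^ i) z) = (u ^ (i + 1)) z := fun i => by rw [pow_succ', Module.End.mul_apply]
        have e2 : ∀ i : ℕ, (u ^ i) (u x) = (u ^ (i + 1)) x := fun i => by rw [pow_succ, Module.End.mul_apply]
        simp only [e1, e2]
        rw [Fin.sum_univ_castSucc, Fin.sum_univ_succ]
        simp only [Fin.val_last, Fin.val_castSucc, Fin.val_zero, Fin.val_succ, Nat.sub_zero,
          hzero (t + 1) (Nat.lt_succ_self t), smul_zero, add_zero, map_zero, zero_smul, zero_add]
        refine Finset.sum_congr rfl fun i _ => ?_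
        rw [show t - (i : ℕ) = t - ((i : ℕ) + 1) + 1 by omega]
      have hgv : ∀ z, g α z v = z := by
        intro z
        rw [hg, Finset.sum_eq_single (0 : Fin (t + 1))]
        · simp [hα t le_rfl]
        · intro i _ hi
          have : (i : ℕ) ≠ 0 := fun h => hi (Fin.ext h)
          rw [hα _ (Nat.sub_le t i), if_neg (by omega), zero_smul]
        · simp
      have hgz : ∀ β (f : Module.End K V), u * f = f * u → ∀ z x, f (g β z x) = g β (f z) x := by
        intro β f hf z x
        rw [hg, hg, map_sum]
        refine Finset.sum_congr rfl fun i _ => ?_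
        rw [map_smul, ← Module.End.mul_apply, (Commute.pow_left hf (i : ℕ)).symm.eq, Module.End.mul_apply]
      set P := g α v with hPdef
      have hPu : u * P = P * u := mem_endCentralizer.1 (hgcomm α v)
      have hPP : ∀ x, P (P x) = P x := fun x => by
        rw [hPdef, hgz α P hPu, hgv]
      have hPuk : ∀ (k : ℕ) x, P ((u ^ k) x) = (u ^ k) (P x) := fun k x => by
        rw [← Module.End.mul_apply, ((Commute.pow_left hPu k).symm).eq, Module.End.mul_apply]
      set W := LinearMap.ker P with hW
      have hπmem : ∀ x, x - P x ∈ W := fun x => by rw [hW, LinearMap.mem_ker, map_sub, hPP, sub_self]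
      let π : V →ₗ[K] W := LinearMap.codRestrict W (1 - P) (fun x => by simpa using hπmem x)
      have hπv : ∀ x, (π x : V) = x - P x := fun x => rfl
      have huW : ∀ x ∈ W, u x ∈ W := fun x hx => by
        rw [hW, LinearMap.mem_ker, ← Module.End.mul_apply, ← hPu, Module.End.mul_apply, LinearMap.mem_ker.1 hx, map_zero]
      let uW : Module.End K W := u.restrict huW
      have hpowW : ∀ (k : ℕ) (x : W), ((uW ^ k) x : V) = (u ^ k) x := by
        intro k
        induction k with
        | zero => intro x; simp
        | succ k ihk =>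
          intro x
          rw [pow_succ', Module.End.mul_apply, pow_succ', Module.End.mul_apply]
          exact congrArg u (ihk x)
      have hrangeP : finrank K (LinearMap.range P) = t + 1 := by
        have hfix : ∀ k, k ≤ t → P ((u ^ k) v) = (u ^ k) v := fun k _ => by rw [hPuk, hgv]
        have heq : LinearMap.range P = Submodule.span K (Set.range fun i : Fin (t + 1) => (u ^ (i : ℕ)) v) := by
          refine le_antisymm ?_ (Submodule.span_le.2 ?_)
          · rintro _ ⟨x, rfl⟩
            rw [hPdef, hg]
            exact Submodule.sum_mem _ fun i _ => Submodule.smul_mem _ _ (Submodule.subset_span ⟨i, rfl⟩)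
          · rintro _ ⟨i, rfl⟩
            exact ⟨_, hfix i (by omega)⟩
        rw [heq, finrank_span_eq_card hli, Fintype.card_fin]
      have hdim : finrank K V = t + 1 + finrank K W := by
        rw [← hrangeP, hW, LinearMap.finrank_range_add_finrank_ker]
      have hrec := ih W uW (t + 1) (by omega) (LinearMap.ext fun x => Subtype.ext (by
        rw [hpowW, hzero _ (Nat.lt_succ_self t)]; rfl))
      -- injection `V × W* × C(u|W) → C(u)`
      have hext : ∀ h : endCentralizer uW, W.subtype.comp ((h : Module.End K W).comp π) ∈ endCentralizer u := by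
        intro h
        rw [mem_endCentralizer]
        refine LinearMap.ext fun x => ?_
        have hc := mem_endCentralizer.1 h.2
        have hπu : π (u x) = uW (π x) := Subtype.ext (by
          show u x - P (u x) = u (x - P x)
          rw [map_sub, ← Module.End.mul_apply P u, ← hPu, Module.End.mul_apply])
        show u ((h : Module.End K W) (π x) : V) = ((h : Module.End K W) (π (u x)) : V)
        rw [hπu]
        exact congrArg Subtype.val (LinearMap.congr_fun hc (π x))
      let Λ : V × (W →ₗ[K] K) × endCentralizer uW →ₗ[K] Module.End K V :=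
        { toFun := fun p => g α p.1 + g (p.2.1.comp π) v + W.subtype.comp ((p.2.2 : Module.End K W).comp π)
          map_add' := fun a b => by
            refine LinearMap.ext fun x => ?_
            simp only [LinearMap.add_apply, hg, LinearMap.comp_apply, Prod.fst_add, Prod.snd_add, map_add,
              smul_add, add_smul, Finset.sum_add_distrib, Submodule.coe_add, LinearMap.add_apply, Submodule.coe_subtype]
            abel
          map_smul' := fun c a => by
            refine LinearMap.ext fun x => ?_
            simp only [LinearMap.add_apply, hg, LinearMap.comp_apply, Prod.smul_fst, Prod.smul_snd, map_smul,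
              SetLike.val_smul, LinearMap.smul_apply, smul_eq_mul, mul_smul, smul_add, Finset.smul_sum,
              RingHom.id_apply, Submodule.coe_subtype]
            simp [smul_comm c] }
      have hΛ : Function.Injective Λ := by
        rw [injective_iff_map_eq_zero]
        rintro ⟨z, β, h⟩ h0
        have hx : ∀ x, g α z x + g (β.comp π) v x + ((h : Module.End K W) (π x) : V) = 0 :=
          fun x => LinearMap.congr_fun h0 x
        have hπU : ∀ k, π ((u ^ k) v) = 0 := fun k => Subtype.ext (by rw [hπv, hPuk, hgv, sub_self]; rfl)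
        have hz : z = 0 := by
          have h1 := hx v
          have h2 : g (β.comp π) v v = 0 := by
            rw [hg]
            exact Finset.sum_eq_zero fun i _ => by rw [LinearMap.comp_apply, hπU, map_zero, zero_smul]
          have h3 : π v = 0 := by simpa using hπU 0
          rw [hgv, h2, h3, map_zero] at h1
          simpa using h1
        have hgz0 : ∀ x, g α z x = 0 := fun x => by rw [hz, hg]; simp
        have hPf : ∀ x, P (g (β.comp π) v x) = g (β.comp π) v x := fun x => by
          rw [hgz (β.comp π) P hPu, hgv]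
        have hh0 : ∀ w : W, (h : Module.End K W) w = 0 ∧ g (β.comp π) v w = 0 := by
          intro w
          have hπw : π (w : V) = w := Subtype.ext (by rw [hπv, LinearMap.mem_ker.1 w.2, sub_zero])
          have h1 := hx w
          rw [hgz0, zero_add, hπw] at h1
          have h2 := congrArg P h1
          rw [map_add, map_zero, hPf, LinearMap.mem_ker.1 ((h : Module.End K W) w).2, add_zero] at h2
          rw [h2, zero_add] at h1
          exact ⟨Subtype.ext h1, h2⟩
        refine Prod.ext hz (Prod.ext ?_ (Subtype.ext (LinearMap.ext fun w => (hh0 w).1)))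
        refine LinearMap.ext fun w => ?_
        have h2 := (hh0 w).2
        rw [hg] at h2
        have h3 := Fintype.linearIndependent_iff.1 hli _ h2 (Fin.last t)
        have hπw : π (w : V) = w := Subtype.ext (by rw [hπv, LinearMap.mem_ker.1 w.2, sub_zero])
        simpa [hπw] using h3
      have hmem : ∀ p, Λ p ∈ endCentralizer u := fun p =>
        add_mem (add_mem (hgcomm α p.1) (hgcomm _ v)) (hext p.2.2)
      have hle := LinearMap.finrank_le_finrank_of_injective (f := Λ.codRestrict _ hmem) (fun a b e =>
        hΛ (congrArg Subtype.val e))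
      haveI : Module.Free K (endCentralizer uW) := @Module.Free.of_divisionRing K (endCentralizer uW) _ (endCentralizer uW).addCommGroup _
      rw [Module.finrank_prod, Module.finrank_prod, Module.finrank_linearMap, Module.finrank_self, mul_one] at hle
      rw [hdim] at hle ⊢
      calc (t + 1 + finrank K W) * (t + 1 + finrank K W)
          = (t + 1) * (t + 1 + finrank K W + finrank K W) + finrank K W * finrank K W := by ring
        _ ≤ (t + 1) * (t + 1 + finrank K W + finrank K W) + (t + 1) * finrank K (endCentralizer uW) :=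
            Nat.add_le_add_left hrec _
        _ = (t + 1) * (t + 1 + finrank K W + (finrank K W + finrank K (endCentralizer uW))) := by ring
        _ ≤ _ := Nat.mul_le_mul_left _ hle

/-- If `θ` of order dividing `N = p ^ n` permutes a group of invertible order fixed point freely, then
on the vectors killed by the sum of the group it acts freely: every fixed vector is a norm. -/
theorem fixed_eq_norm {M : Type v} [AddCommGroup M] [Module K M] {Q : Type w} [Group Q] [Fintype Q]
    (ρ : Q →* Module.End K M) (θ : Module.End K M) (N : ℕ) (hN : 0 < N) (hθ : θ ^ N = 1)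
    (σ : Equiv.Perm Q) (hσN : σ ^ N = 1) (hσ : ∀ u, θ * ρ u = ρ (σ u) * θ) (hσ1 : σ 1 = 1)
    (hfree : ∀ i, 0 < i → i < N → ∀ u, (σ ^ i) u = u → u = 1) :
    ∃ φ : Module.End K M, ∀ v, θ v = v → v = (∑ u, ρ u) v + (∑ i ∈ Finset.range N, θ ^ i) (φ v) := by
  classical
  let c := Fintype.equivFin Q
  set R := Finset.univ.filter fun r : Q => r ≠ 1 ∧ ∀ i : ℕ, c r ≤ c ((σ ^ i) r) with hR
  have hiter : ∀ i u, θ ^ i * ρ u = ρ ((σ ^ i) u) * θ ^ i := by
    intro i
    induction i with
    | zero => simp
    | succ i ih => intro u; rw [pow_succ', mul_assoc, ih, ← mul_assoc, hσ, mul_assoc, pow_succ' σ]; rfl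
  have hper : ∀ i u, (σ ^ (i % N)) u = (σ ^ i) u := fun i u => by
    conv_rhs => rw [← Nat.mod_add_div i N, pow_add, pow_mul, hσN, one_pow, mul_one]
  have hone : ∀ i, (σ ^ i) 1 = 1 := by
    intro i
    induction i with
    | zero => rfl
    | succ i ih => rw [pow_succ', Equiv.Perm.mul_apply, ih, hσ1]
  have hbij : ∑ r ∈ R, ∑ i ∈ Finset.range N, ρ ((σ ^ i) r) = ∑ u ∈ Finset.univ.erase 1, ρ u := by
    rw [← Finset.sum_product' (f := fun r i => ρ ((σ ^ i) r))]
    refine Finset.sum_bij (fun p _ => (σ ^ p.2) p.1) ?_ ?_ ?_ (fun _ _ => rfl)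
    · rintro ⟨r, i⟩ hp
      simp only [Finset.mem_product, hR, Finset.mem_filter] at hp
      simp only [Finset.mem_erase, Finset.mem_univ, and_true]
      intro e
      exact hp.1.2.1 ((σ ^ i).injective (e.trans (hone i).symm))
    · rintro ⟨r, i⟩ hp ⟨r', j⟩ hp' e
      simp only [Finset.mem_product, hR, Finset.mem_filter, Finset.mem_range] at hp hp'
      have e' : (σ ^ i) r = (σ ^ j) r' := e
      have key : ∀ a b : ℕ, a < N → ∀ s s' : Q, (σ ^ a) s = (σ ^ b) s' → s = (σ ^ (b + (N - a))) s' := by
        intro a b ha s s' h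
        rw [add_comm, pow_add, Equiv.Perm.mul_apply, ← h, ← Equiv.Perm.mul_apply, ← pow_add,
          Nat.sub_add_cancel ha.le, hσN, Equiv.Perm.one_apply]
      have h1 := key i j hp.2 r r' e'
      have h2 := key j i hp'.2 r' r e'.symm
      have hrr : r = r' := c.injective (le_antisymm (h2 ▸ hp.1.2.2 _) (h1 ▸ hp'.1.2.2 _))
      subst hrr
      refine Prod.ext rfl ?_
      show i = j
      by_contra hij
      rcases lt_or_gt_of_ne hij with h | h
      · refine hp.1.2.1 (hfree (j - i) (by omega) (by omega) r ((σ ^ i).injective ?_))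
        rw [← Equiv.Perm.mul_apply, ← pow_add, show i + (j - i) = j by omega]
        exact e'.symm
      · refine hp.1.2.1 (hfree (i - j) (by omega) (by omega) r ((σ ^ j).injective ?_))
        rw [← Equiv.Perm.mul_apply, ← pow_add, show j + (i - j) = i by omega]
        exact e'
    · intro u hu
      simp only [Finset.mem_erase, Finset.mem_univ, and_true] at hu
      obtain ⟨k, -, hk⟩ := (Finset.range N).exists_min_image (fun i => c ((σ ^ i) u)) ⟨0, Finset.mem_range.2 hN⟩
      refine ⟨((σ ^ k) u, (N - k % N) % N), ?_, ?_⟩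
      · simp only [Finset.mem_product, hR, Finset.mem_filter, Finset.mem_range, Finset.mem_univ, true_and]
        refine ⟨⟨fun e => hu ((σ ^ k).injective (e.trans (hone k).symm)), fun i => ?_⟩, Nat.mod_lt _ hN⟩
        rw [← Equiv.Perm.mul_apply (σ ^ i), ← pow_add]
        exact (hk _ (Finset.mem_range.2 (Nat.mod_lt (i + k) hN))).trans_eq (congrArg c (hper (i + k) u))
      · show (σ ^ ((N - k % N) % N)) ((σ ^ k) u) = u
        rw [hper, ← hper k u, ← Equiv.Perm.mul_apply, ← pow_add,
          Nat.sub_add_cancel (Nat.mod_lt _ hN).le, hσN, Equiv.Perm.one_apply]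
  refine ⟨-∑ r ∈ R, ρ r, fun v hv => ?_⟩
  have hfix : ∀ i, (θ ^ i) v = v := by
    intro i
    induction i with
    | zero => simp
    | succ i ih => rw [pow_succ', Module.End.mul_apply, ih, hv]
  have h1 : (∑ i ∈ Finset.range N, θ ^ i) ((-∑ r ∈ R, ρ r) v) = -(∑ u ∈ Finset.univ.erase 1, ρ u) v := by
    rw [← hbij, Finset.sum_comm]
    simp only [LinearMap.sum_apply, LinearMap.neg_apply, map_neg, map_sum, ← Finset.sum_neg_distrib]
    rw [Finset.sum_comm]
    refine Finset.sum_congr rfl fun i _ => Finset.sum_congr rfl fun r _ => ?_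
    rw [← Module.End.mul_apply, hiter, Module.End.mul_apply, hfix]
  rw [h1, ← Finset.add_sum_erase _ _ (Finset.mem_univ (1 : Q)), map_one, LinearMap.add_apply, Module.End.one_apply,
    add_neg_cancel_right]

/-- Dimension count for an exact nilpotent operator. -/
theorem finrank_eq_mul_ker {M : Type v} [AddCommGroup M] [Module K M] [FiniteDimensional K M] (u : Module.End K M)
    (N : ℕ) (hu : u ^ N = 0) (hex : LinearMap.ker u ≤ LinearMap.range (u ^ (N - 1))) :
    finrank K M = N * finrank K (LinearMap.ker u) := by
  have hcomp : ∀ (a b : ℕ) (w : M), (u ^ a) ((u ^ b) w) = (u ^ (a + b)) w := fun a b w => by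
    rw [pow_add, Module.End.mul_apply]
  have hsurj : ∀ k, k < N → ∀ v, (u ^ k) v = 0 → ∃ w, u w = v := by
    intro k
    induction k with
    | zero => intro _ v hv; exact ⟨0, by simpa using hv.symm⟩
    | succ k ih =>
      intro hk v hv
      rw [pow_succ', Module.End.mul_apply] at hv
      obtain ⟨w, hw⟩ := hex (LinearMap.mem_ker.2 hv)
      obtain ⟨w', hw'⟩ := ih (by omega) (v - (u ^ (N - 1 - k)) w) (by
        rw [map_sub, hcomp, show k + (N - 1 - k) = N - 1 by omega, hw, sub_self])
      refine ⟨w' + (u ^ (N - 1 - k - 1)) w, ?_⟩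
      rw [map_add, hw', ← Module.End.mul_apply, ← pow_succ', show N - 1 - k - 1 + 1 = N - 1 - k by omega,
        sub_add_cancel]
  have hk : ∀ k, k ≤ N → finrank K (LinearMap.ker (u ^ k)) = k * finrank K (LinearMap.ker u) := by
    intro k
    induction k with
    | zero => intro _; simp [pow_zero, Module.End.one_eq_id]
    | succ k ih =>
      intro hk
      let f : LinearMap.ker (u ^ (k + 1)) →ₗ[K] LinearMap.ker (u ^ k) :=
        (u.comp (LinearMap.ker (u ^ (k + 1))).subtype).codRestrict _ fun x => by
          rw [LinearMap.mem_ker]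
          show (u ^ k) (u x) = 0
          rw [← Module.End.mul_apply, ← pow_succ]
          exact LinearMap.mem_ker.1 x.2
      have hf : Function.Surjective f := fun y => by
        obtain ⟨w, hw⟩ := hsurj k (by omega) y (LinearMap.mem_ker.1 y.2)
        refine ⟨⟨w, ?_⟩, Subtype.ext hw⟩
        rw [LinearMap.mem_ker, pow_succ, Module.End.mul_apply, hw]
        exact LinearMap.mem_ker.1 y.2
      have hker : finrank K (LinearMap.ker f) = finrank K (LinearMap.ker u) := by
        refine LinearEquiv.finrank_eq
          { toFun := fun x => ⟨x.1.1, congrArg Subtype.val (LinearMap.mem_ker.1 x.2)⟩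
            map_add' := fun _ _ => rfl
            map_smul' := fun _ _ => rfl
            invFun := fun x => ⟨⟨x.1, by
              rw [LinearMap.mem_ker, pow_succ, Module.End.mul_apply, LinearMap.mem_ker.1 x.2, map_zero]⟩,
              LinearMap.mem_ker.2 (Subtype.ext (LinearMap.mem_ker.1 x.2))⟩
            left_inv := fun _ => rfl
            right_inv := fun _ => rfl }
      rw [← LinearMap.finrank_range_add_finrank_ker f, LinearMap.range_eq_top.2 hf, finrank_top, ih (by omega), hker]
      ring
  have := hk N le_rfl
  rwa [hu, LinearMap.ker_zero, finrank_top] at this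

/-- An irreducible representation of a `q`-group has `q`-power degree. -/
theorem degree_prime_pow [IsAlgClosed K] {q : ℕ} [hq : Fact q.Prime] (hqK : (q : K) ≠ 0) :
    ∀ (n : ℕ) (Q : Type w) [Group Q] [Finite Q] (V : Type v) [AddCommGroup V] [Module K V] [FiniteDimensional K V]
      [Nontrivial V] (ρ : Q →* Module.End K V), Nat.card Q ≤ n → IsPGroup q Q →
      (∀ S : Submodule K V, (∀ g : Q, ∀ x ∈ S, ρ g x ∈ S) → S = ⊥ ∨ S = ⊤) → ∃ b, finrank K V = q ^ b := by
  intro n
  induction n with
  | zero => intro Q _ _ _ _ _ _ _ _ h; exact absurd h (by have := Nat.card_pos (α := Q); omega)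
  | succ n ih =>
    intro Q _ _ V _ _ _ _ ρ hn hQ hirr
    by_cases htr : ∀ g : Q, ∀ v, ∃ c : K, ρ g v = c • v
    · obtain ⟨v, hv⟩ := exists_ne (0 : V)
      have hspan : Submodule.span K {v} = ⊤ := (hirr _ fun g x hx => by
        obtain ⟨c, rfl⟩ := Submodule.mem_span_singleton.1 hx
        obtain ⟨e, he⟩ := htr g v
        rw [map_smul, he, smul_smul]
        exact Submodule.smul_mem _ _ (Submodule.mem_span_singleton_self v)).resolve_left
          (fun h => hv ((Submodule.eq_bot_iff _).1 h v (Submodule.mem_span_singleton_self v)))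
      exact ⟨0, by rw [← finrank_top K V, ← hspan, finrank_span_singleton hv, pow_zero]⟩
    have hnt : Nontrivial Q := by
      by_contra hh
      rw [not_nontrivial_iff_subsingleton] at hh
      exact htr fun g v => ⟨1, by rw [Subsingleton.elim g 1, map_one, one_smul]; rfl⟩
    haveI := hnt
    obtain ⟨m, hm⟩ := IsPGroup.iff_card.1 hQ
    have hm1 : m ≠ 0 := fun h => by
      have := Finite.one_lt_card (α := Q)
      rw [hm, h, pow_zero] at this
      exact lt_irrefl _ this
    obtain ⟨M, hM⟩ := Sylow.exists_subgroup_card_pow_prime q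
      (show q ^ (m - 1) ∣ Nat.card Q from hm ▸ Nat.pow_dvd_pow q (Nat.sub_le m 1))
    have hidx : M.index = q := by
      have h := M.card_mul_index
      rw [hM, hm, ← Nat.sub_add_cancel (Nat.one_le_iff_ne_zero.2 hm1), pow_succ, Nat.sub_add_cancel (Nat.one_le_iff_ne_zero.2 hm1)] at h
      exact Nat.eq_of_mul_eq_mul_left (pow_pos hq.out.pos _) h
    haveI hMn : M.Normal := Subgroup.normal_of_index_eq_minFac_card (by rw [hidx, hm, hq.out.pow_minFac hm1])
    obtain ⟨a, ha⟩ : ∃ a, a ∉ M := by
      by_contra hh
      push Not at hh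
      rw [(Subgroup.eq_top_iff' M).2 hh, Subgroup.index_top] at hidx
      exact hq.out.ne_one hidx.symm
    -- a minimal `M`-invariant subspace
    obtain ⟨S, ⟨hS0, hSinv⟩, hSmin⟩ := WellFounded.has_min (wellFounded_lt (α := Submodule K V))
      {S | S ≠ ⊥ ∧ ∀ g ∈ M, ∀ x ∈ S, ρ g x ∈ S} ⟨⊤, top_ne_bot, fun _ _ _ _ => trivial⟩
    haveI : Nontrivial S := Submodule.nontrivial_iff_ne_bot.2 hS0
    let ρS : M →* Module.End K S :=
      { toFun := fun g => (ρ g).restrict (hSinv g g.2)
        map_one' := LinearMap.ext fun x => Subtype.ext (by simp)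
        map_mul' := fun g k => LinearMap.ext fun x => Subtype.ext (by simp) }
    obtain ⟨b, hb⟩ := ih M S ρS (by
        have h := M.card_mul_index
        rw [hidx] at h
        have := Nat.mul_le_mul_left (Nat.card M) hq.out.two_le
        have := Nat.card_pos (α := M)
        omega)
      (hQ.to_subgroup M) (fun U hU => by
        by_contra hh
        push Not at hh
        obtain ⟨hU0, hUt⟩ := hh
        refine hSmin (U.map S.subtype) ⟨fun e => hU0 ?_, ?_⟩ (lt_of_le_of_ne (Submodule.map_subtype_le S U) fun e => hUt ?_)
        · exact (Submodule.eq_bot_iff _).2 fun x hx => Subtype.ext ((Submodule.eq_bot_iff _).1 e _ ⟨x, hx, rfl⟩)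
        · rintro g hg _ ⟨x, hx, rfl⟩
          exact ⟨_, hU ⟨g, hg⟩ x hx, rfl⟩
        · refine Submodule.eq_top_iff'.2 fun x => ?_
          obtain ⟨y, hy, he⟩ := e.ge x.2
          exact Subtype.ext he ▸ hy)
    -- translates
    let Si : ℕ → Submodule K V := fun i => S.map (ρ (a ^ i))
    have hunit : ∀ g : Q, Function.Injective (ρ g) := fun g x y e => by
      have := congrArg (ρ g⁻¹) e
      rwa [← Module.End.mul_apply, ← Module.End.mul_apply, ← map_mul, inv_mul_cancel, map_one,
        Module.End.one_apply, Module.End.one_apply] at this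
    have hSiinv : ∀ i, ∀ g ∈ M, ∀ x ∈ Si i, ρ g x ∈ Si i := by
      rintro i g hg _ ⟨x, hx, rfl⟩
      refine ⟨ρ ((a ^ i)⁻¹ * g * a ^ i) x, hSinv _ (by simpa using hMn.conj_mem g hg (a ^ i)⁻¹) x hx, ?_⟩
      rw [← Module.End.mul_apply, ← Module.End.mul_apply, ← map_mul, ← map_mul]
      congr 2; group
    have hSimin : ∀ i, ∀ U : Submodule K V, U ≤ Si i → (∀ g ∈ M, ∀ x ∈ U, ρ g x ∈ U) → U = ⊥ ∨ U = Si i := by
      intro i U hU hUinv
      by_contra hh
      push Not at hh
      refine hSmin (U.comap (ρ (a ^ i))) ⟨fun e => hh.1 ?_, fun g hg x hx => ?_⟩ (lt_of_le_of_ne ?_ fun e => hh.2 ?_)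
      · rw [Submodule.eq_bot_iff]
        intro y hy
        obtain ⟨x, hx, rfl⟩ := hU hy
        rw [(Submodule.eq_bot_iff _).1 e x hy, map_zero]
      · show ρ (a ^ i) (ρ g x) ∈ U
        rw [← Module.End.mul_apply, ← map_mul, show a ^ i * g = (a ^ i * g * (a ^ i)⁻¹) * a ^ i by group, map_mul,
          Module.End.mul_apply]
        exact hUinv _ (hMn.conj_mem g hg _) _ hx
      · intro x hx
        obtain ⟨y, hy, he⟩ := hU hx
        exact hunit _ he ▸ hy
      · refine le_antisymm hU ?_
        rintro _ ⟨x, hx, rfl⟩
        exact e.ge hx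
    have hfin : ∀ i, finrank K (Si i) = finrank K S := fun i =>
      (Submodule.equivMapOfInjective (ρ (a ^ i)) (hunit _) S).finrank_eq.symm
    let T : ℕ → Submodule K V := fun j => (Finset.range j).sup Si
    have hTinv : ∀ j, ∀ g ∈ M, ∀ x ∈ T j, ρ g x ∈ T j := by
      intro j g hg x hx
      have : T j ≤ (T j).comap (ρ g) :=
        Finset.sup_le fun i hi y hy => (Finset.le_sup (f := Si) hi) (hSiinv i g hg y hy)
      exact this hx
    have hTsucc : ∀ j, T (j + 1) = Si j ⊔ T j := fun j => by simp [T, Finset.range_add_one]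
    have hex : ∃ j, Si j ≤ T j := by
      by_contra hh
      push Not at hh
      have hgrow : ∀ j, j ≤ finrank K (T j) := by
        intro j
        induction j with
        | zero => exact Nat.zero_le _
        | succ j ihj =>
          have hlt : T j < T (j + 1) := by
            rw [hTsucc]; exact lt_of_le_of_ne le_sup_right fun e => hh j (e ▸ le_sup_left)
          have := Submodule.finrank_lt_finrank_of_lt hlt
          omega
      have := (hgrow (finrank K V + 1)).trans (Submodule.finrank_le _)
      omega
    classical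
    set k := Nat.find hex with hk
    have hk' : Si k ≤ T k := Nat.find_spec hex
    have hTdim : ∀ j ≤ k, finrank K (T j) = j * finrank K S := by
      intro j
      induction j with
      | zero =>
        intro _
        rw [show T 0 = (⊥ : Submodule K V) from by simp [T], finrank_bot, zero_mul]
      | succ j ihj =>
        intro hj
        have hdis : Si j ⊓ T j = ⊥ := (hSimin j _ inf_le_left (fun g hg x hx =>
          ⟨hSiinv j g hg x hx.1, hTinv j g hg x hx.2⟩)).resolve_right fun e => Nat.find_min hex (show j < k by omega) (e ▸ inf_le_right)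
        have h1 := Submodule.finrank_sup_add_finrank_inf_eq (Si j) (T j)
        rw [hdis, finrank_bot, add_zero, ihj (by omega), hfin, ← hTsucc] at h1
        rw [h1]; ring
    -- `T k` is invariant
    have hk0 : k ≠ 0 := fun e => by
      rw [e] at hk'
      have h0 : Si 0 = ⊥ := le_bot_iff.1 (by simpa [T] using hk')
      refine hS0 ((Submodule.eq_bot_iff _).2 fun x hx => ?_)
      have := (Submodule.eq_bot_iff _).1 h0 (ρ (a ^ 0) x) ⟨x, hx, rfl⟩
      simpa using this
    have hTk : ∀ g, ∀ x ∈ T k, ρ g x ∈ T k := by
      have hA : ∀ x ∈ T k, ρ a x ∈ T k := fun x hx => by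
        have : T k ≤ (T k).comap (ρ a) := Finset.sup_le fun i hi => by
          rintro _ ⟨y, hy, rfl⟩
          have h1 : ρ (a ^ (i + 1)) y ∈ T k := by
            rcases eq_or_lt_of_le (Nat.succ_le_of_lt (Finset.mem_range.1 hi)) with e | e
            · exact hk' ⟨y, hy, by rw [← e]⟩
            · exact (Finset.le_sup (f := Si) (Finset.mem_range.2 e)) ⟨y, hy, rfl⟩
          show ρ a (ρ (a ^ i) y) ∈ T k
          rwa [← Module.End.mul_apply, ← map_mul, ← pow_succ']
        exact this hx
      have hgen : M ⊔ Subgroup.zpowers a = ⊤ := by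
        have h1 : (M ⊔ Subgroup.zpowers a).index ∣ q := hidx ▸ Subgroup.index_dvd_of_le le_sup_left
        rcases (Nat.dvd_prime hq.out).1 h1 with e | e
        · exact Subgroup.index_eq_one.1 e
        · exfalso
          have h2 := Subgroup.relIndex_mul_index (le_sup_left : M ≤ M ⊔ Subgroup.zpowers a)
          rw [e, hidx] at h2
          have h3 : M.relIndex (M ⊔ Subgroup.zpowers a) = 1 :=
            Nat.eq_of_mul_eq_mul_right hq.out.pos (h2.trans (one_mul q).symm)
          exact ha (Subgroup.relIndex_eq_one.1 h3 (Subgroup.mem_sup_right (Subgroup.mem_zpowers a)))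
      intro g
      have hg : g ∈ Subgroup.closure ((M : Set Q) ∪ {a}) := by
        rw [Subgroup.closure_union, Subgroup.closure_eq, ← Subgroup.zpowers_eq_closure, hgen]; trivial
      induction hg using Subgroup.closure_induction with
      | mem y hy =>
        rcases hy with hy | hy
        · exact hTinv k y hy
        · exact fun x hx => hy ▸ hA x hx
      | one => intro x hx; simpa using hx
      | mul y z _ _ hy hz => intro x hx; rw [map_mul]; exact hy _ (hz x hx)
      | inv y _ hy =>
        intro x hx
        have hsurj : (T k).map (ρ y) = T k := by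
          refine Submodule.eq_of_le_of_finrank_eq (by rintro _ ⟨z, hz, rfl⟩; exact hy z hz) ?_
          exact (Submodule.equivMapOfInjective (ρ y) (hunit _) _).finrank_eq.symm
        obtain ⟨z, hz, rfl⟩ := hsurj.ge hx
        rwa [← Module.End.mul_apply, ← map_mul, inv_mul_cancel, map_one, Module.End.one_apply]
    have hTtop : T k = ⊤ := (hirr _ hTk).resolve_left fun e => by
      have h1 := hTdim k le_rfl
      rw [e, finrank_bot] at h1
      have : 0 < finrank K S := Module.finrank_pos
      exact hk0 ((Nat.mul_eq_zero.1 h1.symm).resolve_right this.ne')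
    have hd : finrank K V = k * q ^ b := by rw [← finrank_top K V, ← hTtop, hTdim k le_rfl, hb]
    have hkq : k ≤ q := by
      refine Nat.find_min' hex ?_
      have haq : a ^ q ∈ M := hidx ▸ Subgroup.pow_index_mem M a
      rintro _ ⟨x, hx, rfl⟩
      exact (Finset.le_sup (f := Si) (Finset.mem_range.2 hq.out.pos)) ⟨ρ (a ^ q) x, hSinv _ haq x hx, by simp⟩
    rcases eq_or_lt_of_le hkq with e | hklt
    · exact ⟨b + 1, by rw [hd, e]; ring⟩
    suffices h1 : k = 1 from ⟨b, by rw [hd, h1, one_mul]⟩
    by_contra hk1
    -- the centralizer of `M` contains an eigenvector of conjugation by `a`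
    let E : Submodule K (Module.End K V) := ⨅ g : M, endCentralizer (ρ g)
    have hE : ∀ f, f ∈ E ↔ ∀ g ∈ M, ρ g * f = f * ρ g := fun f => by
      simp [E, Submodule.mem_iInf, mem_endCentralizer]
    have hEinv : ∀ f ∈ E, (LinearMap.mulLeft K (ρ a) * LinearMap.mulRight K (ρ a⁻¹)) f ∈ E := by
      intro f hf
      rw [hE] at hf ⊢
      intro g hg
      have h1 := hf (a⁻¹ * g * a) (by simpa using hMn.conj_mem g hg a⁻¹)
      show ρ g * (ρ a * (f * ρ a⁻¹)) = ρ a * (f * ρ a⁻¹) * ρ g
      calc ρ g * (ρ a * (f * ρ a⁻¹)) = ρ a * (ρ (a⁻¹ * g * a) * f) * ρ a⁻¹ := by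
            simp only [map_mul, mul_assoc]
            rw [← mul_assoc (ρ a) (ρ a⁻¹), ← map_mul, mul_inv_cancel, map_one, one_mul]
        _ = ρ a * (f * ρ (a⁻¹ * g * a)) * ρ a⁻¹ := by rw [h1]
        _ = _ := by
            simp only [map_mul, mul_assoc]
            rw [← map_mul ρ a a⁻¹, mul_inv_cancel, map_one, mul_one]
    let τ : Module.End K E := (LinearMap.mulLeft K (ρ a) * LinearMap.mulRight K (ρ a⁻¹)).restrict hEinv
    have hτv : ∀ f : E, (τ f : Module.End K V) = ρ a * (f.1 * ρ a⁻¹) := fun f => rfl
    have hτ : τ ^ q = 1 := by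
      have hpw : ∀ (j : ℕ) (f : E), ((τ ^ j) f : Module.End K V) = ρ (a ^ j) * f.1 * ρ (a ^ j)⁻¹ := by
        intro j
        induction j with
        | zero => intro f; simp
        | succ j ihj =>
          intro f
          rw [pow_succ', Module.End.mul_apply, hτv, ihj, pow_succ', mul_inv_rev, map_mul, map_mul]
          simp only [mul_assoc]
      refine LinearMap.ext fun f => Subtype.ext ?_
      rw [hpw, (hE f.1).1 f.2 _ (hidx ▸ Subgroup.pow_index_mem M a), mul_assoc, ← map_mul, mul_inv_cancel, map_one,
        mul_one]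
      rfl
    obtain ⟨f, μ, hμ, hfμ, hf0⟩ : ∃ (f : E) (μ : K), μ ≠ 1 ∧ τ f = μ • f ∧ f ≠ 0 := by
      by_contra hh
      push Not at hh
      have hfixall : τ = 1 := LinearMap.ext_on (Cfsg.Lib.OddP.eigen_span (K := K) hqK τ hτ) (by
        rintro f ⟨μ, hfμ⟩
        by_cases hμ : μ = 1
        · rw [hfμ, hμ, one_smul]; rfl
        · rw [hh f μ hμ hfμ]; simp)
      -- every element of `E` commutes with `a`, hence is scalar
      have hdis : Si 0 ⊓ T k = Si 0 := inf_eq_left.2 (Finset.le_sup (f := Si) (Finset.mem_range.2 (Nat.pos_of_ne_zero hk0)))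
      set U := (Finset.Ioo 0 k).sup Si with hUdef
      have hUinv : ∀ g ∈ M, ∀ x ∈ U, ρ g x ∈ U := fun g hg x hx => by
        have : U ≤ U.comap (ρ g) := Finset.sup_le fun i hi y hy => (Finset.le_sup (f := Si) hi) (hSiinv i g hg y hy)
        exact this hx
      have hcompl : IsCompl (Si 0) U := by
        have htop : Si 0 ⊔ U = ⊤ := by
          rw [← hTtop, hUdef, ← Finset.sup_insert, Finset.Ioo_insert_left (Nat.pos_of_ne_zero hk0)]
          simp only [T, ← Nat.Ico_zero_eq_range]
        refine ⟨disjoint_iff.2 ?_, codisjoint_iff.2 htop⟩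
        refine (hSimin 0 _ inf_le_left fun g hg x hx => ⟨hSiinv 0 g hg x hx.1, hUinv g hg x hx.2⟩).resolve_right fun e => ?_
        have hle : Si 0 ≤ U := e ▸ inf_le_right
        rw [sup_eq_right.2 hle] at htop
        have h2 : finrank K U ≤ (k - 1) * finrank K S := by
          have hgen : ∀ s : Finset ℕ, finrank K ((s.sup Si : Submodule K V)) ≤ s.card * finrank K S := by
            intro s
            induction s using Finset.induction_on with
            | empty => simp
            | @insert i s his ihs =>
              rw [Finset.sup_insert, Finset.card_insert_of_notMem his]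
              have := Submodule.finrank_sup_add_finrank_inf_eq (Si i) (s.sup Si)
              rw [hfin] at this
              rw [add_mul, one_mul]
              omega
          exact (hgen _).trans (by rw [Nat.card_Ioo, Nat.sub_zero])
        rw [htop, finrank_top, hd, hb] at h2
        have : 0 < q ^ b := pow_pos hq.out.pos b
        have := Nat.le_of_mul_le_mul_right h2 this
        omega
      set P := (Si 0).projection U hcompl with hP
      have hPE : P ∈ E := (hE _).2 fun g hg => LinearMap.ext fun x => by
        obtain ⟨y, hy, z, hz, rfl⟩ := Submodule.mem_sup.1 (hcompl.sup_eq_top ▸ Submodule.mem_top : x ∈ Si 0 ⊔ U)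
        simp [hP, Submodule.projection_apply_of_mem_left, Submodule.projection_apply_of_mem_right, hy, hz,
          hSiinv 0 g hg y hy, hUinv g hg z hz]
      have hPa : ρ a * P = P * ρ a := by
        have h1 := congrArg Subtype.val (LinearMap.congr_fun hfixall ⟨P, hPE⟩)
        rw [hτv, Module.End.one_apply] at h1
        calc ρ a * P = ρ a * (P * ρ a⁻¹) * ρ a := by
              rw [mul_assoc, mul_assoc, ← map_mul ρ a⁻¹ a, inv_mul_cancel, map_one, mul_one]
          _ = P * ρ a := by rw [h1]
      have hall : ∀ g : Q, ρ g * P = P * ρ g := by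
        have hgen2 : ∀ g : Q, g ∈ Subgroup.closure ((M : Set Q) ∪ {a}) := fun g => by
          have h1 : (M ⊔ Subgroup.zpowers a).index ∣ q := hidx ▸ Subgroup.index_dvd_of_le le_sup_left
          rw [Subgroup.closure_union, Subgroup.closure_eq, ← Subgroup.zpowers_eq_closure]
          rcases (Nat.dvd_prime hq.out).1 h1 with e | e
          · rw [Subgroup.index_eq_one.1 e]; trivial
          · exfalso
            have h2 := Subgroup.relIndex_mul_index (le_sup_left : M ≤ M ⊔ Subgroup.zpowers a)
            rw [e, hidx] at h2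
            exact ha (Subgroup.relIndex_eq_one.1 (Nat.eq_of_mul_eq_mul_right hq.out.pos (h2.trans (one_mul q).symm))
              (Subgroup.mem_sup_right (Subgroup.mem_zpowers a)))
        intro g
        induction hgen2 g using Subgroup.closure_induction with
        | mem y hy =>
          rcases hy with hy | hy
          · exact (hE _).1 hPE y hy
          · rw [hy]; exact hPa
        | one => simp
        | mul y z _ _ hy hz => rw [map_mul, mul_assoc, hz, ← mul_assoc, hy, mul_assoc]
        | inv y _ hy =>
          calc ρ y⁻¹ * P = ρ y⁻¹ * (P * ρ y) * ρ y⁻¹ := by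
                rw [mul_assoc, mul_assoc, ← map_mul ρ y y⁻¹, mul_inv_cancel, map_one, mul_one]
            _ = P * ρ y⁻¹ := by rw [← hy, ← mul_assoc, ← map_mul, inv_mul_cancel, map_one, one_mul]
      obtain ⟨c, hc⟩ := Cfsg.Lib.OddP.schur ρ hirr P fun g => (hall g).symm
      obtain ⟨y, hy, hy0⟩ := Submodule.exists_mem_ne_zero_of_ne_bot (p := Si 0) (fun e => by
        have := hfin 0
        rw [e, finrank_bot] at this
        have : 0 < finrank K S := Module.finrank_pos
        omega)
      have h1 : P y = y := by simp [hP, Submodule.projection_apply_of_mem_left, hy]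
      rw [hc] at h1
      have hc1 : c = 1 := smul_left_injective K hy0 (by simpa using h1)
      obtain ⟨z, hz, hz0⟩ := Submodule.exists_mem_ne_zero_of_ne_bot (p := U) (fun e => by
        have htop := hcompl.sup_eq_top
        rw [e, sup_bot_eq] at htop
        have := hfin 0
        rw [htop, finrank_top, hd, hb] at this
        have hpos : 0 < q ^ b := pow_pos hq.out.pos b
        exact hk1 (Nat.eq_of_mul_eq_mul_right hpos (this.trans (one_mul _).symm)))
      have h2 : P z = 0 := by simp [hP, Submodule.projection_apply_of_mem_right, hz]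
      rw [hc, hc1, one_smul] at h2
      exact hz0 h2
    set e : Module.End K V := f.1 with hedef
    have he0 : e ≠ 0 := fun h => hf0 (Subtype.ext h)
    have hea : ρ a * e = μ • (e * ρ a) := by
      have h1 : ρ a * (e * ρ a⁻¹) = μ • e := congrArg Subtype.val hfμ
      calc ρ a * e = ρ a * (e * ρ a⁻¹) * ρ a := by
            rw [mul_assoc, mul_assoc, ← map_mul ρ a⁻¹ a, inv_mul_cancel, map_one, mul_one]
        _ = μ • (e * ρ a) := by rw [h1, smul_mul_assoc]
    have heM := (hE e).1 f.2
    -- eigenvalues of `e` come in orbits under multiplication by `μ`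
    have hμ0 : μ ≠ 0 := fun h => by
      rw [h, zero_smul] at hea
      exact he0 (LinearMap.ext fun x => hunit a (by simpa using LinearMap.congr_fun hea x))
    obtain ⟨c, hc⟩ := Module.End.exists_eigenvalue e
    have hshift : ∀ ν : K, (e.eigenspace ν).map (ρ a) ≤ e.eigenspace (μ⁻¹ * ν) := by
      rintro ν _ ⟨x, hx, rfl⟩
      rw [Module.End.mem_eigenspace_iff]
      have h1 := LinearMap.congr_fun hea x
      rw [Module.End.mul_apply, LinearMap.smul_apply, Module.End.mul_apply, Module.End.mem_eigenspace_iff.1 hx,
        map_smul] at h1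
      rw [← smul_smul, h1, smul_smul, inv_mul_cancel₀ hμ0, one_smul]
    have hpowshift : ∀ (i : ℕ) (ν : K), (e.eigenspace ν).map (ρ (a ^ i)) ≤ e.eigenspace (μ⁻¹ ^ i * ν) := by
      intro i
      induction i with
      | zero => intro ν; simp [Module.End.one_eq_id]
      | succ i ihi =>
        intro ν
        rw [pow_succ', map_mul, Module.End.mul_eq_comp, Submodule.map_comp]
        refine (Submodule.map_mono (ihi ν)).trans ((hshift _).trans (le_of_eq ?_))
        rw [← mul_assoc, ← pow_succ']
    have hc0 : c ≠ 0 := by
      rintro rfl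
      refine he0 (LinearMap.ext fun x => ?_)
      have hinvker : ∀ g : Q, ∀ y ∈ e.eigenspace (0 : K), ρ g y ∈ e.eigenspace (0 : K) := by
        have hA : ∀ y ∈ e.eigenspace (0 : K), ρ a y ∈ e.eigenspace (0 : K) := fun y hy => by
          have := hshift 0 ⟨y, hy, rfl⟩
          simpa using this
        intro g
        have hgM : ∀ y : Q, y ∈ M → ∀ z ∈ e.eigenspace (0 : K), ρ y z ∈ e.eigenspace (0 : K) := fun y hy z hz => by
          rw [Module.End.mem_eigenspace_iff, ← Module.End.mul_apply, ← heM y hy, Module.End.mul_apply,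
            Module.End.mem_eigenspace_iff.1 hz, map_smul]
        obtain ⟨i, m', hm', rfl⟩ : ∃ i : ℕ, ∃ m' ∈ M, g = a ^ i * m' := by
          have hgen : M ⊔ Subgroup.zpowers a = ⊤ := by
            have h1 : (M ⊔ Subgroup.zpowers a).index ∣ q := hidx ▸ Subgroup.index_dvd_of_le le_sup_left
            rcases (Nat.dvd_prime hq.out).1 h1 with e' | e'
            · exact Subgroup.index_eq_one.1 e'
            · exfalso
              have h2 := Subgroup.relIndex_mul_index (le_sup_left : M ≤ M ⊔ Subgroup.zpowers a)
              rw [e', hidx] at h2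
              exact ha (Subgroup.relIndex_eq_one.1 (Nat.eq_of_mul_eq_mul_right hq.out.pos (h2.trans (one_mul q).symm))
                (Subgroup.mem_sup_right (Subgroup.mem_zpowers a)))
          obtain ⟨m', hm', y, hy, hg⟩ := Subgroup.mem_sup_of_normal_left.1 (hgen.ge (Subgroup.mem_top g))
          obtain ⟨i, rfl⟩ := (Submonoid.mem_powers_iff _ _).1 ((isOfFinOrder_of_finite a).mem_powers_iff_mem_zpowers.2 hy)
          exact ⟨i, (a ^ i)⁻¹ * m' * a ^ i, by simpa using hMn.conj_mem m' hm' (a ^ i)⁻¹, by rw [← hg]; group⟩
        intro y hy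
        rw [map_mul, Module.End.mul_apply]
        have hz := hgM m' hm' y hy
        generalize ρ m' y = z at hz ⊢
        have := hpowshift i 0 ⟨z, hz, rfl⟩
        simpa using this
      have htop := (hirr _ hinvker).resolve_left hc
      have := Module.End.mem_eigenspace_iff.1 (htop.ge (Submodule.mem_top (x := x)))
      simpa using this
    -- `q` distinct eigenvalues
    obtain ⟨hμq, -⟩ : μ ^ q = 1 ∧ True := by
      have h1 : (τ ^ q) f = μ ^ q • f := by
        have hp' : ∀ j : ℕ, (τ ^ j) f = μ ^ j • f := by
          intro j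
          induction j with
          | zero => simp
          | succ j ihj => rw [pow_succ', Module.End.mul_apply, ihj, map_smul, hfμ, smul_smul, pow_succ]
        exact hp' q
      rw [hτ, Module.End.one_apply] at h1
      exact ⟨(smul_left_injective K hf0 (h1.symm.trans (one_smul K f).symm)), trivial⟩
    have hord : orderOf μ⁻¹ = q := orderOf_eq_prime (by rw [inv_pow, hμq, inv_one]) (by simpa using hμ)
    have hind : iSupIndep fun i : Fin q => e.eigenspace (μ⁻¹ ^ (i : ℕ) * c) :=
      (Module.End.eigenspaces_iSupIndep e).comp (fun i j h => Fin.ext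
        (pow_injOn_Iio_orderOf (by rw [hord]; exact i.2) (by rw [hord]; exact j.2) (mul_right_cancel₀ hc0 h)))
    have hdimE : ∀ i : ℕ, finrank K S ≤ finrank K (e.eigenspace (μ⁻¹ ^ i * c)) := by
      intro i
      set X := e.eigenspace (μ⁻¹ ^ i * c) with hX
      have hXinv : ∀ g ∈ M, ∀ x ∈ X, ρ g x ∈ X := fun g hg x hx => by
        rw [hX, Module.End.mem_eigenspace_iff, ← Module.End.mul_apply, ← heM g hg, Module.End.mul_apply,
          Module.End.mem_eigenspace_iff.1 hx, map_smul]
      have hX0 : X ≠ ⊥ := fun h => by
        obtain ⟨x, hx⟩ := hc.exists_hasEigenvector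
        have h1 := hpowshift i c ⟨x, Module.End.mem_eigenspace_iff.2 hx.apply_eq_smul, rfl⟩
        rw [← hX, h, Submodule.mem_bot] at h1
        exact hx.2 (hunit (a ^ i) (by rw [h1, map_zero]))
      -- a minimal invariant subspace of `X` is a translate of `S`
      obtain ⟨Y, ⟨hY0, hYinv, hYX⟩, hYmin⟩ := WellFounded.has_min (wellFounded_lt (α := Submodule K V))
        {Y | Y ≠ ⊥ ∧ (∀ g ∈ M, ∀ x ∈ Y, ρ g x ∈ Y) ∧ Y ≤ X} ⟨X, hX0, hXinv, le_rfl⟩
      obtain ⟨j, hj, hjY⟩ : ∃ j < k, ¬ Y ⊓ T j = Y ∧ Y ≤ T (j + 1) := by
        have hY : Y ≤ T k := hTtop ▸ le_top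
        have hex' : ∃ j, Y ≤ T j := ⟨k, hY⟩
        have hpos : Nat.find hex' ≠ 0 := fun e' => hY0 (le_bot_iff.1 (by simpa [e', T] using Nat.find_spec hex'))
        refine ⟨Nat.find hex' - 1, ?_, ⟨fun h => Nat.find_min hex' (show Nat.find hex' - 1 < Nat.find hex' by omega) (inf_eq_left.1 h), ?_⟩⟩
        · have := Nat.find_min' hex' hY; omega
        · rw [Nat.sub_add_cancel (Nat.one_le_iff_ne_zero.2 hpos)]; exact Nat.find_spec hex'
      have hYT : Y ⊓ T j = ⊥ := by
        by_contra h
        exact hYmin (Y ⊓ T j) ⟨h, fun g hg x hx => ⟨hYinv g hg x hx.1, hTinv j g hg x hx.2⟩, inf_le_left.trans hYX⟩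
          (lt_of_le_of_ne inf_le_left hjY.1)
      have heq : T (j + 1) ≤ Y ⊔ T j := by
        rw [hTsucc]
        refine sup_le ?_ le_sup_right
        rcases hSimin j (Si j ⊓ (Y ⊔ T j)) inf_le_left (fun g hg x hx => ⟨hSiinv j g hg x hx.1, by
          obtain ⟨y, hy, z, hz, rfl⟩ := Submodule.mem_sup.1 hx.2
          rw [map_add]
          exact Submodule.add_mem_sup (hYinv g hg y hy) (hTinv j g hg z hz)⟩) with h | h
        · exfalso
          refine hY0 (le_bot_iff.1 ?_)
          intro y hy
          have hy' := hjY.2 hy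
          rw [hTsucc] at hy'
          obtain ⟨s, hs, t', ht', hst⟩ := Submodule.mem_sup.1 hy'
          have hs' : s ∈ Si j ⊓ (Y ⊔ T j) := ⟨hs, by
            rw [eq_sub_of_add_eq hst]
            exact Submodule.sub_mem _ (Submodule.mem_sup_left hy) (Submodule.mem_sup_right ht')⟩
          rw [h, Submodule.mem_bot] at hs'
          rw [hs', zero_add] at hst
          rw [← hYT]
          exact ⟨hy, hst ▸ ht'⟩
        · exact h ▸ inf_le_right
      have h1 := Submodule.finrank_mono heq
      have h2 := Submodule.finrank_sup_add_finrank_inf_eq Y (T j)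
      rw [hYT, finrank_bot, add_zero, hTdim j hj.le] at h2
      rw [hTdim (j + 1) hj, h2, add_mul, one_mul] at h1
      have := Submodule.finrank_mono hYX
      omega
    have hsum : q * finrank K S ≤ finrank K V := by
      have hgen : ∀ s : Finset (Fin q), s.card * finrank K S ≤
          finrank K ((s.sup fun i : Fin q => e.eigenspace (μ⁻¹ ^ (i : ℕ) * c) : Submodule K V)) := by
        intro s
        induction s using Finset.induction_on with
        | empty => simp
        | @insert i s his ihs =>
          rw [Finset.sup_insert, Finset.card_insert_of_notMem his]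
          have h1 := Submodule.finrank_sup_add_finrank_inf_eq (e.eigenspace (μ⁻¹ ^ (i : ℕ) * c))
            (s.sup fun i : Fin q => e.eigenspace (μ⁻¹ ^ (i : ℕ) * c))
          have h2 : e.eigenspace (μ⁻¹ ^ (i : ℕ) * c) ⊓ (s.sup fun i : Fin q => e.eigenspace (μ⁻¹ ^ (i : ℕ) * c)) = ⊥ :=
            disjoint_iff.1 ((hind i).mono_right (Finset.sup_le fun j hj =>
              le_iSup₂_of_le j (fun h => his (by rwa [h] at hj)) le_rfl))
          rw [h2, finrank_bot, add_zero] at h1
          rw [h1, add_mul, one_mul]
          have := hdimE i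
          omega
      have := (hgen Finset.univ).trans (Submodule.finrank_le _)
      rwa [Finset.card_univ, Fintype.card_fin] at this
    rw [hd, hb] at hsum
    exact absurd (Nat.le_of_mul_le_mul_right hsum (pow_pos hq.out.pos b)) (by omega)

end Cfsg.Lib.HallHigman
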