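import Mathlib
import Cfsg.Agent.HallHigman.Critical

/-!
The critical case of the Hall–Higman theorem.
-/

set_option linter.style.haveILetI false
set_option linter.unusedSectionVars false

namespace Cfsg.Lib.HallHigman

open Module Subgroup

universe u v w

variable {K : Type u} [Field K] [IsAlgClosed K] {V : Type v} [AddCommGroup V] [Module K V] [FiniteDimensional K V]
  [Nontrivial V] {G : Type w} [Group G] [Finite G]

/-- Conjugation on the endomorphisms. -/
def adRep (ρ : G →* Module.End K V) : G →* Module.End K (Module.End K V) where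
  toFun g := LinearMap.mulLeft K (ρ g) * LinearMap.mulRight K (ρ g⁻¹)
  map_one' := LinearMap.ext fun f => by simp
  map_mul' g k := LinearMap.ext fun f => by simp [mul_assoc]

theorem adRep_apply (ρ : G →* Module.End K V) (g : G) (f : Module.End K V) :
    adRep ρ g f = ρ g * (f * ρ g⁻¹) := rfl

theorem adRep_eq_iff (ρ : G →* Module.End K V) (g : G) (f : Module.End K V) :
    adRep ρ g f = f ↔ ρ g * f = f * ρ g := by
  have h1 : ρ g⁻¹ * ρ g = 1 := by rw [← map_mul, inv_mul_cancel, map_one]
  have h2 : ρ g * ρ g⁻¹ = 1 := by rw [← map_mul, mul_inv_cancel, map_one]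
  rw [adRep_apply]
  constructor
  · intro h
    conv_rhs => rw [← h]
    simp only [mul_assoc, h1, mul_one]
  · intro h
    rw [← mul_assoc, h, mul_assoc, h2, mul_one]

/-- The counting identity: the centralizer of a fixed point free element. -/
theorem centralizer_count {p n : ℕ} [Fact p.Prime] [CharP K p] (ρ : G →* Module.End K V) (Q : Subgroup G) [Q.Normal]
    (hQK : ((Nat.card Q : ℕ) : K) ≠ 0)
    (hirr : ∀ S : Submodule K V, (∀ g ∈ Q, ∀ w ∈ S, ρ g w ∈ S) → S = ⊥ ∨ S = ⊤)
    (x : G) (hx : x ^ p ^ n = 1) (hn : n ≠ 0)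
    (hfree : ∀ i, 0 < i → i < p ^ n → ∀ u ∈ Q, x ^ i * u * (x ^ i)⁻¹ * u⁻¹ ∈ (adRep ρ).ker → u ∈ (adRep ρ).ker) :
    p ^ n * finrank K (endCentralizer (ρ x - 1)) + 1 = finrank K V * finrank K V + p ^ n := by
  classical
  set N := p ^ n with hN
  have hNpos : 0 < N := pow_pos (Fact.out : p.Prime).pos _
  set d := finrank K V
  set Z₀ := ((adRep ρ).ker).subgroupOf Q with hZ₀
  have hscal : ∀ f : Module.End K V, (∀ g ∈ Q, ρ g * f = f * ρ g) → ∃ c : K, f = c • 1 := fun f hf =>
    Cfsg.Lib.OddP.schur (Q := Q) (ρ.comp Q.subtype) (fun S hS => hirr S fun g hg => hS ⟨g, hg⟩) f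
      fun g => (hf g g.2).symm
  have hZker : Z₀ ≤ ((adRep ρ).comp Q.subtype).ker := fun z hz => hz
  haveI : Z₀.Normal := inferInstance
  let ρb : Q ⧸ Z₀ →* Module.End K (Module.End K V) := QuotientGroup.lift Z₀ ((adRep ρ).comp Q.subtype) hZker
  have hρb : ∀ u : Q, ρb (QuotientGroup.mk u) = adRep ρ (u : G) := fun u => rfl
  have hmapZ : Z₀.map (MulAut.conjNormal (H := Q) x).toMonoidHom = Z₀ := by
    ext z
    rw [Subgroup.mem_map]
    constructor
    · rintro ⟨y, hy, rfl⟩
      show ((MulAut.conjNormal (H := Q) x y : Q) : G) ∈ (adRep ρ).ker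
      rw [MulAut.conjNormal_apply]
      exact (inferInstance : ((adRep ρ).ker).Normal).conj_mem _ hy x
    · intro hz
      refine ⟨MulAut.conjNormal (H := Q) x⁻¹ z, ?_, ?_⟩
      · show ((MulAut.conjNormal (H := Q) x⁻¹ z : Q) : G) ∈ (adRep ρ).ker
        rw [MulAut.conjNormal_apply]
        exact (inferInstance : ((adRep ρ).ker).Normal).conj_mem _ hz x⁻¹
      · show MulAut.conjNormal (H := Q) x (MulAut.conjNormal (H := Q) x⁻¹ z) = z
        rw [← MulAut.mul_apply, ← map_mul, mul_inv_cancel, map_one, MulAut.one_apply]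
  let τ : (Q ⧸ Z₀) ≃* (Q ⧸ Z₀) := QuotientGroup.congr Z₀ Z₀ (MulAut.conjNormal (H := Q) x) hmapZ
  let σ : Equiv.Perm (Q ⧸ Z₀) := τ.toEquiv
  have hσ0 : ∀ u : Q, σ (QuotientGroup.mk u) = QuotientGroup.mk (MulAut.conjNormal (H := Q) x u) := fun u => rfl
  have hσi : ∀ (i : ℕ) (u : Q), (σ ^ i) (QuotientGroup.mk u) = QuotientGroup.mk (MulAut.conjNormal (H := Q) (x ^ i) u) := by
    intro i
    induction i with
    | zero => intro u; simp
    | succ i ih => intro u; rw [pow_succ', Equiv.Perm.mul_apply, ih, hσ0, pow_succ', map_mul, MulAut.mul_apply]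
  set θ := adRep ρ x with hθ
  have hθN : θ ^ N = 1 := by rw [hθ, ← map_pow, hx, map_one]
  haveI := Fintype.ofFinite (Q ⧸ Z₀)
  obtain ⟨φ, hφ⟩ := fixed_eq_norm ρb θ N hNpos hθN σ (by
      refine Equiv.ext fun t => ?_
      obtain ⟨u, rfl⟩ := QuotientGroup.mk_surjective t
      rw [hσi, hx, map_one]; rfl)
    (fun t => by
      obtain ⟨u, rfl⟩ := QuotientGroup.mk_surjective t
      rw [hρb, hσ0, hρb, MulAut.conjNormal_apply, hθ, ← map_mul, ← map_mul, inv_mul_cancel_right])
    (map_one τ)
    (fun i hi hiN t ht => by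
      obtain ⟨u, rfl⟩ := QuotientGroup.mk_surjective t
      rw [hσi, QuotientGroup.eq] at ht
      refine (QuotientGroup.eq_one_iff u).2 (hfree i hi hiN u u.2 ?_)
      have h1 : (((MulAut.conjNormal (H := Q) (x ^ i) u)⁻¹ * u : Q) : G) ∈ (adRep ρ).ker := ht
      rw [Subgroup.coe_mul, Subgroup.coe_inv, MulAut.conjNormal_apply] at h1
      have h2 := (inferInstance : ((adRep ρ).ker).Normal).conj_mem _ (((adRep ρ).ker).inv_mem h1) (u : G)
      have e : (u : G) * ((x ^ i * u * (x ^ i)⁻¹)⁻¹ * u)⁻¹ * (u : G)⁻¹ = x ^ i * u * (x ^ i)⁻¹ * (u : G)⁻¹ := by group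
      rwa [e] at h2)
  set S : Module.End K (Module.End K V) := ∑ u, ρb u with hS
  set T : Module.End K (Module.End K V) := ∑ i ∈ Finset.range N, θ ^ i with hT
  have hSfix : ∀ t, ρb t * S = S := fun t => by
    rw [hS, Finset.mul_sum]
    exact Fintype.sum_equiv (Equiv.mulLeft t) _ _ fun s => by rw [← map_mul]; rfl
  have hSfix' : ∀ t, S * ρb t = S := fun t => by
    rw [hS, Finset.sum_mul]
    exact Fintype.sum_equiv (Equiv.mulRight t) _ _ fun s => by rw [← map_mul]; rfl
  have hSscal : ∀ f, ∃ c : K, S f = c • 1 := fun f => hscal _ fun g hg => by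
    refine (adRep_eq_iff ρ g (S f)).1 ?_
    exact LinearMap.congr_fun (hSfix (QuotientGroup.mk ⟨g, hg⟩)) f
  set q₀ : K := (Fintype.card (Q ⧸ Z₀) : K) with hq₀
  have hq0 : q₀ ≠ 0 := by
    intro h
    obtain ⟨k, hk⟩ := Z₀.card_quotient_dvd_card
    exact hQK (by rw [hk, Nat.cast_mul, Nat.card_eq_fintype_card, ← hq₀, h, zero_mul])
  have hone : ∀ g : G, adRep ρ g 1 = 1 := fun g => (adRep_eq_iff ρ g 1).2 (by rw [mul_one, one_mul])
  have hS1 : S (1 : Module.End K V) = q₀ • 1 := by
    rw [hS, LinearMap.sum_apply, Finset.sum_congr rfl (g := fun _ => (1 : Module.End K V)) fun t _ => ?_,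
      Finset.sum_const, Finset.card_univ, hq₀, Nat.cast_smul_eq_nsmul]
    obtain ⟨u, rfl⟩ := QuotientGroup.mk_surjective t
    exact hone u
  have hθ1 : θ 1 = 1 := hone x
  have hT1 : T (1 : Module.End K V) = 0 := by
    have : ∀ i : ℕ, (θ ^ i) (1 : Module.End K V) = 1 := fun i => by
      induction i with
      | zero => simp
      | succ i ih => rw [pow_succ', Module.End.mul_apply, ih, hθ1]
    rw [hT, LinearMap.sum_apply, Finset.sum_congr rfl fun i _ => this i, Finset.sum_const, Finset.card_range, hN,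
      ← Nat.cast_smul_eq_nsmul K, Nat.cast_pow, CharP.cast_eq_zero K p, zero_pow hn, zero_smul]
  -- the kernel `M` of the averaging operator
  set M := LinearMap.ker S with hM
  have hrange : LinearMap.range S = Submodule.span K {(1 : Module.End K V)} := by
    refine le_antisymm ?_ ?_
    · rintro _ ⟨f, rfl⟩
      obtain ⟨c, hc⟩ := hSscal f
      rw [hc]; exact Submodule.smul_mem _ _ (Submodule.mem_span_singleton_self _)
    · rw [Submodule.span_singleton_le_iff_mem]
      exact ⟨q₀⁻¹ • 1, by rw [map_smul, hS1, smul_smul, inv_mul_cancel₀ hq0, one_smul]⟩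
  have hdimM : finrank K M + 1 = d * d := by
    have h1 := LinearMap.finrank_range_add_finrank_ker S
    rw [hrange, finrank_span_singleton one_ne_zero, Module.finrank_linearMap] at h1
    show finrank K (LinearMap.ker S) + 1 = finrank K V * finrank K V
    omega
  have hMθ : ∀ f ∈ M, (θ - (1 : Module.End K (Module.End K V))) f ∈ M := by
    intro f hf
    rw [hM, LinearMap.mem_ker] at hf ⊢
    have hSθ : S * θ = θ * S := by
      rw [hS, Finset.sum_mul, Finset.mul_sum]
      refine (Fintype.sum_equiv σ _ _ fun t => ?_).symm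
      obtain ⟨u, rfl⟩ := QuotientGroup.mk_surjective t
      rw [hσ0, hρb, hρb, MulAut.conjNormal_apply, hθ, ← map_mul, ← map_mul, inv_mul_cancel_right]
    rw [LinearMap.sub_apply, Module.End.one_apply, map_sub, ← Module.End.mul_apply, hSθ, Module.End.mul_apply, hf,
      map_zero, sub_zero]
  set uM : Module.End K M := (θ - 1).restrict hMθ
  have hpowM : ∀ (k : ℕ) (f : M), ((uM ^ k) f : Module.End K V) = ((θ - 1) ^ k) f := by
    intro k
    induction k with
    | zero => intro f; simp
    | succ k ih =>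
      intro f
      rw [pow_succ', Module.End.mul_apply, pow_succ', Module.End.mul_apply]
      exact congrArg (θ - (1 : Module.End K (Module.End K V))) (ih f)
  have hTu : (θ - 1) ^ (N - 1) = T := by
    have hpoly : (Polynomial.X - 1 : Polynomial K) ^ (N - 1) = ∑ i ∈ Finset.range N, Polynomial.X ^ i := by
      refine mul_right_cancel₀ (b := (Polynomial.X - 1 : Polynomial K)) (by rw [← Polynomial.C_1]; exact Polynomial.X_sub_C_ne_zero 1) ?_
      rw [geom_sum_mul, ← pow_succ, Nat.sub_add_cancel hNpos, hN, sub_pow_char_pow, one_pow]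
    have h1 := congrArg (Polynomial.aeval θ) hpoly
    simpa [hT] using h1
  have huN : (θ - 1) ^ N = 0 := by
    have hpoly : (Polynomial.X - 1 : Polynomial K) ^ N = Polynomial.X ^ N - 1 := by
      rw [hN, sub_pow_char_pow, one_pow]
    have h1 := congrArg (Polynomial.aeval θ) hpoly
    simp only [map_pow, map_sub, Polynomial.aeval_X, map_one, hθN, sub_self] at h1
    exact h1
  have hkerM : finrank K M = N * finrank K (LinearMap.ker uM) := by
    refine finrank_eq_mul_ker uM N (LinearMap.ext fun f => Subtype.ext (by rw [hpowM, huN]; rfl)) ?_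
    intro f hf
    have hf' : θ (f : Module.End K V) = f := by
      have := congrArg Subtype.val (LinearMap.mem_ker.1 hf)
      exact sub_eq_zero.1 (by exact this)
    have h1 := hφ f hf'
    rw [LinearMap.mem_ker.1 f.2, zero_add] at h1
    obtain ⟨c, hc⟩ := hSscal (φ f)
    refine ⟨⟨φ f - (c * q₀⁻¹) • (1 : Module.End K V), ?_⟩, Subtype.ext ?_⟩
    · show φ (f : Module.End K V) - (c * q₀⁻¹) • (1 : Module.End K V) ∈ LinearMap.ker S
      rw [LinearMap.mem_ker, map_sub, map_smul, hS1, hc, smul_smul, mul_assoc, inv_mul_cancel₀ hq0, mul_one,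
        sub_self]
    · rw [hpowM, hTu, map_sub, map_smul, hT1, smul_zero, sub_zero]
      exact h1.symm
  -- the fixed points of `θ`
  have hfixd : finrank K (LinearMap.ker uM) + 1 = finrank K (LinearMap.ker (θ - 1)) := by
    let Sr := S.comp (LinearMap.ker (θ - 1)).subtype
    have h1 := LinearMap.finrank_range_add_finrank_ker Sr
    have hr : LinearMap.range Sr = Submodule.span K {(1 : Module.End K V)} := by
      refine le_antisymm ((LinearMap.range_comp_le_range _ _).trans hrange.le) ?_
      rw [Submodule.span_singleton_le_iff_mem]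
      exact ⟨⟨q₀⁻¹ • 1, by rw [LinearMap.mem_ker, map_smul, LinearMap.sub_apply, Module.End.one_apply, hθ1, sub_self, smul_zero]⟩,
        by show S (q₀⁻¹ • 1) = 1; rw [map_smul, hS1, smul_smul, inv_mul_cancel₀ hq0, one_smul]⟩
    rw [hr, finrank_span_singleton one_ne_zero] at h1
    have he : finrank K (LinearMap.ker Sr) = finrank K (LinearMap.ker uM) :=
      LinearEquiv.finrank_eq
        { toFun := fun f => ⟨⟨f.1.1, LinearMap.mem_ker.1 f.2⟩, LinearMap.mem_ker.2 (Subtype.ext (LinearMap.mem_ker.1 f.1.2))⟩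
          map_add' := fun _ _ => rfl
          map_smul' := fun _ _ => rfl
          invFun := fun f => ⟨⟨f.1.1, LinearMap.mem_ker.2 (congrArg Subtype.val (LinearMap.mem_ker.1 f.2))⟩, LinearMap.mem_ker.2 (LinearMap.mem_ker.1 f.1.2)⟩
          left_inv := fun _ => rfl
          right_inv := fun _ => rfl }
    omega
  have hCeq : LinearMap.ker (θ - 1) = endCentralizer (ρ x - 1) := by
    ext f
    rw [LinearMap.mem_ker, mem_endCentralizer, LinearMap.sub_apply, Module.End.one_apply, sub_eq_zero, hθ, adRep_eq_iff,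
      sub_mul, mul_sub, one_mul, mul_one, sub_left_inj]
  rw [← hCeq, ← hfixd, ← hdimM, hkerM]
  ring

end Cfsg.Lib.HallHigman
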