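import Mathlib
import Cfsg.Agent.HallHigman.Critical
import Cfsg.Agent.HallHigman.CriticalCase
import Cfsg.Agent.HallHigman.Abelian

/-!
An element of `p`-power order in characteristic `p` normalizing a fully ramified representation
stabilizes an irreducible constituent.
-/

set_option linter.style.haveILetI false
set_option linter.unusedSectionVars false

namespace Cfsg.Lib.HallHigman

open Module Subgroup

universe u v w

variable {K : Type u} [Field K] [IsAlgClosed K] {V : Type v} [AddCommGroup V] [Module K V] [FiniteDimensional K V]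
  [Nontrivial V]

/-- `T ^ N = 1` with `N` a power of the characteristic has a fixed vector. -/
theorem exists_fixed_of_pow_eq_one {p n : ℕ} [Fact p.Prime] [CharP K p] (c : Module.End K V) (hc : c ^ p ^ n = 1) :
    ∃ v : V, v ≠ 0 ∧ c v = v := by
  obtain ⟨μ, hμ⟩ := Module.End.exists_eigenvalue c
  obtain ⟨v, hv⟩ := hμ.exists_hasEigenvector
  have h1 := hv.pow_apply (p ^ n)
  rw [hc, Module.End.one_apply] at h1
  have h2 : μ ^ p ^ n = 1 := smul_left_injective K hv.2 (h1.symm.trans (one_smul K v).symm)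
  haveI : ExpChar K p := ExpChar.prime Fact.out
  have h3 : μ = 1 := iterateFrobenius_inj K p n (by simp [iterateFrobenius_def, h2])
  exact ⟨v, hv.2, by rw [hv.apply_eq_smul, h3, one_smul]⟩

theorem exists_invariant_irreducible' {Q : Type w} [Group Q] [Finite Q] {N : ℕ} (hNpos : 0 < N)
    (ρ : Q →* Module.End K V) (hQK : ((Nat.card Q : ℕ) : K) ≠ 0)
    (hcen : ∀ z ∈ center Q, ∃ c : K, ρ z = c • 1)
    (hpair : ∀ u : Q, u ∉ center Q → ∃ (w : Q) (c : K), c ≠ 1 ∧ ρ u * ρ w = c • (ρ w * ρ u))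
    (θ : Module.End K V) (hθ : θ ^ N = 1) (σ : Q → Q) (hσ : ∀ u, θ * ρ u = ρ (σ u) * θ) :
    ∃ W : Submodule K V, W ≠ ⊥ ∧ (∀ u : Q, ∀ w ∈ W, ρ u w ∈ W) ∧ (∀ w ∈ W, θ w ∈ W) ∧
      (∀ S : Submodule K V, S ≤ W → (∀ u : Q, ∀ w ∈ S, ρ u w ∈ S) → S = ⊥ ∨ S = W) ∧
      ∀ u : Q, u ∉ center Q → ¬ ∃ c : K, ∀ w ∈ W, ρ u w = c • w := by
  classical
  obtain ⟨W₀, ⟨hW₀, hW₀inv⟩, hW₀min⟩ := WellFounded.has_min (wellFounded_lt (α := Submodule K V))
    {S | S ≠ ⊥ ∧ ∀ u : Q, ∀ w ∈ S, ρ u w ∈ S} ⟨⊤, top_ne_bot, fun _ _ _ => trivial⟩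
  haveI : Nontrivial W₀ := Submodule.nontrivial_iff_ne_bot.2 hW₀
  let ρ₀ : Q →* Module.End K W₀ :=
    { toFun := fun u => (ρ u).restrict (hW₀inv u)
      map_one' := LinearMap.ext fun x => Subtype.ext (by simp)
      map_mul' := fun u k => LinearMap.ext fun x => Subtype.ext (by simp) }
  have hρ₀ : ∀ u (x : W₀), ((ρ₀ u x : W₀) : V) = ρ u x := fun u x => rfl
  have hirr₀ : ∀ S : Submodule K W₀, (∀ g : Q, ∀ x ∈ S, ρ₀ g x ∈ S) → S = ⊥ ∨ S = ⊤ := by
    intro S hS
    by_contra hh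
    push Not at hh
    refine hW₀min (S.map W₀.subtype) ⟨fun e => hh.1 ((Submodule.eq_bot_iff _).2 fun x hx =>
      Subtype.ext ((Submodule.eq_bot_iff _).1 e _ ⟨x, hx, rfl⟩)), ?_⟩
      (lt_of_le_of_ne (Submodule.map_subtype_le W₀ S) fun e => hh.2 (Submodule.eq_top_iff'.2 fun x => ?_))
    · rintro u _ ⟨x, hx, rfl⟩
      exact ⟨_, hS u x hx, rfl⟩
    · obtain ⟨y, hy, he⟩ := e.ge x.2
      exact Subtype.ext he ▸ hy
  have hpair₀ : ∀ u : Q, u ∉ center Q → ∃ (w : Q) (c : K), c ≠ 1 ∧ ρ₀ u * ρ₀ w = c • (ρ₀ w * ρ₀ u) := by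
    intro u hu
    obtain ⟨w, c, hc, he⟩ := hpair u hu
    exact ⟨w, c, hc, LinearMap.ext fun x => Subtype.ext (LinearMap.congr_fun he (x : V))⟩
  obtain ⟨B, hB⟩ := Cfsg.Lib.OddP.transversal_basis ρ₀ hirr₀ hQK hpair₀
  haveI := Fintype.ofFinite (Q ⧸ center Q)
  let L : Module.End K W₀ →ₗ[K] Module.End K V := B.constr K fun t => ρ t.out
  have hLB : ∀ t, L (B t) = ρ t.out := fun t => by simp [L]
  have hres : ∀ (e : Module.End K W₀) (x : W₀), L e x = ((e x : W₀) : V) := by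
    intro e x
    conv_lhs => rw [← B.sum_repr e]
    conv_rhs => rw [← B.sum_repr e]
    simp only [map_sum, map_smul, LinearMap.sum_apply, LinearMap.smul_apply, hLB]
    simp [hB, hρ₀, Submodule.coe_sum]
  have hL0 : ∀ u : Q, L (ρ₀ u) = ρ u := by
    intro u
    set t : Q ⧸ center Q := QuotientGroup.mk u
    obtain ⟨z, hz, hu⟩ : ∃ z ∈ center Q, t.out * z = u := ⟨t.out⁻¹ * u,
      QuotientGroup.eq.mp (by rw [QuotientGroup.out_eq']), mul_inv_cancel_left _ _⟩
    obtain ⟨c, hc⟩ := hcen z hz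
    have h1 : ρ u = c • ρ t.out := by rw [← hu, map_mul, hc, mul_smul_comm, mul_one]
    have h2 : ρ₀ u = c • B t := by
      rw [hB]
      exact LinearMap.ext fun x => Subtype.ext (LinearMap.congr_fun h1 (x : V))
    rw [h2, map_smul, hLB, h1]
  have hL1 : L 1 = 1 := by rw [← map_one ρ₀, hL0, map_one]
  have hLmul : ∀ e f, L (e * f) = L e * L f := by
    have hbb : ∀ s t, L (B s * B t) = L (B s) * L (B t) := fun s t => by
      rw [hB, hB, ← map_mul, hL0, hL0, hL0, map_mul]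
    intro e f
    have key : (LinearMap.mul K (Module.End K W₀)).compr₂ L = (LinearMap.mul K (Module.End K V)).compl₁₂ L L :=
      B.ext fun s => B.ext fun t => hbb s t
    exact LinearMap.congr_fun (LinearMap.congr_fun key e) f
  have hLinj : Function.Injective L := fun e f h => LinearMap.ext fun x => Subtype.ext (by rw [← hres, h, hres])
  have hinvA : ∀ e, ∀ S : Submodule K V, (∀ u : Q, ∀ x ∈ S, ρ u x ∈ S) → ∀ x ∈ S, L e x ∈ S := by
    intro e S hS x hx
    rw [← B.sum_repr e, map_sum, LinearMap.sum_apply]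
    exact Submodule.sum_mem _ fun t _ => by
      rw [map_smul, hLB, LinearMap.smul_apply]; exact Submodule.smul_mem _ _ (hS _ x hx)
  -- the automorphism induced by `θ`
  have hθ1 : θ * θ ^ (N - 1) = 1 := by rw [← pow_succ', Nat.sub_add_cancel hNpos, hθ]
  have hθ2 : θ ^ (N - 1) * θ = 1 := by rw [← pow_succ, Nat.sub_add_cancel hNpos, hθ]
  let cj : Module.End K V →ₗ[K] Module.End K V := LinearMap.mulLeft K θ * LinearMap.mulRight K (θ ^ (N - 1))
  have hcj : ∀ f, cj f = θ * (f * θ ^ (N - 1)) := fun f => rfl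
  have hcjmul : ∀ f g, cj (f * g) = cj f * cj g := fun f g => by
    rw [hcj, hcj, hcj, mul_assoc θ (f * _), mul_assoc f (θ ^ (N - 1)), ← mul_assoc (θ ^ (N - 1)) θ, hθ2, one_mul,
      mul_assoc]
  have hcjρ : ∀ u, cj (ρ u) = ρ (σ u) := fun u => by rw [hcj, ← mul_assoc, hσ, mul_assoc, hθ1, mul_one]
  let α : Module.End K W₀ →ₗ[K] Module.End K W₀ := B.constr K fun t => ρ₀ (σ t.out)
  have hαL : ∀ e, L (α e) = cj (L e) := by
    have key : L.comp α = cj.comp L := B.ext fun t => by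
      simp only [LinearMap.comp_apply, α, Basis.constr_basis, hLB, hL0, hcjρ]
    exact fun e => LinearMap.congr_fun key e
  have hαmul : ∀ e f, α (e * f) = α e * α f := fun e f => hLinj (by rw [hLmul, hαL, hαL, hαL, hLmul, hcjmul])
  have hα1 : α 1 = 1 := hLinj (by rw [hαL, hL1, hcj, one_mul, hθ1])
  have hαinj : Function.Injective α := fun e f h => hLinj (by
    have h1 := congrArg (fun g => θ ^ (N - 1) * g * θ) (congrArg L h)
    simp only [hαL, hcj, ← mul_assoc, hθ2, one_mul] at h1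
    simpa only [mul_assoc, hθ2, mul_one] using h1)
  let αA : Module.End K W₀ →ₐ[K] Module.End K W₀ := AlgHom.ofLinearMap α hα1 hαmul
  let αE : Module.End K W₀ ≃ₐ[K] Module.End K W₀ :=
    AlgEquiv.ofBijective αA ⟨hαinj, (LinearMap.injective_iff_surjective (f := α)).1 hαinj⟩
  obtain ⟨T, hT⟩ := αE.eq_linearEquivConjAlgEquiv
  have hTα : ∀ e : Module.End K W₀, α e * T.toLinearMap = T.toLinearMap * e := by
    intro e
    have h1 : α e = T.conjAlgEquiv K e := by rw [← hT]; rfl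
    rw [h1]
    refine LinearMap.ext fun x => ?_
    simp [Module.End.mul_apply, LinearEquiv.conjAlgEquiv_apply]
  have hTσ : ∀ u, ρ₀ (σ u) * T.toLinearMap = T.toLinearMap * ρ₀ u := fun u => by
    rw [← hTα, show ρ₀ (σ u) = α (ρ₀ u) from hLinj (by rw [hL0, hαL, hL0, hcjρ])]
  set T₀ : Module.End K W₀ := T.toLinearMap with hT₀
  -- normalise
  have hTpow : ∀ i u, ρ₀ (σ^[i] u) * T₀ ^ i = T₀ ^ i * ρ₀ u := by
    intro i
    induction i with
    | zero => intro u; simp
    | succ i ih =>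
      intro u
      rw [Function.iterate_succ_apply', pow_succ', ← mul_assoc, hTσ, mul_assoc, ih, mul_assoc]
  have hθpow : ∀ i u, θ ^ i * ρ u = ρ (σ^[i] u) * θ ^ i := by
    intro i
    induction i with
    | zero => intro u; simp
    | succ i ih =>
      intro u
      rw [Function.iterate_succ_apply', pow_succ', mul_assoc, ih, ← mul_assoc, hσ, mul_assoc]
  have hσN : ∀ u, ρ₀ (σ^[N] u) = ρ₀ u := fun u => LinearMap.ext fun x => Subtype.ext (by
    have h1 := hθpow N u
    rw [hθ, one_mul, mul_one] at h1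
    exact LinearMap.congr_fun h1.symm (x : V))
  obtain ⟨c, hc⟩ := Cfsg.Lib.OddP.schur ρ₀ hirr₀ (T₀ ^ N) fun u => by
    have h1 := hTpow N u
    rw [hσN] at h1
    exact h1.symm
  have hc0 : c ≠ 0 := by
    rintro rfl
    rw [zero_smul] at hc
    obtain ⟨x, hx⟩ := exists_ne (0 : W₀)
    have hinj : ∀ i, Function.Injective (T₀ ^ i : Module.End K W₀) := fun i => by
      induction i with
      | zero => exact fun a b h => h
      | succ i ih => rw [pow_succ', Module.End.mul_eq_comp]; exact T.injective.comp ih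
    exact hx (hinj N (by rw [hc, map_zero]; rfl))
  obtain ⟨t, ht⟩ := IsAlgClosed.exists_pow_nat_eq c hNpos
  have ht0 : t ≠ 0 := fun h => hc0 (by rw [← ht, h, zero_pow hNpos.ne'])
  set e := t⁻¹ • T₀ with he
  set a := L e with ha
  have haN : a ^ N = 1 := by
    have h1 : ∀ k : ℕ, L (e ^ k) = a ^ k := by
      intro k
      induction k with
      | zero => simpa using hL1
      | succ k ih => rw [pow_succ, hLmul, ih, pow_succ]
    rw [← h1, he, smul_pow, hc, smul_smul, inv_pow, ht, inv_mul_cancel₀ hc0, one_smul, hL1]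
  have hae : ∀ u, a * ρ u = ρ (σ u) * a := fun u => by
    rw [← hL0, ← hL0, ha, ← hLmul, ← hLmul, he, smul_mul_assoc, mul_smul_comm, hTσ]
  have hapow : ∀ i u, a ^ i * ρ u = ρ (σ^[i] u) * a ^ i := by
    intro i
    induction i with
    | zero => intro u; simp
    | succ i ih =>
      intro u
      rw [Function.iterate_succ_apply', pow_succ', mul_assoc, ih, ← mul_assoc, hae, mul_assoc]
  -- `θ` commutes with `a`
  have hcja : cj a = a := by
    have hαe : α e * T₀ = e * T₀ := by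
      rw [hTα, he, mul_smul_comm, smul_mul_assoc]
    have hαee : α e = e := LinearMap.ext fun x => by
      obtain ⟨y, rfl⟩ := T.surjective x
      exact LinearMap.congr_fun hαe y
    rw [ha, ← hαL, hαee]
  have hθa : θ * a = a * θ := by
    have h1 := congrArg (· * θ) hcja
    simp only [hcj, mul_assoc, hθ2, mul_one] at h1
    exact h1
  set c' := a ^ (N - 1) * θ with hc'
  have haa : a ^ (N - 1) * a = 1 := by rw [← pow_succ, Nat.sub_add_cancel hNpos, haN]
  have hc'ρ : ∀ u, c' * ρ u = ρ u * c' := fun u => by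
    rw [hc', mul_assoc, hσ, ← mul_assoc, hapow, mul_assoc, ← Function.iterate_succ_apply,
      show (N - 1).succ = N by omega]
    have h1 := hθpow N u
    rw [hθ, one_mul, mul_one] at h1
    rw [← h1]
  obtain ⟨μ, hμ⟩ := Module.End.exists_eigenvalue c'
  obtain ⟨v, hv⟩ := hμ.exists_hasEigenvector
  set F := Module.End.eigenspace c' μ with hF
  have hFmem : ∀ y, y ∈ F ↔ c' y = μ • y := fun y => Module.End.mem_eigenspace_iff
  have hFinv : ∀ u, ∀ y ∈ F, ρ u y ∈ F := fun u y hy => by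
    rw [hFmem, ← Module.End.mul_apply, hc'ρ, Module.End.mul_apply, (hFmem y).1 hy, map_smul]
  obtain ⟨W, ⟨hW0, hWF, hWinv⟩, hWmin⟩ := WellFounded.has_min (wellFounded_lt (α := Submodule K V))
    {S | S ≠ ⊥ ∧ S ≤ F ∧ ∀ u : Q, ∀ w ∈ S, ρ u w ∈ S}
    ⟨F, fun h => hv.2 ((Submodule.eq_bot_iff _).1 h v hv.1), le_rfl, hFinv⟩
  refine ⟨W, hW0, hWinv, fun y hy => ?_, fun S hS hSinv => ?_, fun u hu => ?_⟩
  · have h1 : a (c' y) = θ y := by
      rw [hc', ← Module.End.mul_apply, ← mul_assoc, ← pow_succ', Nat.sub_add_cancel hNpos, haN, one_mul]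
    rw [← h1, (hFmem y).1 (hWF hy), map_smul]
    exact W.smul_mem μ (hinvA e W hWinv y hy)
  · by_contra hh
    push Not at hh
    exact hWmin S ⟨hh.1, hS.trans hWF, hSinv⟩ (lt_of_le_of_ne hS hh.2)
  · rintro ⟨k, hk⟩
    obtain ⟨w, d, hd, hd'⟩ := hpair u hu
    obtain ⟨y, hy, hy0⟩ := Submodule.exists_mem_ne_zero_of_ne_bot hW0
    have h1 := LinearMap.congr_fun hd' y
    rw [Module.End.mul_apply, LinearMap.smul_apply, Module.End.mul_apply, hk y hy, map_smul, hk _ (hWinv w y hy)] at h1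
    have hinj : Function.Injective (ρ w) := fun a b e => by
      have := congrArg (ρ w⁻¹) e
      rwa [← Module.End.mul_apply, ← Module.End.mul_apply, ← map_mul, inv_mul_cancel, map_one, Module.End.one_apply,
        Module.End.one_apply] at this
    have hwy : ρ w y ≠ 0 := fun h => hy0 (hinj (by rw [h, map_zero]))
    have hk0 : k ≠ 0 := fun h => by
      have h2 := hk y hy
      rw [h, zero_smul] at h2
      have : Function.Injective (ρ u) := fun a b e => by
        have := congrArg (ρ u⁻¹) e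
        rwa [← Module.End.mul_apply, ← Module.End.mul_apply, ← map_mul, inv_mul_cancel, map_one, Module.End.one_apply,
          Module.End.one_apply] at this
      exact hy0 (this (by rw [h2, map_zero]))
    rw [smul_smul] at h1
    have h3 : k = d * k := smul_left_injective K hwy h1
    exact hd (mul_right_cancel₀ hk0 (h3.symm.trans (one_mul k).symm))

/-- The case of an element of `p`-power order in characteristic `p`. -/
theorem exists_invariant_irreducible {Q : Type w} [Group Q] [Finite Q] {p n : ℕ} [Fact p.Prime] [CharP K p]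
    (ρ : Q →* Module.End K V) (hQK : ((Nat.card Q : ℕ) : K) ≠ 0)
    (hcen : ∀ z ∈ center Q, ∃ c : K, ρ z = c • 1)
    (hpair : ∀ u : Q, u ∉ center Q → ∃ (w : Q) (c : K), c ≠ 1 ∧ ρ u * ρ w = c • (ρ w * ρ u))
    (θ : Module.End K V) (hθ : θ ^ p ^ n = 1) (σ : Q → Q) (hσ : ∀ u, θ * ρ u = ρ (σ u) * θ) :
    ∃ W : Submodule K V, W ≠ ⊥ ∧ (∀ u : Q, ∀ w ∈ W, ρ u w ∈ W) ∧ (∀ w ∈ W, θ w ∈ W) ∧
      (∀ S : Submodule K V, S ≤ W → (∀ u : Q, ∀ w ∈ S, ρ u w ∈ S) → S = ⊥ ∨ S = W) ∧
      ∀ u : Q, u ∉ center Q → ¬ ∃ c : K, ∀ w ∈ W, ρ u w = c • w :=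
  exists_invariant_irreducible' (pow_pos (Fact.out : p.Prime).pos n) ρ hQK hcen hpair θ hθ σ hσ

theorem lower_bound_arith {N d C s : ℕ} (hN : 1 < N) (hcount : N * C + 1 = d * d + N) (hCS : d * d ≤ s * C)
    (hsN : s ≤ N) (hsd : s ≤ d) (hd : 2 ≤ d) : N - 1 ≤ s ∧ (s = N - 1 → d = N - 1) := by
  have hC : d ≤ C := by
    have h1 : s * C ≤ d * C := Nat.mul_le_mul_right _ hsd
    exact Nat.le_of_mul_le_mul_left (hCS.trans h1) (by omega)
  have hd' : N - 1 ≤ d := by
    by_contra hh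
    have h1 : N * d ≤ N * C := Nat.mul_le_mul_left _ hC
    nlinarith [Nat.sub_add_cancel hN.le]
  rcases Nat.lt_or_ge s N with h | h
  swap
  · exact ⟨by omega, fun e => by omega⟩
  have key : d * d * N ≤ s * (d * d + N - 1) := by
    calc d * d * N ≤ s * C * N := Nat.mul_le_mul_right _ hCS
      _ = s * (N * C) := by ring
      _ = _ := by congr 1; omega
  obtain ⟨t, ht⟩ : ∃ t, N = s + 1 + t := ⟨N - (s + 1), by omega⟩
  have key2 : d * d * (1 + t) ≤ d * (s + t) := by
    have h2 : s * (d * d + N - 1) = s * (d * d) + s * (s + t) := by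
      rw [← Nat.mul_add]; congr 1; omega
    rw [h2, ht] at key
    have h3 : s * (s + t) ≤ d * (s + t) := Nat.mul_le_mul_right _ hsd
    nlinarith
  have key3 : d * (1 + t) ≤ s + t := Nat.le_of_mul_le_mul_left (by rw [← mul_assoc]; exact key2) (by omega)
  have ht0 : t = 0 := by
    by_contra hh
    have : d + d * t ≤ s + t := by rw [Nat.mul_add, mul_one] at key3; exact key3
    have : 2 * t ≤ d * t := Nat.mul_le_mul_right _ hd
    omega
  subst ht0
  refine ⟨by omega, fun _ => ?_⟩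
  have : d ≤ s := by simpa using key3
  omega

/-- The lower bound on an irreducible constituent. -/
theorem irreducible_bound {G : Type w} [Group G] [Finite G] {p n q : ℕ} [Fact p.Prime] [Fact q.Prime] [CharP K p]
    (hqK : (q : K) ≠ 0) (ρ : G →* Module.End K V) (Q : Subgroup G) [Q.Normal] (hQ : IsPGroup q Q)
    (hirr : ∀ S : Submodule K V, (∀ g ∈ Q, ∀ w ∈ S, ρ g w ∈ S) → S = ⊥ ∨ S = ⊤) (x : G) (hx : x ^ p ^ n = 1)
    (hn : n ≠ 0) (hd : 2 ≤ finrank K V)
    (hfree : ∀ i, 0 < i → i < p ^ n → ∀ u ∈ Q, x ^ i * u * (x ^ i)⁻¹ * u⁻¹ ∈ (adRep ρ).ker → u ∈ (adRep ρ).ker)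
    (r : ℕ) (hr : (ρ x - 1) ^ r = 0) (hrN : r < p ^ n) : r = p ^ n - 1 ∧ ∃ b, 1 ≤ b ∧ p ^ n - 1 = q ^ b := by
  obtain ⟨m, hm⟩ := IsPGroup.iff_card.1 hQ
  have hQK : ((Nat.card Q : ℕ) : K) ≠ 0 := by rw [hm, Nat.cast_pow]; exact pow_ne_zero _ hqK
  have hcount := centralizer_count (p := p) (n := n) ρ Q hQK hirr x hx hn hfree
  have hTd : (ρ x - 1) ^ finrank K V = 0 := by
    have h1 := LinearMap.aeval_self_charpoly (ρ x - 1)
    rw [IsNilpotent.charpoly_eq_X_pow_finrank ⟨r, hr⟩, map_pow, Polynomial.aeval_X] at h1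
    exact h1
  have hs : (ρ x - 1) ^ min r (finrank K V) = 0 := by
    rcases min_choice r (finrank K V) with h | h <;> rw [h] <;> assumption
  have hsq := sq_le_mul_finrank_centralizer _ V (ρ x - 1) _ le_rfl hs
  have hN1 : 1 < p ^ n := Nat.one_lt_pow hn (Fact.out : p.Prime).one_lt
  obtain ⟨h1, h2⟩ := lower_bound_arith hN1 hcount hsq (by omega) (min_le_right _ _) hd
  have hle : min r (finrank K V) ≤ r := min_le_left _ _
  refine ⟨by omega, ?_⟩
  obtain ⟨b, hb⟩ := degree_prime_pow hqK _ Q V (ρ.comp Q.subtype) le_rfl hQ fun S h => hirr S fun g hg => h ⟨g, hg⟩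
  have h3 : finrank K V = p ^ n - 1 := h2 (by omega)
  refine ⟨b, ?_, by rw [← h3, hb]⟩
  rcases Nat.eq_zero_or_pos b with h | h
  · rw [h, pow_zero] at hb; omega
  · exact h

end Cfsg.Lib.HallHigman
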