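import Mathlib
import Cfsg.Prelude
import Cfsg.Agent.HallHigman.Invariant
import Cfsg.Agent.GaschutzYen.Basic
import Cfsg.Agent.S4748
import Cfsg.Agent.Coprime.Basic

/-!
Theorem B of Hall and Higman over an algebraically closed field.
-/

set_option linter.style.haveILetI false
set_option linter.unusedSectionVars false

namespace Cfsg.Lib.HallHigman

open Module Subgroup
open scoped commutatorElement

universe u v w

section Groups

variable {H : Type w} [Group H] [Finite H]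

theorem mem_normalizer_of_conj_le {S : Subgroup H} {x : H} (h : ∀ z ∈ S, x * z * x⁻¹ ∈ S) :
    x ∈ normalizer (S : Set H) := by
  have he : S.map (MulAut.conj x).toMonoidHom = S :=
    Subgroup.eq_of_le_of_card_ge (by rintro _ ⟨z, hz, rfl⟩; exact h z hz)
      (le_of_eq (Nat.card_congr (S.equivMapOfInjective _ (MulAut.conj x).injective).toEquiv))
  refine mem_normalizer_iff.2 fun z => ⟨h z, fun hz => ?_⟩
  have h2 := he.ge hz
  obtain ⟨w, hw, e⟩ := h2
  exact (mul_left_cancel (mul_right_cancel e) : w = z) ▸ hw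

/-- The minimal subgroup moved by an element of order `p`. -/
theorem exists_critical_subgroup {p q : ℕ} [Fact p.Prime] [Fact q.Prime] (hqp : q ≠ p) (x y : H) (hxy : x * y = y * x)
    (hyp : y ^ p = 1) (hyx : y ∈ zpowers x) (T : Subgroup H) (hT : IsPGroup q T) (hTx : x ∈ normalizer (T : Set H))
    (hmove : ∃ a ∈ T, a * y ≠ y * a) :
    ∃ Q : Subgroup H, IsPGroup q Q ∧ x ∈ normalizer (Q : Set H) ∧ (∃ a ∈ Q, a * y ≠ y * a) ∧
      ((∀ a ∈ Q, ∀ b ∈ Q, a * b = b * a) ∨ ((∀ a ∈ Q, a * y = y * a ↔ ∀ b ∈ Q, a * b = b * a) ∧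
        ∀ a ∈ Q, ∀ b ∈ Q, ∀ c ∈ Q, (a * b * a⁻¹ * b⁻¹) * c = c * (a * b * a⁻¹ * b⁻¹))) := by
  classical
  obtain ⟨Q, ⟨hQT, hQx, hQm⟩, hQmin⟩ := WellFounded.has_min (wellFounded_lt (α := Subgroup H))
    {S | S ≤ T ∧ x ∈ normalizer (S : Set H) ∧ ∃ a ∈ S, a * y ≠ y * a} ⟨T, le_rfl, hTx, hmove⟩
  have hQp : IsPGroup q Q := hT.to_le hQT
  refine ⟨Q, hQp, hQx, hQm, or_iff_not_imp_left.2 fun hnc => ?_⟩
  have hM : ∀ S : Subgroup H, S ≤ Q → S ≠ Q → (∀ z ∈ S, x * z * x⁻¹ ∈ S) → ∀ z ∈ S, z * y = y * z := by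
    intro S hS hne hinv z hz
    by_contra h
    exact hQmin S ⟨hS.trans hQT, mem_normalizer_of_conj_le hinv, z, hz, h⟩ (lt_of_le_of_ne hS hne)
  have hxQ : ∀ u ∈ Q, x * u * x⁻¹ ∈ Q := fun u hu => (mem_normalizer_iff.1 hQx u).1 hu
  have hxQ' : ∀ u ∈ Q, x⁻¹ * u * x ∈ Q := fun u hu => (mem_normalizer_iff''.1 hQx u).1 hu
  have hyQ : ∀ u ∈ Q, y * u * y⁻¹ ∈ Q := fun u hu =>
    (mem_normalizer_iff.1 ((zpowers_le.2 hQx : zpowers x ≤ normalizer (Q : Set H)) hyx) u).1 hu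
  set D := closure {g | ∃ u ∈ Q, g = y * u * y⁻¹ * u⁻¹} with hD
  have hDle : D ≤ Q := (closure_le Q).2 (by rintro _ ⟨u, hu, rfl⟩; exact mul_mem (hyQ u hu) (inv_mem hu))
  have hDx : ∀ z ∈ D, x * z * x⁻¹ ∈ D := by
    intro z hz
    induction hz using closure_induction with
    | mem g hg =>
      obtain ⟨u, hu, rfl⟩ := hg
      refine subset_closure ⟨x * u * x⁻¹, hxQ u hu, ?_⟩
      have h1 : x⁻¹ * y = y * x⁻¹ := by
        rw [inv_mul_eq_iff_eq_mul, ← mul_assoc, hxy, mul_inv_cancel_right]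
      calc x * (y * u * y⁻¹ * u⁻¹) * x⁻¹ = (x * y) * u * (y⁻¹ * x⁻¹) * (x * u⁻¹ * x⁻¹) := by group
        _ = (y * x) * u * (y⁻¹ * x⁻¹) * (x * u⁻¹ * x⁻¹) := by rw [hxy]
        _ = (y * x) * u * (x⁻¹ * y⁻¹) * (x * u⁻¹ * x⁻¹) := by rw [← mul_inv_rev, hxy, mul_inv_rev]
        _ = _ := by group
    | one => simp
    | mul a b _ _ ha hb =>
      have h := D.mul_mem ha hb
      rwa [show x * a * x⁻¹ * (x * b * x⁻¹) = x * (a * b) * x⁻¹ by group] at h
    | inv a _ ha =>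
      have h := D.inv_mem ha
      rwa [show (x * a * x⁻¹)⁻¹ = x * a⁻¹ * x⁻¹ by group] at h
  have hDQ : D = Q := by
    by_contra hne
    obtain ⟨u, hu, hne'⟩ := hQm
    set c := y * u * y⁻¹ * u⁻¹ with hc
    have hcD : c ∈ D := subset_closure ⟨u, hu, rfl⟩
    have hcy : Commute c y := hM D hDle hne hDx c hcD
    have hi : ∀ i : ℕ, y ^ i * u = c ^ i * u * y ^ i := by
      intro i
      induction i with
      | zero => simp
      | succ i ih =>
        calc y ^ (i + 1) * u = y * (y ^ i * u) := by rw [pow_succ', mul_assoc]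
          _ = y * c ^ i * (u * y ^ i) := by rw [ih]; group
          _ = c ^ i * y * (u * y ^ i) := by rw [(hcy.pow_left i).eq]
          _ = c ^ (i + 1) * u * y ^ (i + 1) := by
            rw [pow_succ (a := c), pow_succ' (a := y), hc]; group
    have hcp : c ^ p = 1 := by
      have := hi p
      rw [hyp, one_mul, mul_one] at this
      exact right_eq_mul.1 this
    have hc1 : c = 1 := by
      obtain ⟨k, hk⟩ := hQp ⟨c, hDle hcD⟩
      have hk' : c ^ q ^ k = 1 := congrArg Subtype.val hk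
      have h1 : orderOf c ∣ Nat.gcd p (q ^ k) :=
        Nat.dvd_gcd (orderOf_dvd_of_pow_eq_one hcp) (orderOf_dvd_of_pow_eq_one hk')
      rw [Nat.Coprime.gcd_eq_one (((Nat.coprime_primes Fact.out Fact.out).2 (Ne.symm hqp)).pow_right k),
        Nat.dvd_one] at h1
      exact orderOf_eq_one_iff.1 h1
    refine hne' ?_
    rw [hc, mul_inv_eq_one, mul_inv_eq_iff_eq_mul] at hc1
    exact hc1.symm
  have hcentral : ∀ S : Subgroup H, S ≤ Q → (∀ u ∈ Q, ∀ c ∈ S, u⁻¹ * c * u ∈ S) → (∀ z ∈ S, z * y = y * z) →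
      ∀ c ∈ S, ∀ b ∈ Q, c * b = b * c := by
    intro S _ hn hfix c hc b hb
    rw [← hDQ] at hb
    refine (mem_centralizer_singleton_iff.1 ((closure_le (centralizer ({c} : Set H))).2 ?_ hb)).symm
    rintro _ ⟨u, hu, rfl⟩
    rw [SetLike.mem_coe, mem_centralizer_singleton_iff]
    have h1 := hfix _ (hn u hu c hc)
    have h2 := hfix c hc
    calc y * u * y⁻¹ * u⁻¹ * c = y * u * y⁻¹ * ((u⁻¹ * c * u) * y) * y⁻¹ * u⁻¹ := by group
      _ = y * u * y⁻¹ * (y * (u⁻¹ * c * u)) * y⁻¹ * u⁻¹ := by rw [h1]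
      _ = (y * c) * u * y⁻¹ * u⁻¹ := by group
      _ = (c * y) * u * y⁻¹ * u⁻¹ := by rw [h2]
      _ = c * (y * u * y⁻¹ * u⁻¹) := by group
  have hnt : Nontrivial Q := by
    obtain ⟨a, ha, hne⟩ := hQm
    exact ⟨⟨a, ha⟩, 1, fun e => hne (by rw [show a = 1 from congrArg Subtype.val e, one_mul, mul_one])⟩
  haveI : Group.IsNilpotent Q := hQp.isNilpotent
  have hder : ⁅Q, Q⁆ ≠ Q := by
    intro e
    refine (IsSolvable.commutator_lt_top_of_nontrivial Q).ne (map_injective Q.subtype_injective ?_)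
    rw [Subgroup.map_subtype_commutator, e, ← MonoidHom.range_eq_map, Subgroup.range_subtype]
  have hderle : ⁅Q, Q⁆ ≤ Q := Subgroup.commutator_le.2 fun a ha b hb =>
    mul_mem (mul_mem (mul_mem ha hb) (inv_mem ha)) (inv_mem hb)
  have hderx : ∀ z ∈ ⁅Q, Q⁆, x * z * x⁻¹ ∈ ⁅Q, Q⁆ := by
    intro z hz
    have h1 : ⁅Q, Q⁆.map (MulAut.conj x).toMonoidHom ≤ ⁅Q, Q⁆ := by
      rw [map_commutator]
      exact commutator_mono (by rintro _ ⟨u, hu, rfl⟩; exact hxQ u hu) (by rintro _ ⟨u, hu, rfl⟩; exact hxQ u hu)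
    exact h1 ⟨z, hz, rfl⟩
  have hderfix := hM _ hderle hder hderx
  have hderc := hcentral _ hderle (fun u hu c hc => by
    have h1 : ⁅u⁻¹, c⁆ ∈ ⁅Q, Q⁆ := commutator_mem_commutator (inv_mem hu) (hderle hc)
    have h2 := mul_mem h1 hc
    rwa [commutatorElement_def, inv_inv, inv_mul_cancel_right] at h2) hderfix
  refine ⟨fun a ha => ⟨fun hay => ?_, fun hac => ?_⟩, fun a ha b hb c hc =>
    hderc _ (commutator_mem_commutator ha hb) c hc⟩
  · refine hcentral (Q ⊓ centralizer ({y} : Set H)) inf_le_left (fun u hu c hc => ?_)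
      (fun z hz => mem_centralizer_singleton_iff.1 hz.2) a ⟨ha, mem_centralizer_singleton_iff.2 hay⟩
    have h1 : ⁅u⁻¹, c⁆ ∈ ⁅Q, Q⁆ := commutator_mem_commutator (inv_mem hu) hc.1
    refine ⟨Q.mul_mem (Q.mul_mem (Q.inv_mem hu) hc.1) hu, mem_centralizer_singleton_iff.2 ?_⟩
    have h2 : u⁻¹ * c * u = ⁅u⁻¹, c⁆ * c := by rw [commutatorElement_def, inv_inv, inv_mul_cancel_right]
    rw [h2]
    exact (Commute.mul_left (hderfix _ h1) (mem_centralizer_singleton_iff.1 hc.2) : Commute (⁅u⁻¹, c⁆ * c) y).eq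
  · refine hM (Q ⊓ centralizer (Q : Set H)) inf_le_left (fun e => hnc fun a ha b hb => ?_) (fun z hz => ?_) a
      ⟨ha, mem_centralizer_iff.2 fun b hb => (hac b hb).symm⟩
    · exact (mem_centralizer_iff.1 (e.ge ha).2 b hb).symm
    · refine ⟨hxQ z hz.1, mem_centralizer_iff.2 fun b hb => ?_⟩
      have := mem_centralizer_iff.1 hz.2 _ (hxQ' b hb)
      calc b * (x * z * x⁻¹) = x * ((x⁻¹ * b * x) * z) * x⁻¹ := by group
        _ = x * (z * (x⁻¹ * b * x)) * x⁻¹ := by rw [this]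
        _ = x * z * x⁻¹ * b := by group

end Groups

variable {K : Type u} [Field K] [IsAlgClosed K] {V : Type v} [AddCommGroup V] [Module K V] [FiniteDimensional K V]

/-- The representation on an invariant submodule. -/
def restrictRep {G : Type w} [Group G] (ρ : G →* Module.End K V) (W : Submodule K V)
    (h : ∀ g : G, ∀ v ∈ W, ρ g v ∈ W) : G →* Module.End K W where
  toFun g := (ρ g).restrict (h g)
  map_one' := LinearMap.ext fun x => Subtype.ext (by simp)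
  map_mul' g k := LinearMap.ext fun x => Subtype.ext (by simp)

theorem restrictRep_apply {G : Type w} [Group G] (ρ : G →* Module.End K V) (W : Submodule K V)
    (h : ∀ g : G, ∀ v ∈ W, ρ g v ∈ W) (g : G) (x : W) : ((restrictRep ρ W h g x : W) : V) = ρ g x := rfl

/-- The stabilizer of a submodule. -/
def stabSub {G : Type w} [Group G] [Finite G] (ρ : G →* Module.End K V) (W : Submodule K V) : Subgroup G where
  carrier := {g | ∀ v ∈ W, ρ g v ∈ W}
  one_mem' := fun v hv => by simpa using hv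
  mul_mem' := fun {a b} ha hb v hv => by rw [map_mul]; exact ha _ (hb v hv)
  inv_mem' := fun {a} ha v hv => by
    have hp : ∀ i : ℕ, ∀ v ∈ W, ρ (a ^ i) v ∈ W := by
      intro i
      induction i with
      | zero => intro v hv; simpa using hv
      | succ i ih => intro v hv; rw [pow_succ', map_mul]; exact ha _ (ih v hv)
    rw [show a⁻¹ = a ^ (orderOf a - 1) from inv_eq_of_mul_eq_one_left (by
      rw [← pow_succ, Nat.sub_add_cancel (orderOf_pos a), pow_orderOf_eq_one])]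
    exact hp _ v hv

/-- Common eigenvectors of an abelian group span. -/
theorem common_eigen_span {Z : Type w} [Group Z] [Finite Z] (hcomm : ∀ a b : Z, a * b = b * a)
    (hZK : ((Nat.card Z : ℕ) : K) ≠ 0) (ρ : Z →* Module.End K V) :
    Submodule.span K {v : V | ∀ a : Z, ∃ c : K, ρ a v = c • v} = ⊤ := by
  set E := {v : V | ∀ a : Z, ∃ c : K, ρ a v = c • v}
  suffices h : ∀ S : Submodule K V, (∀ a : Z, ∀ v ∈ S, ρ a v ∈ S) → S ≤ Submodule.span K E from
    top_le_iff.1 (h ⊤ fun _ _ _ => trivial)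
  intro S
  induction S using WellFoundedLT.induction with
  | ind S ih =>
    intro hS
    by_cases hsc : ∀ a : Z, ∀ v ∈ S, ∃ c : K, ρ a v = c • v
    · exact fun v hv => Submodule.subset_span fun a => hsc a v hv
    push Not at hsc
    obtain ⟨a, v₀, hv₀, hns⟩ := hsc
    set φ := (ρ a).restrict (hS a)
    have hφ : φ ^ Nat.card Z = 1 := by
      have h1 : φ ^ Nat.card Z = restrictRep ρ S hS (a ^ Nat.card Z) := (map_pow (restrictRep ρ S hS) a _).symm
      rw [h1, pow_card_eq_one', map_one]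
    intro v hv
    have h1 : (⟨v, hv⟩ : S) ∈ (Submodule.span K E).comap S.subtype := by
      refine (Cfsg.Lib.OddP.eigen_span hZK φ hφ).ge.trans (Submodule.span_le.2 ?_) trivial
      rintro ⟨w, hw⟩ ⟨μ, hμ⟩
      refine ih (S ⊓ (ρ a).eigenspace μ) (lt_of_le_of_ne inf_le_left fun e => hns μ
        (Module.End.mem_eigenspace_iff.1 (e.ge hv₀).2)) (fun b u hu => ⟨hS b u hu.1, ?_⟩)
        ⟨hw, Module.End.mem_eigenspace_iff.2 (congrArg Subtype.val hμ)⟩
      rw [SetLike.mem_coe, Module.End.mem_eigenspace_iff, ← Module.End.mul_apply, ← map_mul, hcomm a b, map_mul,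
        Module.End.mul_apply, Module.End.mem_eigenspace_iff.1 hu.2, map_smul]
    exact h1

/-- The reduction to the critical subgroup. -/
theorem critical_bound {H : Type w} [Group H] [Finite H] {p k q : ℕ} [Fact p.Prime] [Fact q.Prime] [CharP K p]
    (hqp : q ≠ p) (ρ : H →* Module.End K V) (hρ : Function.Injective ρ) (x : H) (hx : x ^ p ^ (k + 1) = 1)
    (Q : Subgroup H) (hQ : IsPGroup q Q) (hQx : x ∈ normalizer (Q : Set H))
    (hmove : ∃ a ∈ Q, a * x ^ p ^ k ≠ x ^ p ^ k * a)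
    (hZ : ∀ a ∈ Q, a * x ^ p ^ k = x ^ p ^ k * a ↔ ∀ b ∈ Q, a * b = b * a)
    (hcl : ∀ a ∈ Q, ∀ b ∈ Q, ∀ c ∈ Q, (a * b * a⁻¹ * b⁻¹) * c = c * (a * b * a⁻¹ * b⁻¹))
    (r : ℕ) (hr : (ρ x - 1) ^ r = 0) (hrlt : r < p ^ (k + 1)) :
    ∃ n₀ m : ℕ, 1 ≤ n₀ ∧ n₀ ≤ k + 1 ∧ 1 ≤ m ∧ p ^ n₀ - 1 = q ^ m ∧
      p ^ (k + 1 - n₀) * (p ^ n₀ - 1) ≤ r := by
  classical
  have hp : p.Prime := Fact.out
  have hq : q.Prime := Fact.out
  haveI : ExpChar K p := ExpChar.prime hp
  set y := x ^ p ^ k with hy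
  have hyp : y ^ p = 1 := by rw [hy, ← pow_mul, ← pow_succ, hx]
  have hqK : (q : K) ≠ 0 := fun h => hqp (((Nat.prime_dvd_prime_iff_eq hp hq).1 ((CharP.cast_eq_zero_iff K p q).1 h)).symm)
  obtain ⟨mQ, hmQ⟩ := IsPGroup.iff_card.1 hQ
  set Z := Q ⊓ centralizer (Q : Set H) with hZdef
  have hmemZ : ∀ a, a ∈ Z ↔ a ∈ Q ∧ ∀ b ∈ Q, a * b = b * a := fun a =>
    ⟨fun h => ⟨h.1, fun b hb => (mem_centralizer_iff.1 h.2 b hb).symm⟩,
      fun h => ⟨h.1, mem_centralizer_iff.2 fun b hb => (h.2 b hb).symm⟩⟩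
  have hZcomm : ∀ a b : Z, a * b = b * a := fun a b => Subtype.ext (((hmemZ a).1 a.2).2 b b.2.1)
  have hZK : ((Nat.card Z : ℕ) : K) ≠ 0 := by
    obtain ⟨m, hm⟩ := IsPGroup.iff_card.1 (hQ.to_le (inf_le_left : Z ≤ Q))
    rw [hm, Nat.cast_pow]
    exact pow_ne_zero _ hqK
  have hxQ : ∀ u ∈ Q, x * u * x⁻¹ ∈ Q := fun u hu => (mem_normalizer_iff.1 hQx u).1 hu
  have hxQ' : ∀ u ∈ Q, x⁻¹ * u * x ∈ Q := fun u hu => (mem_normalizer_iff''.1 hQx u).1 hu
  have hxiQ : ∀ (i : ℕ), ∀ u ∈ Q, x ^ i * u * (x ^ i)⁻¹ ∈ Q := fun i u hu =>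
    (mem_normalizer_iff.1 (pow_mem hQx i) u).1 hu
  have hxZ : ∀ z : Z, x⁻¹ * (z : H) * x ∈ Z := by
    intro z
    refine (hmemZ _).2 ⟨hxQ' _ z.2.1, fun b hb => ?_⟩
    calc x⁻¹ * (z : H) * x * b = x⁻¹ * ((z : H) * (x * b * x⁻¹)) * x := by group
      _ = x⁻¹ * ((x * b * x⁻¹) * z) * x := by rw [((hmemZ _).1 z.2).2 _ (hxQ b hb)]
      _ = b * (x⁻¹ * (z : H) * x) := by group
  let σ : Z → Z := fun z => ⟨x⁻¹ * (z : H) * x, hxZ z⟩
  have hσi : ∀ (i : ℕ) (z : Z), ((σ^[i] z : Z) : H) = (x ^ i)⁻¹ * (z : H) * x ^ i := by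
    intro i
    induction i with
    | zero => intro z; simp
    | succ i ih =>
      intro z
      rw [Function.iterate_succ_apply', show ((σ (σ^[i] z) : Z) : H) = x⁻¹ * ((σ^[i] z : Z) : H) * x from rfl, ih,
        pow_succ]
      group
  -- an eigenspace on which `y` moves `Q`
  obtain ⟨v₀, hv₀, u₀, hu₀, hmv⟩ : ∃ v : V, (∀ a : Z, ∃ c : K, ρ a v = c • v) ∧
      ∃ u ∈ Q, ρ (u * y) v ≠ ρ (y * u) v := by
    by_contra hh
    push Not at hh
    obtain ⟨a, ha, hne⟩ := hmove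
    refine hne (hρ (LinearMap.ext_on (common_eigen_span hZcomm hZK (ρ.comp Z.subtype)) fun v hv => ?_))
    exact hh v hv a ha
  have hv₀0 : v₀ ≠ 0 := fun h => hmv (by simp [h])
  choose f hf using hv₀
  set U : Submodule K V := ⨅ z : Z, (ρ (z : H)).eigenspace (f z) with hUdef
  have hU : ∀ v, v ∈ U ↔ ∀ z : Z, ρ (z : H) v = f z • v := fun v => by
    simp [hUdef, Submodule.mem_iInf]
  -- the orbit of the eigenvalue function
  let τ : (Z → K) → (Z → K) := fun g => g ∘ σ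
  have hτ : ∀ (i : ℕ) (g : Z → K), τ^[i] g = g ∘ σ^[i] := by
    intro i
    induction i with
    | zero => intro g; rfl
    | succ i ih => intro g; rw [Function.iterate_succ_apply', ih, Function.iterate_succ]; rfl
  have hper : Function.IsPeriodicPt τ (p ^ k) f := by
    show τ^[p ^ k] f = f
    rw [hτ]
    funext z
    show f _ = f z
    congr 1
    refine Subtype.ext ?_
    rw [hσi, mul_assoc, ((hZ _ z.2.1).2 ((hmemZ _).1 z.2).2), ← mul_assoc, inv_mul_cancel, one_mul]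
  obtain ⟨a, hak, haM⟩ := (Nat.dvd_prime_pow hp).1 hper.minimalPeriod_dvd
  set M := p ^ a with hMdef
  have hMpos : 0 < M := pow_pos hp.pos _
  set x' := x ^ M with hx'
  set n' := k + 1 - a with hn'
  set N := p ^ n' with hNdef
  have hn'0 : n' ≠ 0 := by omega
  have hN1 : 1 < N := Nat.one_lt_pow hn'0 hp.one_lt
  have hMN : M * N = p ^ (k + 1) := by rw [hMdef, hNdef, ← pow_add]; congr 1; omega
  have hx'N : x' ^ N = 1 := by rw [hx', ← pow_mul, hMN, hx]
  have hyx' : x' ^ p ^ (k - a) = y := by rw [hx', ← pow_mul, hMdef, ← pow_add, hy]; congr 2; omega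
  have hfM : ∀ z : Z, f (σ^[M] z) = f z := by
    have h1 : τ^[M] f = f := by rw [← haM]; exact Function.isPeriodicPt_minimalPeriod τ f
    rw [hτ] at h1
    exact fun z => congrFun h1 z
  have hQU : ∀ g ∈ Q, g ∈ stabSub ρ U := by
    intro g hg v hv
    rw [hU] at hv ⊢
    intro z
    rw [← Module.End.mul_apply, ← map_mul, ((hmemZ _).1 z.2).2 g hg, map_mul, Module.End.mul_apply, hv, map_smul]
  have hx'U : x' ∈ stabSub ρ U := by
    intro v hv
    rw [hU] at hv ⊢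
    intro z
    have h1 : (z : H) * x' = x' * (σ^[M] z : Z) := by rw [hσi, hx']; group
    rw [← Module.End.mul_apply, ← map_mul, h1, map_mul, Module.End.mul_apply, hv, map_smul, hfM]
  set G₁ := Q ⊔ zpowers x' with hG₁
  have hG₁U : G₁ ≤ stabSub ρ U := sup_le hQU (zpowers_le.2 hx'U)
  let ρU : G₁ →* Module.End K U := restrictRep (ρ.comp G₁.subtype) U fun g => hG₁U g.2
  let X : G₁ := ⟨x', (le_sup_right : zpowers x' ≤ G₁) (mem_zpowers x')⟩
  let Y : G₁ := X ^ p ^ (k - a)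
  have hYv : (Y : H) = y := by simp [Y, X, hyx']
  have hXN : X ^ N = 1 := Subtype.ext (by simpa [X] using hx'N)
  have hYp : Y ^ p = 1 := Subtype.ext (by rw [Subgroup.coe_pow, hYv, hyp, Subgroup.coe_one])
  set Q₁ := Q.subgroupOf G₁ with hQ₁
  haveI : Q₁.Normal := normal_subgroupOf_of_le_normalizer
    (sup_le le_normalizer (zpowers_le.2 (pow_mem hQx M)))
  have hQ₁p : IsPGroup q Q₁ := hQ.comap_of_injective _ G₁.subtype_injective
  have hmQ₁ : ∀ u : G₁, u ∈ Q₁ ↔ (u : H) ∈ Q := fun u => mem_subgroupOf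
  have hmk : ∀ u ∈ Q, u ∈ G₁ := fun u hu => (le_sup_left : Q ≤ G₁) hu
  have hscalZ : ∀ u : G₁, (hz : (u : H) ∈ Z) → ρU u = f ⟨u, hz⟩ • 1 := fun u hz =>
    LinearMap.ext fun v => Subtype.ext ((hU _).1 v.2 ⟨u, hz⟩)
  have hmvU : ∃ u : G₁, u ∈ Q₁ ∧ ρU (u * Y) ≠ ρU (Y * u) := by
    refine ⟨⟨u₀, hmk _ hu₀⟩, hu₀, fun e => hmv ?_⟩
    have hv₀U : v₀ ∈ U := (hU _).2 fun z => hf z
    have h1 := congrArg Subtype.val (LinearMap.congr_fun e ⟨v₀, hv₀U⟩)
    change ρ (u₀ * (Y : H)) v₀ = ρ ((Y : H) * u₀) v₀ at h1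
    rwa [hYv] at h1
  -- commuting with `y` forces a scalar
  have hkey : ∀ u ∈ Q₁, ρU (u * Y) = ρU (Y * u) → ∃ c : K, ρU u = c • 1 := by
    intro u hu he
    have hyQ : ∀ b : G₁, b ∈ Q₁ → Y * b * Y⁻¹ ∈ Q₁ := fun b hb => (inferInstance : Q₁.Normal).conj_mem b hb Y
    have hwi : ∀ i : ℕ, (u * Y) ^ i * (Y ^ i)⁻¹ ∈ Q₁ := by
      intro i
      induction i with
      | zero => simp
      | succ i ih =>
        rw [pow_succ', pow_succ, show u * Y * (u * Y) ^ i * (Y ^ i * Y)⁻¹ =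
          u * (Y * ((u * Y) ^ i * (Y ^ i)⁻¹) * Y⁻¹) by group]
        exact mul_mem hu (hyQ _ ih)
    set w := (u * Y) ^ p
    have hwQ : w ∈ Q₁ := by
      have := hwi p
      rwa [hYp, inv_one, mul_one] at this
    have hcomm : (u * Y) * w = w * (u * Y) := (Commute.self_pow (u * Y) p).eq
    set e := u⁻¹ * w * u * w⁻¹ with hee
    have hec : ∀ c ∈ Q₁, e * c = c * e := fun c hc => Subtype.ext (by
      have h1 := hcl (u : H)⁻¹ (inv_mem ((hmQ₁ u).1 hu)) (w : H) ((hmQ₁ w).1 hwQ) (c : H) ((hmQ₁ c).1 hc)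
      rw [inv_inv] at h1
      simpa [hee, mul_assoc] using h1)
    have heQ : e ∈ Q₁ := mul_mem (mul_mem (mul_mem (inv_mem hu) hwQ) hu) (inv_mem hwQ)
    have hey : Commute e Y := Subtype.ext (by
      show (e : H) * (Y : H) = (Y : H) * (e : H)
      rw [hYv]
      exact (hZ _ heQ).2 fun b hb => congrArg Subtype.val (hec ⟨b, hmk b hb⟩ hb))
    have hYw : Y * w = e * w * Y := by
      calc Y * w = u⁻¹ * ((u * Y) * w) := by group
        _ = u⁻¹ * (w * (u * Y)) := by rw [hcomm]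
        _ = e * w * Y := by rw [hee]; group
    have hYi : ∀ i : ℕ, Y ^ i * w = e ^ i * w * Y ^ i := by
      intro i
      induction i with
      | zero => simp
      | succ i ih =>
        calc Y ^ (i + 1) * w = Y * (Y ^ i * w) := by rw [pow_succ', mul_assoc]
          _ = (Y * e ^ i) * w * Y ^ i := by rw [ih]; group
          _ = e ^ i * (Y * w) * Y ^ i := by rw [← (hey.pow_left i).eq]; group
          _ = e ^ (i + 1) * w * Y ^ (i + 1) := by rw [hYw, pow_succ (a := e), pow_succ' (a := Y)]; group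
    have hep : e ^ p = 1 := by
      have := hYi p
      rw [hYp, one_mul, mul_one] at this
      exact right_eq_mul.1 this
    have hcop : ∀ b : G₁, b ∈ Q₁ → b ^ p = 1 → b = 1 := by
      intro b hb hbp
      obtain ⟨j, hj⟩ := hQ₁p ⟨b, hb⟩
      have hj' : b ^ q ^ j = 1 := congrArg Subtype.val hj
      have h1 : orderOf b ∣ Nat.gcd p (q ^ j) :=
        Nat.dvd_gcd (orderOf_dvd_of_pow_eq_one hbp) (orderOf_dvd_of_pow_eq_one hj')
      rw [Nat.Coprime.gcd_eq_one (((Nat.coprime_primes hp hq).2 (Ne.symm hqp)).pow_right j), Nat.dvd_one] at h1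
      exact orderOf_eq_one_iff.1 h1
    have hwY : w * Y = Y * w := by rw [hYw, hcop e heQ hep, one_mul]
    have hwZ : (w : H) ∈ Z := (hmemZ _).2 ⟨hwQ, (hZ _ hwQ).1 (by
      have := congrArg Subtype.val hwY
      rwa [Subgroup.coe_mul, Subgroup.coe_mul, hYv] at this)⟩
    have hwU : ρU w = ρU u ^ p := by
      have hcm : Commute (ρU u) (ρU Y) := by
        show ρU u * ρU Y = ρU Y * ρU u
        rw [← map_mul, ← map_mul, he]
      rw [map_pow, map_mul, hcm.mul_pow, ← map_pow ρU Y, hYp, map_one, mul_one]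
    obtain ⟨j, hj⟩ := hQ₁p ⟨u, hu⟩
    have hj' : u ^ q ^ j = 1 := congrArg Subtype.val hj
    rcases Nat.eq_zero_or_pos j with rfl | hj0
    · rw [pow_zero, pow_one] at hj'
      exact ⟨1, by rw [hj', map_one, one_smul]⟩
    obtain ⟨l, -, hl⟩ := Nat.exists_mul_mod_eq_one_of_coprime
      (((Nat.coprime_primes hp hq).2 (Ne.symm hqp)).pow_right j) (Nat.one_lt_pow hj0.ne' hq.one_lt)
    refine ⟨(f ⟨_, hwZ⟩) ^ l, ?_⟩
    have h1 : u ^ (p * l) = u := by
      rw [← Nat.mod_add_div (p * l) (q ^ j), hl, pow_add, pow_one, pow_mul, hj', one_pow, mul_one]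
    rw [← one_pow (M := Module.End K U) l, ← smul_pow, ← hscalZ w hwZ, hwU, ← pow_mul, ← map_pow, h1]
  -- the lift from the eigenspace
  have hinj : Set.InjOn (fun i => f ∘ σ^[i]) (Set.Iio M) := by
    have h1 := Function.iterate_injOn_Iio_minimalPeriod (f := τ) (x := f)
    rw [haM] at h1
    simpa only [hτ] using h1
  have hxM : (ρ x - 1) ^ M = ρ x' - 1 := by
    haveI : Nontrivial V := ⟨⟨v₀, 0, hv₀0⟩⟩
    haveI : CharP (Module.End K V) p := charP_of_injective_algebraMap (algebraMap K (Module.End K V)).injective p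
    haveI : ExpChar (Module.End K V) p := ExpChar.prime hp
    rw [hMdef, sub_pow_expChar_pow_of_commute (p := p) _ (Commute.one_right _), one_pow, ← map_pow]
  have hxu : IsUnit (ρ x) := (Group.isUnit x).map ρ
  have hrest : ∀ (s : ℕ) (v : U), ((((ρU X - 1) ^ s) v : U) : V) = ((ρ x' - 1) ^ s) (v : V) := by
    intro s
    induction s with
    | zero => intro v; simp
    | succ s ih =>
      intro v
      rw [pow_succ', Module.End.mul_apply, pow_succ', Module.End.mul_apply, ← ih]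
      rfl
  have hlift : ∀ s, (ρU X - 1) ^ s ≠ 0 → M * (s + 1) ≤ r := by
    intro s hs
    by_contra hh
    obtain ⟨v, hv⟩ : ∃ v, ((ρU X - 1) ^ s) v ≠ 0 := by
      by_contra hall
      push Not at hall
      exact hs (LinearMap.ext hall)
    set w := ((ρU X - 1) ^ s) v
    have h0 : (ρ x - 1) ^ (M - 1 + M * s) = 0 :=
      pow_eq_zero_of_le (by have := Nat.mul_add M s 1; rw [mul_one] at this; omega) hr
    refine pow_sub_one_apply_ne_zero_of_orbit (ρ.comp Z.subtype) (ρ x) hxu σ (fun z => ?_) (w : V) f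
      (fun z => (hU _).1 w.2 z) (fun e => hv (Subtype.ext e)) M hinj hMpos ?_
    · show ρ x * ρ (x⁻¹ * (z : H) * x) = ρ (z : H) * ρ x
      rw [← map_mul, ← map_mul]; congr 1; group
    · rw [show (w : V) = _ from hrest s v, ← hxM, ← Module.End.mul_apply, ← pow_mul, ← pow_add, h0, LinearMap.zero_apply]
  have hfull : (ρU X - 1) ^ (N - 1) = 0 := by
    by_contra hh
    have := hlift _ hh
    rw [Nat.sub_add_cancel hN1.le, hMN] at this
    omega
  -- the part centralizing `Q` on the eigenspace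
  let ρu : G₁ →* (Module.End K U)ˣ := ρU.toHomUnits
  have hρu : ∀ g, ((ρu g : (Module.End K U)ˣ) : Module.End K U) = ρU g := fun g => rfl
  have hR : ∀ u ∈ Q₁, (∀ b ∈ Q₁, ρU (u * b) = ρU (b * u)) → ∃ c : K, ρU u = c • 1 := by
    intro u hu hucomm
    by_contra hns
    let R : Subgroup G₁ := Q₁ ⊓ (centralizer ((Q₁.map ρu : Subgroup _) : Set (Module.End K U)ˣ)).comap ρu
    have hmR : ∀ b, b ∈ R ↔ b ∈ Q₁ ∧ ∀ c ∈ Q₁, ρU (b * c) = ρU (c * b) := fun b => by
      refine ⟨fun h => ⟨h.1, fun c hc => ?_⟩, fun h => ⟨h.1, mem_centralizer_iff.2 ?_⟩⟩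
      · have := mem_centralizer_iff.1 h.2 _ ⟨c, hc, rfl⟩
        rw [map_mul, map_mul]
        exact (congrArg Units.val this).symm
      · rintro _ ⟨c, hc, rfl⟩
        exact Units.ext (by rw [Units.val_mul, Units.val_mul, hρu, hρu, ← map_mul, ← map_mul, h.2 c hc])
    set A := R.map ρu
    haveI : Finite A := .of_surjective (fun r : R => (⟨ρu r, r, r.2, rfl⟩ : A))
      fun ⟨_, r, hr, e⟩ => ⟨⟨r, hr⟩, Subtype.ext e⟩
    have hAcomm : ∀ a b : A, a * b = b * a := by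
      rintro ⟨_, a, ha, rfl⟩ ⟨_, b, hb, rfl⟩
      exact Subtype.ext (mem_centralizer_iff.1 hb.2 _ ⟨a, ha.1, rfl⟩)
    have hAK : ((Nat.card A : ℕ) : K) ≠ 0 := by
      obtain ⟨m, hm⟩ := IsPGroup.iff_card.1 ((hQ₁p.to_le (inf_le_left : R ≤ Q₁)).map ρu)
      rw [hm, Nat.cast_pow]
      exact pow_ne_zero _ hqK
    have hXR : ∀ b ∈ R, X⁻¹ * b * X ∈ R := by
      intro b hb
      have hn := (inferInstance : Q₁.Normal)
      refine (hmR _).2 ⟨by simpa using hn.conj_mem b hb.1 X⁻¹, fun c hc => ?_⟩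
      have h1 := ((hmR b).1 hb).2 (X * c * X⁻¹) (hn.conj_mem c hc X)
      calc ρU (X⁻¹ * b * X * c) = ρU X⁻¹ * ρU (b * (X * c * X⁻¹)) * ρU X := by
            rw [← map_mul, ← map_mul]; congr 1; group
        _ = ρU X⁻¹ * ρU ((X * c * X⁻¹) * b) * ρU X := by rw [h1]
        _ = _ := by rw [← map_mul, ← map_mul]; congr 1; group
    have hσA : ∀ a : A, (ρu X)⁻¹ * (a : (Module.End K U)ˣ) * ρu X ∈ A := by
      rintro ⟨_, b, hb, rfl⟩
      exact ⟨X⁻¹ * b * X, hXR b hb, by rw [map_mul, map_mul, map_inv]⟩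
    let σA : A → A := fun a => ⟨(ρu X)⁻¹ * (a : (Module.End K U)ˣ) * ρu X, hσA a⟩
    have hσAi : ∀ (i : ℕ) (a : A), ((σA^[i] a : A) : (Module.End K U)ˣ) = (ρu X ^ i)⁻¹ * a * ρu X ^ i := by
      intro i
      induction i with
      | zero => intro a; simp
      | succ i ih =>
        intro a
        rw [Function.iterate_succ_apply', show ((σA (σA^[i] a) : A) : (Module.End K U)ˣ) =
          (ρu X)⁻¹ * ((σA^[i] a : A) : (Module.End K U)ˣ) * ρu X from rfl, ih, pow_succ]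
        group
    refine abelian_core (p := p) (n := k - a) hAcomm hAK ((Units.coeHom (Module.End K U)).comp A.subtype)
      (fun a b e => Subtype.ext (Units.ext e)) (ρU X) hp ?_ σA (fun a => ?_) ?_ ?_
    · rw [show k - a + 1 = n' by omega, ← map_pow, hXN, map_one]
    · show ρU X * (((ρu X)⁻¹ * (a : (Module.End K U)ˣ) * ρu X : (Module.End K U)ˣ) : Module.End K U) = _
      rw [← hρu X, ← Units.val_mul, ← mul_assoc, mul_inv_cancel_left]
      rfl
    · intro e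
      refine hns (hkey u hu ?_)
      have h1 := congrArg (fun a : A => (a : (Module.End K U)ˣ))
        (congrFun e ⟨ρu u, u, (hmR u).2 ⟨hu, hucomm⟩, rfl⟩)
      simp only [hσAi, id_eq, ← map_pow] at h1
      change (ρu Y)⁻¹ * ρu u * ρu Y = ρu u at h1
      rw [mul_assoc, inv_mul_eq_iff_eq_mul, ← map_mul, ← map_mul] at h1
      exact congrArg Units.val h1
    · rw [show k - a + 1 = n' by omega]; exact hfull
  -- the image of `Q`
  set Qb := Q₁.map ρu
  haveI : Finite Qb := .of_surjective (fun r : Q₁ => (⟨ρu r, r, r.2, rfl⟩ : Qb))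
      fun ⟨_, r, hr, e⟩ => ⟨⟨r, hr⟩, Subtype.ext e⟩
  let ρb : Qb →* Module.End K U := (Units.coeHom (Module.End K U)).comp Qb.subtype
  have hQbp : IsPGroup q Qb := hQ₁p.map ρu
  have hQbK : ((Nat.card Qb : ℕ) : K) ≠ 0 := by
    obtain ⟨m, hm⟩ := IsPGroup.iff_card.1 hQbp
    rw [hm, Nat.cast_pow]
    exact pow_ne_zero _ hqK
  have hcen : ∀ z ∈ center Qb, ∃ c : K, ρb z = c • 1 := by
    rintro ⟨_, u, hu, rfl⟩ hz
    refine hR u hu fun b hb => ?_
    have := congrArg (fun g : Qb => ρb g) (mem_center_iff.1 hz ⟨_, b, hb, rfl⟩)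
    simp only [map_mul] at this
    rw [map_mul, map_mul]
    exact this.symm
  have hpair : ∀ z : Qb, z ∉ center Qb → ∃ (w : Qb) (c : K), c ≠ 1 ∧ ρb z * ρb w = c • (ρb w * ρb z) := by
    intro z hz
    obtain ⟨_, u, hu, rfl⟩ := z
    rw [mem_center_iff] at hz
    push Not at hz
    obtain ⟨w, hw⟩ := hz
    obtain ⟨_, b, hb, rfl⟩ := w
    have hcZ : ((u * b * u⁻¹ * b⁻¹ : G₁) : H) ∈ Z := (hmemZ _).2
      ⟨(hmQ₁ _).1 (mul_mem (mul_mem (mul_mem hu hb) (inv_mem hu)) (inv_mem hb)),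
        fun c hc => hcl _ ((hmQ₁ u).1 hu) _ ((hmQ₁ b).1 hb) c hc⟩
    have hub : u * b = (u * b * u⁻¹ * b⁻¹) * (b * u) := by group
    have he : ρU u * ρU b = f ⟨_, hcZ⟩ • (ρU b * ρU u) := by
      calc ρU u * ρU b = ρU ((u * b * u⁻¹ * b⁻¹) * (b * u)) := by rw [← map_mul]; exact congrArg ρU hub
        _ = _ := by rw [map_mul, hscalZ _ hcZ, smul_mul_assoc, one_mul, map_mul]
    refine ⟨⟨_, b, hb, rfl⟩, f ⟨_, hcZ⟩, fun h1 => hw (Subtype.ext (Units.ext ?_)), he⟩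
    rw [h1, one_smul] at he
    exact he.symm
  have hσQ : ∀ z : Qb, ρu X * (z : (Module.End K U)ˣ) * (ρu X)⁻¹ ∈ Qb := by
    rintro ⟨_, b, hb, rfl⟩
    exact ⟨X * b * X⁻¹, (inferInstance : Q₁.Normal).conj_mem b hb X, by rw [map_mul, map_mul, map_inv]⟩
  haveI : Nontrivial U := ⟨⟨⟨v₀, (hU _).2 fun z => hf z⟩, 0, fun e => hv₀0 (congrArg Subtype.val e)⟩⟩
  obtain ⟨W, hW0, hWQ, hWX, hWmin, hWns⟩ := exists_invariant_irreducible (p := p) (n := n') ρb hQbK hcen hpair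
    (ρU X) (by rw [← map_pow, hXN, map_one]) (fun z => ⟨_, hσQ z⟩) fun z => by
      show ρU X * _ = ((ρu X * (z : (Module.End K U)ˣ) * (ρu X)⁻¹ : (Module.End K U)ˣ) : Module.End K U) * ρU X
      rw [← hρu X, ← Units.val_mul, inv_mul_cancel_right]
      rfl
  have hWQ' : ∀ u ∈ Q₁, ∀ w ∈ W, ρU u w ∈ W := fun u hu => hWQ ⟨ρu u, u, hu, rfl⟩
  have hWall : ∀ g : G₁, ∀ w ∈ W, ρU g w ∈ W := by
    intro g
    have hle : Q ⊔ zpowers x' ≤ (stabSub ρU W).map G₁.subtype :=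
      sup_le (fun u hu => ⟨⟨u, hmk u hu⟩, hWQ' _ hu, rfl⟩) (zpowers_le.2 ⟨X, hWX, rfl⟩)
    obtain ⟨g', hg', e⟩ := hle g.2
    exact (Subtype.ext e : g' = g) ▸ hg'
  let ρW := restrictRep ρU W hWall
  haveI : Nontrivial W := Submodule.nontrivial_iff_ne_bot.2 hW0
  have hscalW : ∀ u ∈ Q₁, (∃ c : K, ρW u = c • 1) → ∃ c : K, ρU u = c • 1 := by
    rintro u hu ⟨c, hc⟩
    by_contra hns
    refine hWns ⟨ρu u, u, hu, rfl⟩ (fun hcz => hns (hcen _ hcz)) ⟨c, fun w hw => ?_⟩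
    exact congrArg Subtype.val (LinearMap.congr_fun hc ⟨w, hw⟩)
  have hd : 2 ≤ finrank K W := by
    by_contra hh
    have h1 : finrank K W = 1 := by have := finrank_pos (R := K) (M := W); omega
    obtain ⟨u, hu, hne⟩ := hmvU
    refine hne ?_
    obtain ⟨c, hc, hspan⟩ := finrank_eq_one_iff'.1 h1
    obtain ⟨μ, hμ⟩ := hspan (ρW u c)
    obtain ⟨d, hd'⟩ := hscalW u hu ⟨μ, LinearMap.ext fun w => by
      obtain ⟨t, rfl⟩ := hspan w
      rw [map_smul, ← hμ, LinearMap.smul_apply, Module.End.one_apply, smul_comm]⟩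
    rw [map_mul, map_mul, hd', smul_mul_assoc, one_mul, mul_smul_comm, mul_one]
  have hfree : ∀ i, 0 < i → i < p ^ n' → ∀ u ∈ Q₁, X ^ i * u * (X ^ i)⁻¹ * u⁻¹ ∈ (adRep ρW).ker →
      u ∈ (adRep ρW).ker := by
    intro i hi0 hi u hu hker
    have hscal : ∀ g, g ∈ (adRep ρW).ker → ∃ c : K, ρW g = c • 1 := fun g hg => by
      obtain ⟨c, hc⟩ := Module.End.exists_eigenvalue (ρW g)
      refine ⟨c, LinearMap.ext fun w => ?_⟩
      obtain ⟨v, hv⟩ := hc.exists_hasEigenvector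
      obtain ⟨φ, hφ⟩ : ∃ φ : Module.End K W, φ v = w := by
        obtain ⟨l, hl⟩ := Module.Projective.exists_dual_ne_zero K hv.2
        exact ⟨((l v)⁻¹ • l).smulRight w, by simp [hl]⟩
      have h1 := LinearMap.congr_fun ((adRep_eq_iff ρW g φ).1 (LinearMap.congr_fun hg φ)) v
      rw [Module.End.mul_apply, Module.End.mul_apply, hφ, hv.apply_eq_smul, map_smul, hφ] at h1
      rw [h1, LinearMap.smul_apply, Module.End.one_apply]
    obtain ⟨c, hc⟩ := hscalW _ (mul_mem ((inferInstance : Q₁.Normal).conj_mem u hu _) (inv_mem hu)) (hscal _ hker)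
    have h1 : ρU (X ^ i * u * (X ^ i)⁻¹) = c • ρU u := by
      rw [show X ^ i * u * (X ^ i)⁻¹ = (X ^ i * u * (X ^ i)⁻¹ * u⁻¹) * u by group, map_mul, hc, smul_mul_assoc,
        one_mul]
    have h2 : ∀ l : ℕ, ρU ((X ^ i) ^ l * u * ((X ^ i) ^ l)⁻¹) = c ^ l • ρU u := by
      intro l
      induction l with
      | zero => simp
      | succ l ih =>
        rw [show (X ^ i) ^ (l + 1) * u * ((X ^ i) ^ (l + 1))⁻¹ =
          (X ^ i) * ((X ^ i) ^ l * u * ((X ^ i) ^ l)⁻¹) * (X ^ i)⁻¹ by rw [pow_succ']; group,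
          map_mul, map_mul, ih, mul_smul_comm, smul_mul_assoc, ← map_mul, ← map_mul, h1, smul_smul, pow_succ]
    obtain ⟨j, i', hi', hij⟩ := Nat.exists_eq_pow_mul_and_not_dvd hi0.ne' p hp.ne_one
    have hjn : j < n' := (Nat.pow_lt_pow_iff_right hp.one_lt).1 (lt_of_le_of_lt (by
      rw [hij]; exact Nat.le_mul_of_pos_right _ (Nat.pos_of_ne_zero fun h => hi' (h ▸ dvd_zero p))) hi)
    obtain ⟨l, -, hl⟩ := Nat.exists_mul_mod_eq_one_of_coprime ((hp.coprime_iff_not_dvd.2 hi').symm) hp.one_lt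
    have hXY : (X ^ i) ^ (p ^ (k - a - j) * l) = Y := by
      rw [← pow_mul, hij, show p ^ j * i' * (p ^ (k - a - j) * l) = p ^ (j + (k - a - j)) * (i' * l) by
        rw [pow_add]; ring, show j + (k - a - j) = k - a by omega, pow_mul, ← Nat.mod_add_div (i' * l) p, hl,
        pow_add, pow_one, pow_mul (X ^ p ^ (k - a)) p, show X ^ p ^ (k - a) = Y from rfl, hYp, one_pow, mul_one]
    have h3 := h2 (p ^ (k - a - j) * l)
    rw [hXY] at h3
    set d := c ^ (p ^ (k - a - j) * l)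
    have hYi : ∀ m : ℕ, ρU (Y ^ m * u * (Y ^ m)⁻¹) = d ^ m • ρU u := by
      intro m
      induction m with
      | zero => simp
      | succ m ih =>
        rw [show Y ^ (m + 1) * u * (Y ^ (m + 1))⁻¹ = Y * (Y ^ m * u * (Y ^ m)⁻¹) * Y⁻¹ by rw [pow_succ']; group,
          map_mul, map_mul, ih, mul_smul_comm, smul_mul_assoc, ← map_mul, ← map_mul, h3, smul_smul, pow_succ]
    have hu0 : ρU u ≠ 0 := fun h => by
      have h4 := map_mul ρU u u⁻¹
      rw [mul_inv_cancel, map_one, h, zero_mul] at h4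
      exact one_ne_zero h4
    have hd1 : d ^ p = 1 := by
      have h4 := hYi p
      rw [hYp, one_mul, inv_one, mul_one] at h4
      exact smul_left_injective K hu0 (h4.symm.trans (one_smul K _).symm)
    have hd2 : d = 1 := frobenius_inj K p (by simp [frobenius_def, hd1])
    rw [hd2, one_smul] at h3
    obtain ⟨e, he⟩ := hkey u hu (by
      rw [map_mul, map_mul]
      calc ρU u * ρU Y = ρU (Y * u * Y⁻¹) * ρU Y := by rw [h3]
        _ = ρU Y * ρU u := by rw [← map_mul, inv_mul_cancel_right, map_mul])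
    rw [MonoidHom.mem_ker]
    refine LinearMap.ext fun φ => ?_
    rw [Module.End.one_apply, adRep_eq_iff]
    have hWu : ρW u = e • 1 := LinearMap.ext fun w => Subtype.ext (LinearMap.congr_fun he (w : U))
    rw [hWu, smul_mul_assoc, one_mul, mul_smul_comm, mul_one]
  have hbound := fun s hs hsN => irreducible_bound (p := p) (n := n') hqK ρW Q₁ hQ₁p (fun S hS => by
    rcases hWmin (S.map W.subtype) (Submodule.map_subtype_le W S) (by
        rintro ⟨_, u, hu, rfl⟩ _ ⟨w, hw, rfl⟩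
        exact ⟨_, hS u hu w hw, rfl⟩) with h | h
    · exact Or.inl (Submodule.map_injective_of_injective W.injective_subtype (h.trans (Submodule.map_bot _).symm))
    · exact Or.inr (Submodule.map_injective_of_injective W.injective_subtype (h.trans (Submodule.map_subtype_top W).symm)))
    X hXN hn'0 hd hfree s hs hsN
  have hWpow : ∀ s, (ρU X - 1) ^ s = 0 → (ρW X - 1) ^ s = 0 := by
    intro s hs
    have h : ∀ (t : ℕ) (w : W), ((((ρW X - 1) ^ t) w : W) : U) = ((ρU X - 1) ^ t) (w : U) := by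
      intro t
      induction t with
      | zero => intro w; simp
      | succ t ih =>
        intro w
        rw [pow_succ', Module.End.mul_apply, pow_succ', Module.End.mul_apply, ← ih]
        rfl
    exact LinearMap.ext fun w => Subtype.ext (by rw [h, hs]; rfl)
  obtain ⟨b, hb1, hb⟩ := (hbound (N - 1) (hWpow _ hfull) (by omega)).2
  have hs2 : (ρU X - 1) ^ (N - 2) ≠ 0 := fun h0 => by
    have := (hbound (N - 2) (hWpow _ h0) (by omega)).1
    have : 1 < q ^ b := Nat.one_lt_pow (by omega) hq.one_lt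
    omega
  refine ⟨n', b, by omega, by omega, hb1, hb, ?_⟩
  have h1 := hlift _ hs2
  rw [show N - 2 + 1 = N - 1 by omega] at h1
  rwa [show k + 1 - n' = a by omega]

theorem abelian_bound {H : Type w} [Group H] [Finite H] {p k q : ℕ} [Fact p.Prime] [Fact q.Prime] [CharP K p]
    (hqp : q ≠ p) (ρ : H →* Module.End K V) (hρ : Function.Injective ρ) (x : H) (hx : x ^ p ^ (k + 1) = 1)
    (Q : Subgroup H) (hQ : IsPGroup q Q) (hQx : x ∈ normalizer (Q : Set H))
    (hmove : ∃ a ∈ Q, a * x ^ p ^ k ≠ x ^ p ^ k * a) (hc : ∀ a ∈ Q, ∀ b ∈ Q, a * b = b * a) :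
    (ρ x - 1) ^ (p ^ (k + 1) - 1) ≠ 0 := by
  have hmem : ∀ a : Q, x⁻¹ * (a : H) * x ∈ Q := fun a => (mem_normalizer_iff''.1 hQx a).1 a.2
  let σ : Q → Q := fun a => ⟨x⁻¹ * (a : H) * x, hmem a⟩
  have hσv : ∀ (i : ℕ) (a : Q), ((σ^[i] a : Q) : H) = (x ^ i)⁻¹ * a * x ^ i := by
    intro i
    induction i with
    | zero => intro a; simp
    | succ i ih =>
      intro a
      rw [Function.iterate_succ_apply', show ((σ (σ^[i] a) : Q) : H) = x⁻¹ * ((σ^[i] a : Q) : H) * x from rfl, ih,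
        pow_succ]
      group
  have hqK : (q : K) ≠ 0 := fun h =>
    hqp (((Nat.prime_dvd_prime_iff_eq (Fact.out : p.Prime) (Fact.out : q.Prime)).1
      ((CharP.cast_eq_zero_iff K p q).1 h)).symm)
  refine abelian_core (K := K) (p := p) (fun a b => Subtype.ext (hc a a.2 b b.2)) ?_ (ρ.comp Q.subtype)
    (hρ.comp Q.subtype_injective) (ρ x) Fact.out (n := k) (by rw [← map_pow, hx, map_one]) σ (fun a => ?_) ?_
  · obtain ⟨m, hm⟩ := IsPGroup.iff_card.1 hQ
    rw [hm, Nat.cast_pow]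
    exact pow_ne_zero _ hqK
  · show ρ x * ρ (x⁻¹ * (a : H) * x) = ρ a * ρ x
    rw [← map_mul, ← map_mul]
    congr 1
    group
  · intro e
    obtain ⟨a, ha, hne⟩ := hmove
    refine hne ?_
    have h1 := congrArg Subtype.val (congrFun e ⟨a, ha⟩)
    rw [hσv, id_eq] at h1
    calc a * x ^ p ^ k = x ^ p ^ k * ((x ^ p ^ k)⁻¹ * a * x ^ p ^ k) := by group
      _ = x ^ p ^ k * a := by rw [show (x ^ p ^ k)⁻¹ * a * x ^ p ^ k = a from h1]

/-- Theorem B over an algebraically closed field. -/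
theorem theorem_B {H : Type w} [Group H] [Finite H] {p : ℕ} [Fact p.Prime] [CharP K p] [Nontrivial V]
    (hsol : Cfsg.IsPSolvable p H) (hOp : Cfsg.pCore p H = ⊥) (ρ : H →* Module.End K V) (hρ : Function.Injective ρ)
    (x : H) (n : ℕ) (hn : orderOf x = p ^ n) (r : ℕ) (hr : (ρ x - 1) ^ r = 0) :
    p ^ n ≤ r ∨ ∃ n₀ q m : ℕ, 1 ≤ n₀ ∧ n₀ ≤ n ∧ q.Prime ∧ 1 ≤ m ∧ p ^ n₀ - 1 = q ^ m ∧
      (∀ Q : Sylow q H, ¬ IsMulCommutative Q) ∧ p ^ (n - n₀) * (p ^ n₀ - 1) ≤ r := by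
  rcases Nat.lt_or_ge r (p ^ n) with hlt | hge
  swap
  · exact Or.inl hge
  rcases Nat.eq_zero_or_pos n with rfl | hpos
  · rw [pow_zero, Nat.lt_one_iff] at hlt
    subst hlt
    exact absurd hr (by simp)
  obtain ⟨k, rfl⟩ : ∃ k, n = k + 1 := ⟨n - 1, by omega⟩
  have hp : p.Prime := Fact.out
  have hx : x ^ p ^ (k + 1) = 1 := hn ▸ pow_orderOf_eq_one x
  set y := x ^ p ^ k with hy
  have hy1 : y ≠ 1 := fun h => by
    have h1 := Nat.le_of_dvd (pow_pos hp.pos _) (hn ▸ orderOf_dvd_of_pow_eq_one h)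
    exact absurd h1 (not_le.2 (Nat.pow_lt_pow_right hp.one_lt (Nat.lt_succ_self k)))
  have hyp : y ^ p = 1 := by rw [hy, ← pow_mul, ← pow_succ, hx]
  have hyo : orderOf y = p := orderOf_eq_prime hyp hy1
  set R := Cfsg.pPrimeCore p H
  have hRcop := Cfsg.Lib.Components.coprime_card_pPrimeCore (G := H) p
  haveI : R.Normal := Cfsg.Lib.Components.pPrimeCore_normal' p
  have hyR : y ∉ R := by
    intro hh
    have h1 : orderOf (⟨y, hh⟩ : R) ∣ Nat.card R := orderOf_dvd_natCard _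
    rw [Subgroup.orderOf_mk, hyo] at h1
    exact hp.ne_one (Nat.eq_one_of_dvd_coprimes hRcop h1 dvd_rfl)
  have hxR : zpowers x ≤ normalizer (R : Set H) := by rw [normalizer_eq_top_iff.2 inferInstance]; exact le_top
  have hcopA : (Nat.card (zpowers x)).Coprime (Nat.card R) := by
    rw [Nat.card_zpowers, hn]
    exact hRcop.symm.pow_left _
  obtain ⟨q, hqf, T₀, hT₀R, hT₀p, hT₀x, hmove⟩ : ∃ (q : ℕ) (_ : Fact q.Prime) (T : Subgroup H), T ≤ R ∧ IsPGroup q T ∧
      x ∈ normalizer (T : Set H) ∧ ∃ a ∈ T, a * y ≠ y * a := by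
    by_contra hh
    push Not at hh
    set C := (centralizer ({y} : Set H)).subgroupOf R
    refine hyR (Cfsg.Agent.S4748.centralizer_pPrimeCore_le p hsol hOp (mem_centralizer_iff.2 fun r hr => ?_))
    suffices hC : C = ⊤ by
      have h1 : (⟨r, hr⟩ : R) ∈ C := hC ▸ mem_top _
      exact mem_centralizer_singleton_iff.1 h1
    rw [← index_eq_one, Nat.eq_one_iff_not_exists_prime_dvd]
    intro q hq hdvd
    haveI := Fact.mk hq
    obtain ⟨T, hT⟩ := Cfsg.Lib.Coprime.exists_invariant_sylow hxR hcopA (Or.inl inferInstance) q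
    refine T.not_dvd_index (hdvd.trans (index_dvd_of_le fun t ht => ?_))
    exact mem_centralizer_singleton_iff.2 (hh q ⟨hq⟩ _ (map_subtype_le _) (T.2.map _) (hT (mem_zpowers x)) _
      (mem_map_of_mem _ ht))
  have hq : q.Prime := Fact.out
  have hqp : q ≠ p := by
    rintro rfl
    obtain ⟨a, ha, hne⟩ := hmove
    obtain ⟨j, hj⟩ := IsPGroup.iff_card.1 hT₀p
    rcases Nat.eq_zero_or_pos j with rfl | hjpos
    · rw [pow_zero] at hj
      rw [eq_bot_of_card_eq T₀ hj, mem_bot] at ha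
      exact hne (by rw [ha, one_mul, mul_one])
    · exact hq.ne_one (Nat.eq_one_of_dvd_coprimes hRcop
        ((dvd_pow_self q hjpos.ne').trans (hj ▸ card_dvd_of_le hT₀R)) dvd_rfl)
  obtain ⟨Q, hQ, hQx, hQm, hcase⟩ := exists_critical_subgroup hqp x y
    (by rw [hy]; exact (Commute.self_pow x _).eq) hyp (pow_mem (mem_zpowers x) _) T₀ hT₀p hT₀x hmove
  rcases hcase with hc | ⟨hZ, hcl⟩
  · exact absurd (pow_eq_zero_of_le (by omega) hr) (abelian_bound hqp ρ hρ x hx Q hQ hQx hQm hc)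
  obtain ⟨n₀, m, h1, h2, h3, h4, h5⟩ := critical_bound hqp ρ hρ x hx Q hQ hQx hQm hZ hcl r hr hlt
  refine Or.inr ⟨n₀, q, m, h1, h2, hq, h3, h4, fun S hS => ?_, h5⟩
  obtain ⟨S', hS'⟩ := hQ.exists_le_sylow
  obtain ⟨a, ha, hne⟩ := hQm
  refine hne ((hZ a ha).2 fun b hb => ?_)
  have h := (S'.equiv S).injective (a₁ := (⟨a, hS' ha⟩ : (S' : Subgroup H)) * ⟨b, hS' hb⟩)
    (a₂ := (⟨b, hS' hb⟩ : (S' : Subgroup H)) * ⟨a, hS' ha⟩) (by rw [map_mul, map_mul]; exact hS.is_comm.comm _ _)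
  exact congrArg Subtype.val h

end Cfsg.Lib.HallHigman
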