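import Mathlib
import Cfsg.Agent.HallHigman.Invariant
import Cfsg.Agent.HallHigman.TheoremB
import Cfsg.Agent.HallHigman.CommuteSupport

/-!
The support of an exceptional element in the critical case of the Hall–Higman theorem.
-/

set_option linter.style.haveILetI false
set_option linter.unusedSectionVars false

namespace Cfsg.Lib.HallHigman

open Module Subgroup

universe u v w t

variable {K : Type u} [Field K] [IsAlgClosed K] {V : Type v} [AddCommGroup V] [Module K V] [FiniteDimensional K V]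
  [Nontrivial V] {G : Type w} [Group G] [Finite G]

theorem mem_ker_adRep_iff (ρ : G →* Module.End K V) (g : G) :
    g ∈ (adRep ρ).ker ↔ ∃ c : K, ρ g = c • 1 := by
  constructor
  · intro hg
    obtain ⟨c, hc⟩ := Module.End.exists_eigenvalue (ρ g)
    refine ⟨c, LinearMap.ext fun w => ?_⟩
    obtain ⟨v, hv⟩ := hc.exists_hasEigenvector
    obtain ⟨φ, hφ⟩ : ∃ φ : Module.End K V, φ v = w := by
      obtain ⟨l, hl⟩ := Module.Projective.exists_dual_ne_zero K hv.2
      exact ⟨((l v)⁻¹ • l).smulRight w, by simp [hl]⟩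
    have h1 := LinearMap.congr_fun ((adRep_eq_iff ρ g φ).1 (LinearMap.congr_fun hg φ)) v
    rw [Module.End.mul_apply, Module.End.mul_apply, hφ, hv.apply_eq_smul, map_smul, hφ] at h1
    rw [h1, LinearMap.smul_apply, Module.End.one_apply]
  · rintro ⟨c, hc⟩
    rw [MonoidHom.mem_ker]
    refine LinearMap.ext fun φ => ?_
    rw [Module.End.one_apply, adRep_eq_iff, hc, smul_mul_assoc, one_mul, mul_smul_comm, mul_one]

theorem commute_of_mem_ker {H : Type*} [Group H] {M : Type*} [Monoid M] (φ : H →* M) (g u : H)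
    (h : g * u * g⁻¹ * u⁻¹ ∈ φ.ker) : Commute (φ g) (φ u) := by
  show φ g * φ u = φ u * φ g
  rw [← map_mul, ← map_mul, show g * u = (g * u * g⁻¹ * u⁻¹) * (u * g) by group, map_mul, MonoidHom.mem_ker.1 h,
    one_mul]

theorem mem_ker_of_commute {H : Type*} [Group H] {M : Type*} [Monoid M] (φ : H →* M) (g u : H)
    (h : Commute (φ g) (φ u)) : g * u * g⁻¹ * u⁻¹ ∈ φ.ker := by
  rw [MonoidHom.mem_ker, show g * u * g⁻¹ * u⁻¹ = (g * u) * (u * g)⁻¹ by group, map_mul φ (g * u),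
    show φ (g * u) = φ (u * g) by rw [map_mul, map_mul, h.eq], ← map_mul, mul_inv_cancel, map_one]

/-- The order of the support. -/
theorem support_card {p n q : ℕ} [Fact p.Prime] [Fact q.Prime] [CharP K p] (hqp : q ≠ p) (ρ : G →* Module.End K V)
    (Q : Subgroup G) [Q.Normal] (hQ : IsPGroup q Q) (x : G) (htop : Q ⊔ zpowers x = ⊤) (hn : n ≠ 0)
    (hx : x ^ p ^ n = 1) (hcomm : ∀ u ∈ Q, ∀ b ∈ Q, ∃ c : K, ρ u * ρ b = c • (ρ b * ρ u))
    (hfix : ∀ u ∈ Q, x ^ p ^ (n - 1) * u * (x ^ p ^ (n - 1))⁻¹ * u⁻¹ ∈ (adRep ρ).ker → u ∈ (adRep ρ).ker)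
    (hne : ∃ u ∈ Q, u ∉ (adRep ρ).ker) (hdeg : (ρ x - 1) ^ (p ^ n - 1) = 0) :
    ∃ b, 1 ≤ b ∧ p ^ n - 1 = q ^ b ∧ Nat.card (Q.map (adRep ρ).toHomUnits) = q ^ (2 * b) := by
  classical
  have hp : p.Prime := Fact.out
  have hq : q.Prime := Fact.out
  set N := p ^ n with hN
  have hN1 : 1 < N := Nat.one_lt_pow hn hp.one_lt
  have hqK : (q : K) ≠ 0 := fun h => hqp (((Nat.prime_dvd_prime_iff_eq hp hq).1 ((CharP.cast_eq_zero_iff K p q).1 h)).symm)
  let ρu : G →* (Module.End K V)ˣ := ρ.toHomUnits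
  have hρu : ∀ g, ((ρu g : (Module.End K V)ˣ) : Module.End K V) = ρ g := fun g => rfl
  set Qb := Q.map ρu
  haveI : Finite Qb := .of_surjective (fun r : Q => (⟨ρu r, r, r.2, rfl⟩ : Qb))
      fun ⟨_, r, hr, e⟩ => ⟨⟨r, hr⟩, Subtype.ext e⟩
  let ρb : Qb →* Module.End K V := (Units.coeHom (Module.End K V)).comp Qb.subtype
  have hQbp : IsPGroup q Qb := hQ.map ρu
  have hQbK : ((Nat.card Qb : ℕ) : K) ≠ 0 := by
    obtain ⟨m, hm⟩ := IsPGroup.iff_card.1 hQbp
    rw [hm, Nat.cast_pow]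
    exact pow_ne_zero _ hqK
  have hQn : Q.Normal := inferInstance
  -- the radical is scalar
  have hR : ∀ u ∈ Q, (∀ b ∈ Q, ρ (u * b) = ρ (b * u)) → ∃ c : K, ρ u = c • 1 := by
    intro u hu hucomm
    by_contra hns
    let R : Subgroup G := Q ⊓ (centralizer ((Q.map ρu : Subgroup _) : Set (Module.End K V)ˣ)).comap ρu
    have hmR : ∀ b, b ∈ R ↔ b ∈ Q ∧ ∀ c ∈ Q, ρ (b * c) = ρ (c * b) := fun b => by
      refine ⟨fun h => ⟨h.1, fun c hc => ?_⟩, fun h => ⟨h.1, mem_centralizer_iff.2 ?_⟩⟩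
      · have := mem_centralizer_iff.1 h.2 _ ⟨c, hc, rfl⟩
        rw [map_mul, map_mul]
        exact (congrArg Units.val this).symm
      · rintro _ ⟨c, hc, rfl⟩
        exact Units.ext (by rw [Units.val_mul, Units.val_mul, hρu, hρu, ← map_mul, ← map_mul, h.2 c hc])
    set A := R.map ρu
    haveI : Finite A := .of_surjective (fun r : R => (⟨ρu r, r, r.2, rfl⟩ : A))
      fun ⟨_, r, hr, e⟩ => ⟨⟨r, hr⟩, Subtype.ext e⟩
    have hAcomm : ∀ a b : A, a * b = b * a := by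
      rintro ⟨_, a, ha, rfl⟩ ⟨_, b, hb, rfl⟩
      exact Subtype.ext (mem_centralizer_iff.1 hb.2 _ ⟨a, ha.1, rfl⟩)
    have hAK : ((Nat.card A : ℕ) : K) ≠ 0 := by
      obtain ⟨m, hm⟩ := IsPGroup.iff_card.1 ((hQ.to_le (inf_le_left : R ≤ Q)).map ρu)
      rw [hm, Nat.cast_pow]
      exact pow_ne_zero _ hqK
    have hxR : ∀ b ∈ R, x⁻¹ * b * x ∈ R := by
      intro b hb
      refine (hmR _).2 ⟨by simpa using hQn.conj_mem b hb.1 x⁻¹, fun c hc => ?_⟩
      have h1 := ((hmR b).1 hb).2 (x * c * x⁻¹) (hQn.conj_mem c hc x)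
      calc ρ (x⁻¹ * b * x * c) = ρ x⁻¹ * ρ (b * (x * c * x⁻¹)) * ρ x := by
            rw [← map_mul, ← map_mul]; congr 1; group
        _ = ρ x⁻¹ * ρ ((x * c * x⁻¹) * b) * ρ x := by rw [h1]
        _ = _ := by rw [← map_mul, ← map_mul]; congr 1; group
    have hσA : ∀ a : A, (ρu x)⁻¹ * (a : (Module.End K V)ˣ) * ρu x ∈ A := by
      rintro ⟨_, b, hb, rfl⟩
      exact ⟨x⁻¹ * b * x, hxR b hb, by rw [map_mul, map_mul, map_inv]⟩
    let σA : A → A := fun a => ⟨(ρu x)⁻¹ * (a : (Module.End K V)ˣ) * ρu x, hσA a⟩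
    have hσAi : ∀ (i : ℕ) (a : A), ((σA^[i] a : A) : (Module.End K V)ˣ) = (ρu x ^ i)⁻¹ * a * ρu x ^ i := by
      intro i
      induction i with
      | zero => intro a; simp
      | succ i ih =>
        intro a
        rw [Function.iterate_succ_apply', show ((σA (σA^[i] a) : A) : (Module.End K V)ˣ) =
          (ρu x)⁻¹ * ((σA^[i] a : A) : (Module.End K V)ˣ) * ρu x from rfl, ih, pow_succ]
        group
    refine abelian_core (p := p) (n := n - 1) hAcomm hAK ((Units.coeHom (Module.End K V)).comp A.subtype)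
      (fun a b e => Subtype.ext (Units.ext e)) (ρ x) hp ?_ σA (fun a => ?_) ?_ ?_
    · rw [show n - 1 + 1 = n by omega, ← map_pow, hx, map_one]
    · show ρ x * (((ρu x)⁻¹ * (a : (Module.End K V)ˣ) * ρu x : (Module.End K V)ˣ) : Module.End K V) = _
      rw [← hρu x, ← Units.val_mul, ← mul_assoc, mul_inv_cancel_left]
      rfl
    · intro e
      refine hns ((mem_ker_adRep_iff ρ u).1 (hfix u hu (mem_ker_of_commute _ _ _ ?_)))
      have h1 := congrArg (fun a : A => (a : (Module.End K V)ˣ))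
        (congrFun e ⟨ρu u, u, (hmR u).2 ⟨hu, hucomm⟩, rfl⟩)
      simp only [hσAi, id_eq] at h1
      rw [mul_assoc, inv_mul_eq_iff_eq_mul, ← map_pow, ← map_mul, ← map_mul] at h1
      have h2 : ρ (u * x ^ p ^ (n - 1)) = ρ (x ^ p ^ (n - 1) * u) := congrArg Units.val h1
      show adRep ρ _ * adRep ρ _ = adRep ρ _ * adRep ρ _
      rw [← map_mul, ← map_mul]
      refine LinearMap.ext fun f => ?_
      rw [adRep_apply, adRep_apply, h2]
      congr 2
      have h3 : ρu ((x ^ p ^ (n - 1) * u)⁻¹) = ρu ((u * x ^ p ^ (n - 1))⁻¹) := by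
        rw [map_inv, map_inv]; congr 1; exact Units.ext h2.symm
      exact congrArg Units.val h3
    · rw [show n - 1 + 1 = n by omega]; exact hdeg
  have hcen : ∀ z ∈ center Qb, ∃ c : K, ρb z = c • 1 := by
    rintro ⟨_, u, hu, rfl⟩ hz
    refine hR u hu fun b hb => ?_
    have := congrArg (fun g : Qb => ρb g) (mem_center_iff.1 hz ⟨_, b, hb, rfl⟩)
    simp only [map_mul] at this
    rw [map_mul, map_mul]
    exact this.symm
  have hpair : ∀ z : Qb, z ∉ center Qb → ∃ (w : Qb) (c : K), c ≠ 1 ∧ ρb z * ρb w = c • (ρb w * ρb z) := by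
    intro z hz
    obtain ⟨_, u, hu, rfl⟩ := z
    rw [mem_center_iff] at hz
    push Not at hz
    obtain ⟨w, hw⟩ := hz
    obtain ⟨_, b, hb, rfl⟩ := w
    obtain ⟨c, hc⟩ := hcomm u hu b hb
    refine ⟨⟨_, b, hb, rfl⟩, c, fun h1 => hw (Subtype.ext (Units.ext ?_)), hc⟩
    rw [h1, one_smul] at hc
    exact hc.symm
  have hσQ : ∀ z : Qb, ρu x * (z : (Module.End K V)ˣ) * (ρu x)⁻¹ ∈ Qb := by
    rintro ⟨_, b, hb, rfl⟩
    exact ⟨x * b * x⁻¹, hQn.conj_mem b hb x, by rw [map_mul, map_mul, map_inv]⟩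
  obtain ⟨W, hW0, hWQ, hWx, hWmin, hWns⟩ := exists_invariant_irreducible (p := p) (n := n) ρb hQbK hcen hpair
    (ρ x) (by rw [← map_pow, hx, map_one]) (fun z => ⟨_, hσQ z⟩) fun z => by
      show ρ x * _ = ((ρu x * (z : (Module.End K V)ˣ) * (ρu x)⁻¹ : (Module.End K V)ˣ) : Module.End K V) * ρ x
      rw [← hρu x, ← Units.val_mul, inv_mul_cancel_right]
      rfl
  have hWall : ∀ g : G, ∀ w ∈ W, ρ g w ∈ W := by
    intro g
    have hle : Q ⊔ zpowers x ≤ stabSub ρ W :=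
      sup_le (fun u hu => hWQ ⟨ρu u, u, hu, rfl⟩) (zpowers_le.2 hWx)
    exact hle (htop ▸ mem_top g)
  let ρW := restrictRep ρ W hWall
  haveI : Nontrivial W := Submodule.nontrivial_iff_ne_bot.2 hW0
  have hscalW : ∀ u ∈ Q, (∃ c : K, ρW u = c • 1) → u ∈ (adRep ρ).ker := by
    rintro u hu ⟨c, hc⟩
    refine (mem_ker_adRep_iff ρ u).2 ?_
    by_contra hns
    refine hWns ⟨ρu u, u, hu, rfl⟩ (fun hcz => hns (hcen _ hcz)) ⟨c, fun w hw => ?_⟩
    exact congrArg Subtype.val (LinearMap.congr_fun hc ⟨w, hw⟩)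
  have hd : 2 ≤ finrank K W := by
    by_contra hh
    have h1 : finrank K W = 1 := by have := finrank_pos (R := K) (M := W); omega
    obtain ⟨u, hu, hne'⟩ := hne
    refine hne' (hscalW u hu ?_)
    obtain ⟨c, hc, hspan⟩ := finrank_eq_one_iff'.1 h1
    obtain ⟨μ, hμ⟩ := hspan (ρW u c)
    exact ⟨μ, LinearMap.ext fun w => by
      obtain ⟨t, rfl⟩ := hspan w
      rw [map_smul, ← hμ, LinearMap.smul_apply, Module.End.one_apply, smul_comm]⟩
  have hfree : ∀ i, 0 < i → i < N → ∀ u ∈ Q, x ^ i * u * (x ^ i)⁻¹ * u⁻¹ ∈ (adRep ρW).ker →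
      u ∈ (adRep ρW).ker := by
    intro i hi0 hi u hu hker
    have hQW : u ∈ (adRep ρ).ker → u ∈ (adRep ρW).ker := fun h => by
      obtain ⟨c, hc⟩ := (mem_ker_adRep_iff ρ u).1 h
      exact (mem_ker_adRep_iff ρW u).2 ⟨c, LinearMap.ext fun w => Subtype.ext (LinearMap.congr_fun hc (w : V))⟩
    have hker' : x ^ i * u * (x ^ i)⁻¹ * u⁻¹ ∈ (adRep ρ).ker :=
      hscalW _ (mul_mem (hQn.conj_mem u hu _) (inv_mem hu)) ((mem_ker_adRep_iff ρW _).1 hker)
    obtain ⟨j, i', hi', hij⟩ := Nat.exists_eq_pow_mul_and_not_dvd hi0.ne' p hp.ne_one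
    have hjn : j < n := (Nat.pow_lt_pow_iff_right hp.one_lt).1 (lt_of_le_of_lt (by
      rw [hij]; exact Nat.le_mul_of_pos_right _ (Nat.pos_of_ne_zero fun h => hi' (h ▸ dvd_zero p))) hi)
    obtain ⟨l, -, hl⟩ := Nat.exists_mul_mod_eq_one_of_coprime ((hp.coprime_iff_not_dvd.2 hi').symm) hp.one_lt
    have hxy : (x ^ i) ^ (p ^ (n - 1 - j) * l) = x ^ p ^ (n - 1) := by
      rw [← pow_mul, hij, show p ^ j * i' * (p ^ (n - 1 - j) * l) = p ^ (j + (n - 1 - j)) * (i' * l) by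
        rw [pow_add]; ring, show j + (n - 1 - j) = n - 1 by omega, pow_mul, ← Nat.mod_add_div (i' * l) p, hl,
        pow_add, pow_one, pow_mul (x ^ p ^ (n - 1)) p, ← pow_mul x, ← pow_succ, show n - 1 + 1 = n by omega,
        hx, one_pow, mul_one]
    refine hQW (hfix u hu (mem_ker_of_commute _ _ _ ?_))
    rw [← hxy, map_pow]
    exact (commute_of_mem_ker _ _ _ hker').pow_left _
  have hirr : ∀ S : Submodule K W, (∀ g ∈ Q, ∀ w ∈ S, ρW g w ∈ S) → S = ⊥ ∨ S = ⊤ := fun S hS => by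
    rcases hWmin (S.map W.subtype) (Submodule.map_subtype_le W S) (by
        rintro ⟨_, u, hu, rfl⟩ _ ⟨w, hw, rfl⟩
        exact ⟨_, hS u hu w hw, rfl⟩) with h | h
    · exact Or.inl (Submodule.map_injective_of_injective W.injective_subtype (h.trans (Submodule.map_bot _).symm))
    · exact Or.inr (Submodule.map_injective_of_injective W.injective_subtype (h.trans (Submodule.map_subtype_top W).symm))
  obtain ⟨m, hm⟩ := IsPGroup.iff_card.1 hQ
  have hQK : ((Nat.card Q : ℕ) : K) ≠ 0 := by rw [hm, Nat.cast_pow]; exact pow_ne_zero _ hqK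
  have hcount := centralizer_count (p := p) (n := n) ρW Q hQK hirr x hx hn hfree
  have hpowW : ∀ (k : ℕ) (w : W), ((((ρW x - 1) ^ k) w : W) : V) = ((ρ x - 1) ^ k) (w : V) := by
    intro k
    induction k with
    | zero => intro w; simp
    | succ k ih =>
      intro w
      rw [pow_succ', Module.End.mul_apply, pow_succ', Module.End.mul_apply, ← ih]
      rfl
  have hdegW : (ρW x - 1) ^ (N - 1) = 0 := LinearMap.ext fun w => Subtype.ext (by rw [hpowW, hdeg]; rfl)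
  have hTd : (ρW x - 1) ^ finrank K W = 0 := by
    have h1 := LinearMap.aeval_self_charpoly (ρW x - 1)
    rw [IsNilpotent.charpoly_eq_X_pow_finrank ⟨_, hdegW⟩, map_pow, Polynomial.aeval_X] at h1
    exact h1
  have hs : (ρW x - 1) ^ min (N - 1) (finrank K W) = 0 := by
    rcases min_choice (N - 1) (finrank K W) with h | h <;> rw [h] <;> assumption
  have hsq := sq_le_mul_finrank_centralizer _ W (ρW x - 1) _ le_rfl hs
  obtain ⟨h1, h2⟩ := lower_bound_arith hN1 hcount hsq (by omega) (min_le_right _ _) hd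
  have hle : min (N - 1) (finrank K W) ≤ N - 1 := min_le_left _ _
  have h3 : finrank K W = N - 1 := h2 (by omega)
  obtain ⟨b, hb⟩ := degree_prime_pow hqK _ Q W (ρW.comp Q.subtype) le_rfl hQ fun S h => hirr S fun g hg => h ⟨g, hg⟩
  refine ⟨b, ?_, h3.symm.trans hb, ?_⟩
  · rcases Nat.eq_zero_or_pos b with h | h
    · rw [h, pow_zero] at hb; omega
    · exact h
  -- the transversal basis counts the support
  let ρbW : Qb →* Module.End K W :=
    { toFun := fun z => (ρb z).restrict (hWQ z)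
      map_one' := LinearMap.ext fun x => Subtype.ext (by simp)
      map_mul' := fun a c => LinearMap.ext fun x => Subtype.ext (by simp) }
  have hirrb : ∀ S : Submodule K W, (∀ z : Qb, ∀ w ∈ S, ρbW z w ∈ S) → S = ⊥ ∨ S = ⊤ := fun S hS =>
    hirr S fun g hg w hw => hS ⟨ρu g, g, hg, rfl⟩ w hw
  have hpairb : ∀ z : Qb, z ∉ center Qb → ∃ (w : Qb) (c : K), c ≠ 1 ∧ ρbW z * ρbW w = c • (ρbW w * ρbW z) := by
    intro z hz
    obtain ⟨w, c, hc, he⟩ := hpair z hz
    exact ⟨w, c, hc, LinearMap.ext fun x => Subtype.ext (LinearMap.congr_fun he (x : V))⟩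
  obtain ⟨B, -⟩ := Cfsg.Lib.OddP.transversal_basis ρbW hirrb hQbK hpairb
  haveI := Fintype.ofFinite (Qb ⧸ center Qb)
  have h4 := Module.finrank_eq_card_basis B
  rw [Module.finrank_linearMap, hb, ← Nat.card_eq_fintype_card, ← pow_add, ← two_mul] at h4
  rw [h4]
  let f : Q →* Qb := ρu.subgroupMap Q
  have hf : Function.Surjective f := ρu.subgroupMap_surjective Q
  have hker : (center Qb).comap f = ((adRep ρ).toHomUnits.comp Q.subtype).ker := by
    ext u
    have h5 : u ∈ ((adRep ρ).toHomUnits.comp Q.subtype).ker ↔ (u : G) ∈ (adRep ρ).ker := by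
      rw [MonoidHom.mem_ker, MonoidHom.mem_ker, Units.ext_iff]; rfl
    rw [h5, mem_ker_adRep_iff, mem_comap]
    refine ⟨fun hu => hcen (f u) hu, fun ⟨c, hc⟩ => mem_center_iff.2 ?_⟩
    rintro ⟨_, b, hb', rfl⟩
    refine Subtype.ext (Units.ext ?_)
    show ρ b * ρ (u : G) = ρ (u : G) * ρ b
    rw [hc, smul_mul_assoc, one_mul, mul_smul_comm, mul_one]
  have hmap : Q.map (adRep ρ).toHomUnits = ((adRep ρ).toHomUnits.comp Q.subtype).range := by
    rw [MonoidHom.range_comp, Subgroup.range_subtype]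
  rw [hmap, ← Subgroup.index_ker, ← hker, Subgroup.index_comap_of_surjective _ hf]
  rfl

theorem not_dvd_two_pow_sub_one {b i : ℕ} (hi : 1 ≤ i) (hib : i < 2 * b) : ¬ 2 ^ b + 1 ∣ 2 ^ i - 1 := by
  intro hd
  have h2 : 2 ≤ 2 ^ i := Nat.le_self_pow (by omega) 2
  rcases le_or_gt i b with h | h
  · have := Nat.le_of_dvd (by omega) hd
    have := Nat.pow_le_pow_right (show 0 < 2 by norm_num) h
    omega
  obtain ⟨l, rfl⟩ : ∃ l, i = b + l := ⟨i - b, by omega⟩
  have h3 : 2 ^ b + 1 ∣ 2 ^ l + 1 := by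
    have h4 : (2 ^ (b + l) - 1) + (2 ^ l + 1) = 2 ^ l * (2 ^ b + 1) := by
      have h6 : 2 ^ (b + l) = 2 ^ l * 2 ^ b := by rw [pow_add, mul_comm]
      rw [Nat.mul_add, mul_one]; omega
    exact (Nat.dvd_add_right hd).1 (h4.symm ▸ dvd_mul_left _ _)
  have := Nat.le_of_dvd (Nat.succ_pos _) h3
  have := Nat.pow_lt_pow_right (show 1 < 2 by norm_num) (show l < b by omega)
  omega

theorem support_no_fixed {p : ℕ} [Fact p.Prime] (hp2 : p ≠ 2) {W : Type t} [AddCommGroup W] [Module (ZMod 2) W]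
    (Ty : Module.End (ZMod 2) W) (hTyp : Ty ^ p = 1) : ∀ w ∈ LinearMap.range (Ty - 1), Ty w = w → w = 0 := by
  have hp : p.Prime := Fact.out
  rintro _ ⟨v, rfl⟩ h
  set w := (Ty - 1) v with hwdef
  have h1 : ∀ i : ℕ, (Ty ^ i) v = v + i • w := by
    intro i
    induction i with
    | zero => simp
    | succ i ih =>
      rw [pow_succ', Module.End.mul_apply, ih, map_add, map_nsmul, h, succ_nsmul]
      rw [show Ty v = v + w by rw [hwdef, LinearMap.sub_apply, Module.End.one_apply]; abel]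
      abel
  have h2 := h1 p
  rw [hTyp, Module.End.one_apply] at h2
  have h3 : (p : ℕ) • w = 0 := left_eq_add.1 h2
  rw [← Nat.cast_smul_eq_nsmul (ZMod 2)] at h3
  obtain ⟨i, hi⟩ := hp.odd_of_ne_two hp2
  have h4 : ((p : ℕ) : ZMod 2) = 1 := by
    rw [hi, Nat.cast_add, Nat.cast_mul, show ((2 : ℕ) : ZMod 2) = 0 from rfl, zero_mul, zero_add, Nat.cast_one]
  rwa [h4, one_smul] at h3

/-- The support of an exceptional element is irreducible. -/
theorem support_irreducible {p n : ℕ} [Fact p.Prime] [CharP K p] (hp2 : p ≠ 2) (ρ : G →* Module.End K V)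
    (Q : Subgroup G) [Q.Normal] (hQ : IsPGroup 2 Q)
    (hcomm : ∀ u ∈ Q, ∀ b ∈ Q, ∃ c : K, ρ u * ρ b = c • (ρ b * ρ u))
    {W : Type t} [AddCommGroup W] [Module (ZMod 2) W] [Finite W] (π : Q →* Multiplicative W)
    (hπ : Function.Surjective π) (hπker : ∀ u : Q, π u = 1 ↔ (u : G) ∈ (adRep ρ).ker)
    (x : G) (T : Module.End (ZMod 2) W) (hT : ∀ u : Q, T (π u).toAdd = (π (MulAut.conjNormal x u)).toAdd)
    (hn : n ≠ 0) (hx : x ^ p ^ n = 1) (hdeg : (ρ x - 1) ^ (p ^ n - 1) = 0) (hTN : T ^ p ^ n = 1)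
    (hTW : ∀ w ∈ LinearMap.range (T ^ p ^ (n - 1) - 1), T w ∈ LinearMap.range (T ^ p ^ (n - 1) - 1)) :
    ∀ S : Submodule (ZMod 2) ↥(LinearMap.range (T ^ p ^ (n - 1) - 1)), (∀ v ∈ S, T.restrict hTW v ∈ S) →
      S = ⊥ ∨ S = ⊤ := by
  classical
  have hp : p.Prime := Fact.out
  set y := x ^ p ^ (n - 1) with hy
  set Ty := T ^ p ^ (n - 1) with hTy
  have hTyp : Ty ^ p = 1 := by rw [hTy, ← pow_mul, ← pow_succ, show n - 1 + 1 = n by omega, hTN]
  set W₁ := LinearMap.range (Ty - 1) with hW₁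
  have hTi : ∀ (i : ℕ) (u : Q), (T ^ i) (π u).toAdd = (π (MulAut.conjNormal (x ^ i) u)).toAdd := by
    intro i
    induction i with
    | zero => intro u; simp
    | succ i ih => intro u; rw [pow_succ', Module.End.mul_apply, ih, hT, pow_succ', map_mul, MulAut.mul_apply]
  by_cases hbot : W₁ = ⊥
  · intro S _
    refine Or.inl ((Submodule.eq_bot_iff _).2 fun v _ => Subtype.ext ((Submodule.eq_bot_iff _).1 hbot _ v.2))
  have hcT : ∀ f : Module.End (ZMod 2) W, Commute f T → ∀ w ∈ W₁, f w ∈ W₁ := by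
    rintro f hf _ ⟨w, rfl⟩
    refine ⟨f w, ?_⟩
    have h1 : Commute f (Ty - 1) := (hf.pow_right _).sub_right (Commute.one_right f)
    exact (LinearMap.congr_fun h1.eq w).symm
  have hnofix := support_no_fixed hp2 Ty hTyp
  -- the preimage of the support
  let Q₂ : Subgroup G :=
    { carrier := {g | ∃ hg : g ∈ Q, (π ⟨g, hg⟩).toAdd ∈ W₁}
      one_mem' := ⟨Q.one_mem, by rw [show (⟨1, Q.one_mem⟩ : Q) = 1 from rfl, map_one, toAdd_one]; exact W₁.zero_mem⟩
      mul_mem' := fun {a c} ⟨ha, ha'⟩ ⟨hc, hc'⟩ => ⟨Q.mul_mem ha hc, by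
        rw [show (⟨a * c, Q.mul_mem ha hc⟩ : Q) = ⟨a, ha⟩ * ⟨c, hc⟩ from rfl, map_mul, toAdd_mul]
        exact W₁.add_mem ha' hc'⟩
      inv_mem' := fun {a} ⟨ha, ha'⟩ => ⟨Q.inv_mem ha, by
        rw [show (⟨a⁻¹, Q.inv_mem ha⟩ : Q) = ⟨a, ha⟩⁻¹ from rfl, map_inv, toAdd_inv]
        exact W₁.neg_mem ha'⟩ }
  have hQ₂ : Q₂ ≤ Q := fun g hg => hg.1
  have hxQ₂ : x ∈ normalizer (Q₂ : Set G) := mem_normalizer_of_conj_le fun g hg => by
    refine ⟨(inferInstance : Q.Normal).conj_mem g hg.1 x, ?_⟩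
    have h1 := hTW _ hg.2
    rw [hT] at h1
    exact h1
  set G₂ := Q₂ ⊔ zpowers x with hG₂
  set Q₂' := Q₂.subgroupOf G₂
  haveI : Q₂'.Normal := normal_subgroupOf_of_le_normalizer (sup_le le_normalizer (zpowers_le.2 hxQ₂))
  have hmQ₂ : ∀ u : G₂, u ∈ Q₂' ↔ (u : G) ∈ Q₂ := fun u => mem_subgroupOf
  let X : G₂ := ⟨x, (le_sup_right : zpowers x ≤ G₂) (mem_zpowers x)⟩
  let ρ₂ : G₂ →* Module.End K V := ρ.comp G₂.subtype
  have hkmem : ∀ u : G₂, u ∈ (adRep ρ₂).ker ↔ (u : G) ∈ (adRep ρ).ker := fun u => by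
    rw [mem_ker_adRep_iff, mem_ker_adRep_iff]; rfl
  obtain ⟨b, hb1, hb, hcard⟩ := support_card (p := p) (n := n) (q := 2) (Ne.symm hp2) ρ₂ Q₂'
    ((hQ.to_le hQ₂).comap_of_injective _ G₂.subtype_injective) X (by
      refine eq_top_iff.2 fun g _ => ?_
      have hle : G₂ ≤ (Q₂' ⊔ zpowers X).map G₂.subtype := sup_le
        (fun u hu => ⟨⟨u, (le_sup_left : Q₂ ≤ G₂) hu⟩, mem_sup_left (mem_subgroupOf.2 hu), rfl⟩)
        (zpowers_le.2 ⟨X, mem_sup_right (mem_zpowers X), rfl⟩)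
      obtain ⟨g', hg', e⟩ := hle g.2
      exact (Subtype.ext e : g' = g) ▸ hg')
    hn (Subtype.ext (by simpa [X] using hx))
    (fun u hu c hc => hcomm _ (hQ₂ ((hmQ₂ u).1 hu)) _ (hQ₂ ((hmQ₂ c).1 hc)))
    (fun u hu hk => by
      rw [hkmem] at hk ⊢
      obtain ⟨huQ, huW⟩ := (hmQ₂ u).1 hu
      rw [← hπker ⟨_, huQ⟩]
      apply Multiplicative.toAdd.injective
      rw [toAdd_one]
      refine hnofix _ huW ?_
      rw [hTy, hTi]
      congr 1
      refine mul_inv_eq_one.1 ?_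
      rw [← map_inv, ← map_mul, hπker, Subgroup.coe_mul, Subgroup.coe_inv, MulAut.conjNormal_apply]
      simpa [X] using hk)
    (by
      obtain ⟨w, hw, hw0⟩ := Submodule.exists_mem_ne_zero_of_ne_bot hbot
      obtain ⟨u, hu⟩ := hπ (Multiplicative.ofAdd w)
      have huQ₂ : (u : G) ∈ Q₂ := ⟨u.2, by rw [show (⟨(u : G), u.2⟩ : Q) = u from rfl, hu]; exact hw⟩
      refine ⟨⟨u, (le_sup_left : Q₂ ≤ G₂) huQ₂⟩, mem_subgroupOf.2 huQ₂, fun hk => hw0 ?_⟩
      rw [hkmem] at hk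
      rw [(hπker u).2 hk] at hu
      simpa using congrArg Multiplicative.toAdd hu.symm)
    (by simpa [ρ₂, X] using hdeg)
  -- the support has `2 ^ (2 b)` elements
  let f : Q₂' →* Multiplicative W₁ :=
    { toFun := fun u => Multiplicative.ofAdd (⟨(π ⟨_, hQ₂ ((hmQ₂ u).1 u.2)⟩).toAdd, ((hmQ₂ u).1 u.2).2⟩ : W₁)
      map_one' := by
        apply Multiplicative.toAdd.injective
        refine Subtype.ext ?_
        show (π _).toAdd = 0
        rw [show (⟨_, hQ₂ ((hmQ₂ (1 : Q₂')).1 (1 : Q₂').2)⟩ : Q) = 1 from rfl, map_one, toAdd_one]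
      map_mul' := fun u c => by
        apply Multiplicative.toAdd.injective
        refine Subtype.ext ?_
        show (π _).toAdd = (π _).toAdd + (π _).toAdd
        rw [← toAdd_mul, ← map_mul]
        rfl }
  have hf : Function.Surjective f := fun w => by
    obtain ⟨u, hu⟩ := hπ (Multiplicative.ofAdd ((w.toAdd : W₁) : W))
    have huQ₂ : (u : G) ∈ Q₂ := ⟨u.2, by rw [show (⟨(u : G), u.2⟩ : Q) = u from rfl, hu]; exact w.toAdd.2⟩
    refine ⟨⟨⟨u, (le_sup_left : Q₂ ≤ G₂) huQ₂⟩, mem_subgroupOf.2 huQ₂⟩, ?_⟩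
    apply Multiplicative.toAdd.injective
    refine Subtype.ext ?_
    show (π ⟨(u : G), _⟩).toAdd = _
    rw [show (⟨(u : G), hQ₂ huQ₂⟩ : Q) = u from rfl, hu]
    rfl
  have hfk : f.ker = ((adRep ρ₂).toHomUnits.comp Q₂'.subtype).ker := by
    ext u
    rw [MonoidHom.mem_ker, MonoidHom.mem_ker, Units.ext_iff]
    show f u = 1 ↔ adRep ρ₂ (u : G₂) = 1
    rw [← MonoidHom.mem_ker (f := adRep ρ₂), hkmem, ← hπker ⟨_, hQ₂ ((hmQ₂ u).1 u.2)⟩]
    refine ⟨fun h => Multiplicative.toAdd.injective ?_, fun h => Multiplicative.toAdd.injective (Subtype.ext ?_)⟩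
    · simpa [f] using congrArg (fun w : Multiplicative W₁ => (w.toAdd : W)) h
    · show (π _).toAdd = 0
      rw [h, toAdd_one]
  have hcardW : Nat.card W₁ = 2 ^ (2 * b) := by
    rw [← hcard, show Q₂'.map (adRep ρ₂).toHomUnits = ((adRep ρ₂).toHomUnits.comp Q₂'.subtype).range by
      rw [MonoidHom.range_comp, Subgroup.range_subtype], ← Subgroup.index_ker, ← hfk, Subgroup.index_ker,
      MonoidHom.range_eq_top.2 hf, Subgroup.card_top]
    exact (Nat.card_congr Multiplicative.toAdd).symm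
  have hNb : p ^ n = 2 ^ b + 1 := by have := Nat.one_le_pow n p hp.pos; omega
  -- restriction to invariant pieces
  let T₁ : Module.End (ZMod 2) W₁ := T.restrict hTW
  have hT₁ : ∀ (i : ℕ) (w : W₁), (((T₁ ^ i) w : W₁) : W) = (T ^ i) (w : W) := by
    intro i
    induction i with
    | zero => intro w; simp
    | succ i ih => intro w; rw [pow_succ', Module.End.mul_apply, pow_succ', Module.End.mul_apply, ← ih]; rfl
  haveI : Nontrivial W₁ := Submodule.nontrivial_iff_ne_bot.2 hbot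
  show ∀ S : Submodule (ZMod 2) W₁, (∀ v ∈ S, T₁ v ∈ S) → S = ⊥ ∨ S = ⊤
  intro S hS
  refine or_iff_not_imp_left.2 fun hSne => ?_
  obtain ⟨S₀, ⟨hS₀ne, hS₀S, hS₀T⟩, hS₀min⟩ := WellFounded.has_min (wellFounded_lt (α := Submodule (ZMod 2) W₁))
    {S' | S' ≠ ⊥ ∧ S' ≤ S ∧ ∀ v ∈ S', T₁ v ∈ S'} ⟨S, hSne, le_rfl, hS⟩
  haveI : Nontrivial S₀ := Submodule.nontrivial_iff_ne_bot.2 hS₀ne
  let T₀ : Module.End (ZMod 2) S₀ := T₁.restrict hS₀T
  have hT₀ : ∀ (i : ℕ) (w : S₀), (((T₀ ^ i) w : S₀) : W₁) = (T₁ ^ i) (w : W₁) := by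
    intro i
    induction i with
    | zero => intro w; simp
    | succ i ih => intro w; rw [pow_succ', Module.End.mul_apply, pow_succ', Module.End.mul_apply, ← ih]; rfl
  have hord : orderOf T₀ = p ^ n := by
    obtain ⟨k, rfl⟩ : ∃ k, n = k + 1 := ⟨n - 1, by omega⟩
    refine orderOf_eq_prime_pow (fun h => ?_) (LinearMap.ext fun w => Subtype.ext (Subtype.ext ?_))
    · obtain ⟨w, hw⟩ := exists_ne (0 : S₀)
      refine hw (Subtype.ext (Subtype.ext (hnofix _ (w : W₁).2 ?_)))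
      have h1 := congrArg (fun v : S₀ => ((v : W₁) : W)) (LinearMap.congr_fun h w)
      simp only [hT₀, hT₁, Module.End.one_apply] at h1
      exact h1
    · rw [hT₀, hT₁, hTN]; rfl
  obtain ⟨hdiv, -⟩ := irreducible_cyclic T₀ (fun S' hS' => by
    by_contra hh
    push Not at hh
    refine hS₀min (S'.map S₀.subtype) ⟨fun e => hh.1 ((Submodule.eq_bot_iff _).2 fun v hv =>
      Subtype.ext ((Submodule.eq_bot_iff _).1 e _ ⟨v, hv, rfl⟩)), (Submodule.map_subtype_le S₀ S').trans hS₀S, ?_⟩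
      (lt_of_le_of_ne (Submodule.map_subtype_le S₀ S') fun e => hh.2 (Submodule.eq_top_iff'.2 fun v => ?_))
    · rintro _ ⟨v, hv, rfl⟩
      exact ⟨_, hS' v hv, rfl⟩
    · obtain ⟨v', hv', he⟩ := e.ge v.2
      exact Subtype.ext he ▸ hv')
  have hd := hdiv _ hord (pow_pos hp.pos _)
  have hcS : Nat.card S₀ = 2 ^ finrank (ZMod 2) S₀ := by
    rw [Module.natCard_eq_pow_finrank (K := ZMod 2), Nat.card_zmod]
  rw [hcS, hNb] at hd
  have hW₁card : finrank (ZMod 2) W₁ = 2 * b := by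
    have h := Module.natCard_eq_pow_finrank (K := ZMod 2) (V := W₁)
    rw [hcardW, Nat.card_zmod] at h
    exact (Nat.pow_right_injective le_rfl h).symm
  have hge : 2 * b ≤ finrank (ZMod 2) S₀ := by
    by_contra hlt
    push Not at hlt
    exact not_dvd_two_pow_sub_one (b := b) finrank_pos hlt hd
  refine top_le_iff.1 (le_trans ?_ hS₀S)
  rw [Submodule.eq_top_of_finrank_eq (show finrank (ZMod 2) S₀ = finrank (ZMod 2) W₁ from
    le_antisymm (Submodule.finrank_le S₀) (by omega))]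

/-- An endomorphism of order `p` commuting with an exceptional element is isotypic on its support. -/
theorem isotypic_of_deg {p n : ℕ} [Fact p.Prime] [CharP K p] (hp2 : p ≠ 2) (ρ : G →* Module.End K V)
    (Q : Subgroup G) [Q.Normal] (hQ : IsPGroup 2 Q)
    (hcomm : ∀ u ∈ Q, ∀ b ∈ Q, ∃ c : K, ρ u * ρ b = c • (ρ b * ρ u))
    {W : Type t} [AddCommGroup W] [Module (ZMod 2) W] [Finite W] (π : Q →* Multiplicative W)
    (hπ : Function.Surjective π) (hπker : ∀ u : Q, π u = 1 ↔ (u : G) ∈ (adRep ρ).ker)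
    (x : G) (T : Module.End (ZMod 2) W) (hT : ∀ u : Q, T (π u).toAdd = (π (MulAut.conjNormal x u)).toAdd)
    (hn : n ≠ 0) (hx : x ^ p ^ n = 1) (hdeg : (ρ x - 1) ^ (p ^ n - 1) = 0) (hTN : T ^ p ^ n = 1)
    (z : Module.End (ZMod 2) W) (hz : z ^ p = 1) (hzT : Commute z T) :
    ∃ j : ℕ, ∀ w : W, z ((T ^ p ^ (n - 1)) w - w) = ((T ^ p ^ (n - 1)) ^ j) ((T ^ p ^ (n - 1)) w - w) := by
  classical
  have hp : p.Prime := Fact.out
  set y := x ^ p ^ (n - 1) with hy
  set Ty := T ^ p ^ (n - 1) with hTy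
  have hTyp : Ty ^ p = 1 := by rw [hTy, ← pow_mul, ← pow_succ, show n - 1 + 1 = n by omega, hTN]
  set W₁ := LinearMap.range (Ty - 1) with hW₁
  have hTi : ∀ (i : ℕ) (u : Q), (T ^ i) (π u).toAdd = (π (MulAut.conjNormal (x ^ i) u)).toAdd := by
    intro i
    induction i with
    | zero => intro u; simp
    | succ i ih => intro u; rw [pow_succ', Module.End.mul_apply, ih, hT, pow_succ', map_mul, MulAut.mul_apply]
  have hcT : ∀ f : Module.End (ZMod 2) W, Commute f T → ∀ w ∈ W₁, f w ∈ W₁ := by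
    rintro f hf _ ⟨w, rfl⟩
    refine ⟨f w, ?_⟩
    have h1 : Commute f (Ty - 1) := (hf.pow_right _).sub_right (Commute.one_right f)
    exact (LinearMap.congr_fun h1.eq w).symm
  by_cases hbot : W₁ = ⊥
  · refine ⟨0, fun w => ?_⟩
    have h1 : Ty w - w = 0 := (Submodule.eq_bot_iff _).1 hbot _ ⟨w, rfl⟩
    rw [h1, map_zero, map_zero]
  have hTW : ∀ w ∈ W₁, T w ∈ W₁ := hcT T (Commute.refl T)
  have hzW : ∀ w ∈ W₁, z w ∈ W₁ := hcT z hzT
  have hirr := support_irreducible hp2 ρ Q hQ hcomm π hπ hπker x T hT hn hx hdeg hTN hTW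
  have hnofix := support_no_fixed hp2 Ty hTyp
  haveI : Nontrivial W₁ := Submodule.nontrivial_iff_ne_bot.2 hbot
  let T₁ : Module.End (ZMod 2) W₁ := T.restrict hTW
  have hT₁ : ∀ (i : ℕ) (w : W₁), (((T₁ ^ i) w : W₁) : W) = (T ^ i) (w : W) := by
    intro i
    induction i with
    | zero => intro w; simp
    | succ i ih => intro w; rw [pow_succ', Module.End.mul_apply, pow_succ', Module.End.mul_apply, ← ih]; rfl
  let z₁ : Module.End (ZMod 2) W₁ := z.restrict hzW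
  have hz₁ : ∀ (i : ℕ) (w : W₁), (((z₁ ^ i) w : W₁) : W) = (z ^ i) (w : W) := by
    intro i
    induction i with
    | zero => intro w; simp
    | succ i ih => intro w; rw [pow_succ', Module.End.mul_apply, pow_succ', Module.End.mul_apply, ← ih]; rfl
  obtain ⟨i, hi⟩ := (irreducible_cyclic T₁ hirr).2 p (p ^ (n - 1)) z₁ hp
    (fun h => by
      obtain ⟨w, hw⟩ := exists_ne (0 : W₁)
      refine hw (Subtype.ext (hnofix _ w.2 ?_))
      have h1 := congrArg (fun v : W₁ => (v : W)) (LinearMap.congr_fun h w)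
      simp only [hT₁, Module.End.one_apply] at h1
      exact h1)
    (LinearMap.ext fun w => Subtype.ext (by
      rw [← pow_mul, ← pow_succ, show n - 1 + 1 = n by omega, hT₁, hTN]; rfl))
    (LinearMap.ext fun w => Subtype.ext (LinearMap.congr_fun hzT.eq (w : W)))
    (LinearMap.ext fun w => Subtype.ext (by rw [hz₁, hz]; rfl))
  refine ⟨i, fun w => ?_⟩
  have h1 := congrArg (fun v : W₁ => (v : W)) (LinearMap.congr_fun hi ⟨Ty w - w, ⟨w, rfl⟩⟩)
  simp only [← pow_mul, hT₁] at h1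
  rw [hTy, ← pow_mul]
  exact h1

end Cfsg.Lib.HallHigman
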