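import Mathlib
import Cfsg.Prelude
import Cfsg.Agent.HallHigman.Complemented
import Cfsg.Agent.HallHigman.TheoremB
import Cfsg.Agent.PLocal.Constrained

/-!
The split quotient as a module, and Theorem B over an arbitrary field.
-/

set_option linter.style.haveILetI false
set_option linter.unusedSectionVars false

namespace Cfsg.Lib.HallHigman

open Subgroup Module

universe u v w

/-- Theorem B for a faithful representation over any field. -/
theorem theorem_B_field {F : Type u} [Field F] {V : Type v} [AddCommGroup V] [Module F V] [FiniteDimensional F V]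
    [Nontrivial V] {H : Type w} [Group H] [Finite H] {p : ℕ} [Fact p.Prime] [CharP F p]
    (hsol : Cfsg.IsPSolvable p H) (hOp : Cfsg.pCore p H = ⊥) (ρ : H →* Module.End F V) (hρ : Function.Injective ρ)
    (x : H) (n : ℕ) (hn : orderOf x = p ^ n) (r : ℕ) (hr : (ρ x - 1) ^ r = 0) :
    p ^ n ≤ r ∨ ∃ n₀ q m : ℕ, 1 ≤ n₀ ∧ n₀ ≤ n ∧ q.Prime ∧ 1 ≤ m ∧ p ^ n₀ - 1 = q ^ m ∧
      (∀ Q : Sylow q H, ¬ IsMulCommutative Q) ∧ p ^ (n - n₀) * (p ^ n₀ - 1) ≤ r := by
  classical
  let b := Module.finBasis F V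
  let K := AlgebraicClosure F
  haveI : CharP K p := charP_of_injective_algebraMap (algebraMap F K).injective p
  let Φ : Module.End F V →+* Module.End K (Fin (Module.finrank F V) → K) :=
    ((Matrix.toLinAlgEquiv' : Matrix _ _ K ≃ₐ[K] _).toRingEquiv.toRingHom.comp
      (algebraMap F K).mapMatrix).comp (LinearMap.toMatrixAlgEquiv b).toRingEquiv.toRingHom
  have hΦ : Function.Injective Φ := by
    intro f g e
    exact (LinearMap.toMatrixAlgEquiv b).injective
      (Matrix.map_injective (algebraMap F K).injective (Matrix.toLinAlgEquiv'.injective e))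
  haveI : Nonempty (Fin (Module.finrank F V)) := ⟨⟨0, Module.finrank_pos⟩⟩
  exact theorem_B (K := K) hsol hOp (Φ.toMonoidHom.comp ρ) (hΦ.comp hρ) x n hn r
    (by show (Φ (ρ x) - 1) ^ r = 0; rw [← map_one Φ, ← map_sub, ← map_pow, hr, map_zero])

variable {p : ℕ} [hp : Fact p.Prime]

/-- The split quotient `V ⋊ K` with `K ≅ G / O_p(G)` faithful on `V`. -/
theorem exists_split_module {G : Type u} [Group G] [Finite G] (hsol : Cfsg.IsPSolvable p G)
    (hO : Cfsg.pPrimeCore p G = ⊥) :
    ∃ (Γ : Type u) (_ : Group Γ) (_ : Finite Γ) (π : G →* Γ) (K : Subgroup Γ)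
      (V : Type u) (_ : AddCommGroup V) (_ : Module (ZMod p) V) (_ : Finite V)
      (ι : Multiplicative V →* Γ) (ρ : K →* Module.End (ZMod p) V),
      Function.Surjective π ∧ Function.Injective ι ∧ ι.range = (Cfsg.pCore p G).map π ∧ ι.range.Normal ∧
      ι.range ⊓ K = ⊥ ∧ ι.range ⊔ K = ⊤ ∧ π.ker ≤ Cfsg.pCore p G ∧ Function.Injective ρ ∧
      (∀ (k : K) (v : V), ι (Multiplicative.ofAdd (ρ k v)) = (k : Γ) * ι (Multiplicative.ofAdd v) * (k : Γ)⁻¹) ∧
      Cfsg.IsPSolvable p K ∧ Cfsg.pCore p K = ⊥ := by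
  classical
  obtain ⟨Γ, iG, iF, π, W, K, hπ, hWn, hW, hWc, hWp, hWK, hWKsup, hcent, hker⟩ := exists_complemented hsol hO
  haveI := hWn
  haveI : IsMulCommutative W := ⟨⟨fun a b => Subtype.ext (hWc a a.2 b b.2)⟩⟩
  letI : CommGroup W := { (inferInstance : Group W) with mul_comm := fun a b => Subtype.ext (hWc a a.2 b b.2) }
  have hsmul : ∀ w : Additive W, p • w = 0 := fun w => by
    apply Additive.toMul.injective
    rw [toMul_nsmul]
    exact Subtype.ext (hWp _ (Additive.toMul w).2)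
  haveI : Module (ZMod p) (Additive W) := AddCommGroup.zmodModule hsmul
  let c : K →* MulAut W := (MulAut.conjNormal (H := W)).comp K.subtype
  let ρ : K →* Module.End (ZMod p) (Additive W) := (mulAutToEnd p W).comp c
  let ι : Multiplicative (Additive W) →* Γ := W.subtype
  have hι : Function.Injective ι := W.subtype_injective
  have hrange : ι.range = W := W.range_subtype
  refine ⟨Γ, iG, iF, π, K, Additive W, inferInstance, inferInstance, inferInstance, ι, ρ, hπ, hι, hrange.trans hW,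
    by rw [hrange]; exact hWn, hrange.symm ▸ hWK, hrange.symm ▸ hWKsup, hker, ?_, fun k v => rfl, ?_, ?_⟩
  · refine (injective_iff_map_eq_one ρ).2 fun k hk => ?_
    have h1 : (k : Γ) ∈ W := hcent k fun w hw => by
      have h2 := congrArg Subtype.val (congrArg Additive.toMul (LinearMap.congr_fun hk (Additive.ofMul (⟨w, hw⟩ : W))))
      change (k : Γ) * w * (k : Γ)⁻¹ = w at h2
      rwa [mul_inv_eq_iff_eq_mul] at h2
    have h3 : (k : Γ) ∈ W ⊓ K := ⟨h1, k.2⟩
    rw [hWK, mem_bot] at h3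
    exact Subtype.ext h3
  · let f : Γ →* Γ ⧸ W := QuotientGroup.mk' W
    have hb : Function.Bijective (f.comp K.subtype) := by
      refine ⟨(injective_iff_map_eq_one _).2 fun k hk => ?_, fun z => ?_⟩
      · have h3 : (k : Γ) ∈ W ⊓ K := ⟨(QuotientGroup.eq_one_iff _).1 hk, k.2⟩
        rw [hWK, mem_bot] at h3
        exact Subtype.ext h3
      · obtain ⟨g, rfl⟩ := QuotientGroup.mk'_surjective W z
        obtain ⟨w, hw, k, hk, rfl⟩ := mem_sup_of_normal_left.1 (hWKsup.ge (mem_top g))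
        exact ⟨⟨k, hk⟩, by
          show f k = f (w * k)
          rw [map_mul, show f w = 1 from (QuotientGroup.eq_one_iff w).2 hw, one_mul]⟩
    exact Cfsg.Lib.Constraint.isPSolvable_of_surjective (f := ((MulEquiv.ofBijective _ hb).symm.toMonoidHom.comp f).comp π)
      ((((MulEquiv.ofBijective _ hb).symm.surjective).comp (QuotientGroup.mk'_surjective W)).comp hπ) hsol
  · haveI := Cfsg.Lib.Components.pCore_normal' (G := K) p
    set S := (Cfsg.pCore p K).map K.subtype
    haveI : (W ⊔ S).Normal := by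
      rw [← normalizer_eq_top_iff, eq_top_iff, ← hWKsup]
      refine sup_le ((le_sup_left : W ≤ W ⊔ S).trans le_normalizer) fun k hk => ?_
      refine Cfsg.Lib.HallHigman.mem_normalizer_of_conj_le fun z hz => ?_
      obtain ⟨w, hw, s, hs, rfl⟩ := mem_sup_of_normal_left.1 hz
      rw [show k * (w * s) * k⁻¹ = (k * w * k⁻¹) * (k * s * k⁻¹) by group]
      obtain ⟨t, ht, rfl⟩ := hs
      exact mul_mem_sup (hWn.conj_mem w hw k)
        ⟨⟨k, hk⟩ * t * ⟨k, hk⟩⁻¹, (inferInstance : (Cfsg.pCore p K).Normal).conj_mem t ht _, rfl⟩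
    have hWS : IsPGroup p (W ⊔ S : Subgroup Γ) :=
      IsPGroup.to_sup_of_normal_left (hW ▸ (Cfsg.Lib.Components.isPGroup_pCore p).map π)
        ((Cfsg.Lib.Components.isPGroup_pCore p).map _)
    haveI : ((W ⊔ S).comap π).Normal := Subgroup.Normal.comap inferInstance _
    have hle : (W ⊔ S).comap π ≤ Cfsg.pCore p G := Cfsg.Lib.Components.le_pCore
      (hWS.comap_of_ker_isPGroup π ((Cfsg.Lib.Components.isPGroup_pCore p).to_le hker))
    rw [eq_bot_iff]
    intro s hs
    obtain ⟨g, hg⟩ := hπ (s : Γ)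
    have h1 : g ∈ Cfsg.pCore p G :=
      hle (show π g ∈ W ⊔ S by rw [hg]; exact mem_sup_right ⟨s, hs, rfl⟩)
    have h3 : (s : Γ) ∈ W ⊓ K := ⟨by rw [hW, ← hg]; exact ⟨g, h1, rfl⟩, s.2⟩
    rw [hWK, mem_bot] at h3
    exact mem_bot.2 (Subtype.ext h3)

end Cfsg.Lib.HallHigman
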