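import Mathlib
import Cfsg.Prelude
import Cfsg.Agent.HallHigman.ExceptionalSupport
import Cfsg.Agent.HallHigman.Drop
import Cfsg.Agent.HallHigman.SplitModule
import Cfsg.Agent.Coprime.Action

/-!
When `O_p(H) = 1` and the `p`-elements of `H` satisfy the norm identity for `p ^ (k + 1)` on a
faithful module in characteristic `p ≠ 2`, the `p ^ k`-th powers in a `p`-subgroup commute.
-/

set_option linter.style.haveILetI false
set_option linter.unusedSectionVars false

namespace Cfsg.Lib.HallHigman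

open Module Subgroup
open scoped commutatorElement IsMulCommutative

universe u v w

variable {K : Type u} [Field K] [IsAlgClosed K] {V : Type v} [AddCommGroup V] [Module K V] [FiniteDimensional K V]

theorem pow_centralizes_abelian {H : Type w} [Group H] [Finite H] {p k q : ℕ} [Fact p.Prime] [Fact q.Prime]
    [CharP K p] (hqp : q ≠ p) (ρ : H →* Module.End K V) (hρ : Function.Injective ρ) (x : H)
    (hx : x ^ p ^ (k + 1) = 1) (hdeg : (ρ x - 1) ^ (p ^ (k + 1) - 1) = 0) (T : Subgroup H) (hT : IsPGroup q T)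
    (hTx : x ∈ normalizer (T : Set H)) (hc : ∀ a ∈ T, ∀ b ∈ T, a * b = b * a) :
    ∀ a ∈ T, a * x ^ p ^ k = x ^ p ^ k * a := by
  by_contra hh
  push Not at hh
  exact abelian_bound hqp ρ hρ x hx T hT hTx hh hc hdeg

theorem pow_centralizes_odd {H : Type w} [Group H] [Finite H] {p k q : ℕ} [Fact p.Prime] [Fact q.Prime]
    [CharP K p] (hp2 : p ≠ 2) (hq2 : q ≠ 2) (hqp : q ≠ p) (ρ : H →* Module.End K V) (hρ : Function.Injective ρ)
    (x : H) (hx : x ^ p ^ (k + 1) = 1) (hdeg : (ρ x - 1) ^ (p ^ (k + 1) - 1) = 0) (T : Subgroup H)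
    (hT : IsPGroup q T) (hTx : x ∈ normalizer (T : Set H)) :
    ∀ a ∈ T, a * x ^ p ^ k = x ^ p ^ k * a := by
  by_contra hh
  push Not at hh
  have hp : p.Prime := Fact.out
  obtain ⟨Q, hQ, hQx, hQm, hcase⟩ := exists_critical_subgroup hqp x (x ^ p ^ k) (Commute.self_pow x _).eq
    (by rw [← pow_mul, ← pow_succ, hx]) (pow_mem (mem_zpowers x) _) T hT hTx hh
  rcases hcase with hc | ⟨hZ, hcl⟩
  · obtain ⟨a, ha, hne⟩ := hQm
    exact hne (pow_centralizes_abelian hqp ρ hρ x hx hdeg Q hQ hQx hc a ha)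
  obtain ⟨n₀, m, h1, -, h3, h4, -⟩ := critical_bound hqp ρ hρ x hx Q hQ hQx hQm hZ hcl _ hdeg
    (Nat.sub_lt (pow_pos hp.pos _) one_pos)
  have hodd : Odd (q ^ m) := ((Fact.out : q.Prime).odd_of_ne_two hq2).pow
  obtain ⟨i, hi⟩ := (hp.odd_of_ne_two hp2).pow (n := n₀)
  obtain ⟨j, hj⟩ := hodd
  omega

theorem le_normalizer_map_frattini {G : Type*} [Group G] {Q A : Subgroup G}
    (hA : A ≤ normalizer (Q : Set G)) : A ≤ normalizer (((frattini Q).map Q.subtype : Subgroup G) : Set G) := by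
  refine hA.trans fun g hg => ?_
  have key : ∀ g ∈ normalizer (Q : Set G), ∀ z ∈ (frattini Q).map Q.subtype, g * z * g⁻¹ ∈ (frattini Q).map Q.subtype := by
    rintro g hg _ ⟨z, hz, rfl⟩
    refine ⟨Q.normalizerMonoidHom ⟨g, hg⟩ z, ?_, rfl⟩
    have h1 := (inferInstance : (frattini Q).Characteristic).fixed (Q.normalizerMonoidHom ⟨g, hg⟩)
    exact (le_of_eq h1.symm) hz
  refine mem_normalizer_iff.2 fun z => ⟨key g hg z, fun hz => ?_⟩
  have h2 := key g⁻¹ (inv_mem hg) _ hz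
  rwa [inv_inv, show g⁻¹ * (g * z * g⁻¹) * g = z by group] at h2

theorem le_normalizer_commutator {G : Type*} [Group G] [Finite G] {Q D A : Subgroup G}
    (hQ : A ≤ normalizer (Q : Set G)) (hD : A ≤ normalizer (D : Set G)) :
    A ≤ normalizer ((⁅Q, D⁆ : Subgroup G) : Set G) := by
  intro g hg
  refine mem_normalizer_of_conj_le fun z hz => ?_
  have hmap : ∀ S : Subgroup G, g ∈ normalizer (S : Set G) → S.map (MulAut.conj g).toMonoidHom ≤ S := by
    rintro S hS _ ⟨w, hw, rfl⟩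
    exact (mem_normalizer_iff.1 hS w).1 hw
  have h1 : (⁅Q, D⁆ : Subgroup G).map (MulAut.conj g).toMonoidHom ≤ ⁅Q, D⁆ := by
    rw [map_commutator]
    exact commutator_mono (hmap Q (hQ hg)) (hmap D (hD hg))
  exact h1 ⟨z, hz, rfl⟩

/-- The `p ^ k`-th powers of the elements of `S` centralize each `S`-invariant `2`-subgroup modulo
commutators. -/
theorem agemo_two {H : Type w} [Group H] [Finite H] {p k : ℕ} [Fact p.Prime] [CharP K p] (hp2 : p ≠ 2)
    (ρ : H →* Module.End K V) (hρ : Function.Injective ρ) (S : Subgroup H) (hS : IsPGroup p S)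
    (hexp : ∀ s ∈ S, s ^ p ^ (k + 1) = 1) (hdeg : ∀ s ∈ S, (ρ s - 1) ^ (p ^ (k + 1) - 1) = 0)
    (T : Subgroup H) (hT : IsPGroup 2 T) (hTS : S ≤ normalizer (T : Set H)) :
    ⁅closure ((fun s : H => s ^ p ^ k) '' S), closure ((fun s : H => s ^ p ^ k) '' S)⁆ ≤ centralizer (T : Set H) := by
  classical
  haveI : Fact (Nat.Prime 2) := ⟨Nat.prime_two⟩
  haveI : Fact (p.Prime) := inferInstance
  have hp : p.Prime := Fact.out
  haveI : ExpChar K p := ExpChar.prime hp
  set Yh := (fun s : H => s ^ p ^ k) '' S with hYh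
  set A := closure Yh with hA
  set D := ⁅A, A⁆ with hD
  have hAS : A ≤ S := (closure_le S).2 (by rintro _ ⟨s, hs, rfl⟩; exact pow_mem hs _)
  have hDA : D ≤ A := commutator_le_self A
  have hAn : S ≤ normalizer (A : Set H) := by
    intro g hg
    refine mem_normalizer_of_conj_le fun z hz => ?_
    induction hz using closure_induction with
    | mem y hy =>
      obtain ⟨s, hs, rfl⟩ := hy
      exact subset_closure ⟨g * s * g⁻¹, mul_mem (mul_mem hg hs) (inv_mem hg), conj_pow⟩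
    | one => simp
    | mul a b _ _ ha hb =>
      have h := mul_mem ha hb
      rwa [show g * a * g⁻¹ * (g * b * g⁻¹) = g * (a * b) * g⁻¹ by group] at h
    | inv a _ ha =>
      have h := inv_mem ha
      rwa [show (g * a * g⁻¹)⁻¹ = g * a⁻¹ * g⁻¹ by group] at h
  have hDn : S ≤ normalizer (D : Set H) := le_normalizer_commutator hAn hAn
  suffices ∀ Q : Subgroup H, Q ≤ T → S ≤ normalizer (Q : Set H) → D ≤ centralizer (Q : Set H) from this T le_rfl hTS
  intro Q
  induction Q using WellFoundedLT.induction with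
  | ind Q ih =>
  intro hQT hQS
  have hQ : IsPGroup 2 Q := hT.to_le hQT
  have hcop : (Nat.card D).Coprime (Nat.card Q) := by
    obtain ⟨i, hi⟩ := IsPGroup.iff_card.1 (hS.to_le (hDA.trans hAS))
    obtain ⟨j, hj⟩ := IsPGroup.iff_card.1 hQ
    rw [hi, hj]
    exact Nat.Coprime.pow i j ((Nat.coprime_primes hp Nat.prime_two).2 hp2)
  haveI : Group.IsNilpotent Q := hQ.isNilpotent
  have hsolQ : Group.IsSolvable Q := inferInstance
  have hDQ : D ≤ normalizer (Q : Set H) := hDA.trans (hAS.trans hQS)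
  have hprop : ∀ M, M ≤ Q → M ≠ Q → S ≤ normalizer (M : Set H) → D ≤ centralizer (M : Set H) :=
    fun M h1 h2 h3 => ih M (lt_of_le_of_ne h1 h2) (h1.trans hQT) h3
  -- the abelian case
  have habel : ∀ M, M ≤ Q → S ≤ normalizer (M : Set H) → (∀ a ∈ M, ∀ b ∈ M, a * b = b * a) →
      A ≤ centralizer (M : Set H) := by
    intro M h1 h2 h3
    refine (closure_le _).2 ?_
    rintro _ ⟨s, hs, rfl⟩
    exact mem_centralizer_iff.2 (pow_centralizes_abelian (Ne.symm hp2) ρ hρ s (hexp s hs) (hdeg s hs) M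
      (hQ.to_le h1) (h2 hs) h3)
  by_cases hfull : ⁅Q, D⁆ = Q
  swap
  · have h1 := hprop _ (Cfsg.Lib.Coprime.commutator_le_of_le_normalizer hDQ) hfull (le_normalizer_commutator hQS hDn)
    have h2 : ⁅(⁅Q, D⁆ : Subgroup H), D⁆ = ⊥ := commutator_eq_bot_iff_le_centralizer.2 (le_centralizer_iff.1 h1)
    rw [Cfsg.Lib.Coprime.commutator_commutator_eq hDQ hcop (Or.inr hsolQ)] at h2
    exact le_centralizer_iff.1 (commutator_eq_bot_iff_le_centralizer.1 h2)
  rcases eq_or_ne Q ⊥ with rfl | hQne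
  · intro d _
    rw [mem_centralizer_iff]
    intro z hz
    rw [SetLike.mem_coe, mem_bot] at hz
    rw [hz, one_mul, mul_one]
  haveI : Nontrivial Q := nontrivial_iff_ne_bot _ |>.2 hQne
  set Φ := (frattini Q).map Q.subtype with hΦ
  have hΦQ : Φ ≤ Q := map_subtype_le _
  have hΦne : Φ ≠ Q := by
    intro h
    have h1 : frattini Q = ⊤ := map_injective Q.subtype_injective (by rw [← MonoidHom.range_eq_map, range_subtype]; exact h)
    obtain ⟨M, hM, -⟩ := (eq_top_or_exists_le_coatom (⊥ : Subgroup Q)).resolve_left bot_ne_top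
    exact hM.1 (top_le_iff.1 (h1 ▸ frattini_le_coatom hM))
  have hΦS : S ≤ normalizer (Φ : Set H) := le_normalizer_map_frattini hQS
  have hΦD : D ≤ centralizer (Φ : Set H) := hprop Φ hΦQ hΦne hΦS
  have hΦcen : ∀ a ∈ Φ, ∀ b ∈ Q, a * b = b * a := by
    have h1 : ⁅(⁅D, Φ⁆ : Subgroup H), Q⁆ = ⊥ := by
      rw [commutator_eq_bot_iff_le_centralizer.2 hΦD, commutator_bot_left]
    have h2 : ⁅(⁅Φ, Q⁆ : Subgroup H), D⁆ = ⊥ := by
      rw [commutator_eq_bot_iff_le_centralizer]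
      have hle : ⁅Φ, Q⁆ ≤ Φ := by
        rw [commutator_le]
        intro a ha b hb
        obtain ⟨a', ha', rfl⟩ := ha
        have h := mul_mem ha' ((inferInstance : (frattini Q).Normal).conj_mem _ (inv_mem ha') ⟨b, hb⟩)
        refine ⟨_, h, ?_⟩
        simp [commutatorElement_def, mul_assoc]
      exact hle.trans (le_centralizer_iff.1 hΦD)
    have h3 : ⁅(⁅Q, D⁆ : Subgroup H), Φ⁆ = ⊥ := commutator_commutator_eq_bot_of_rotate h1 h2
    rw [hfull, commutator_eq_bot_iff_le_centralizer] at h3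
    exact fun a ha b hb => mem_centralizer_iff.1 (h3 hb) a ha
  set Z := Q ⊓ centralizer (Q : Set H) with hZdef
  have hmemZ : ∀ a, a ∈ Z ↔ a ∈ Q ∧ ∀ b ∈ Q, a * b = b * a := fun a =>
    ⟨fun h => ⟨h.1, fun b hb => (mem_centralizer_iff.1 h.2 b hb).symm⟩,
      fun h => ⟨h.1, mem_centralizer_iff.2 fun b hb => (h.2 b hb).symm⟩⟩
  have hΦZ : ∀ a ∈ Φ, a ∈ Z := fun a ha => (hmemZ a).2 ⟨hΦQ ha, hΦcen a ha⟩
  have hZcomm : ∀ a b : Z, a * b = b * a := fun a b => Subtype.ext (((hmemZ a).1 a.2).2 b b.2.1)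
  have hZS : S ≤ normalizer (Z : Set H) := by
    intro g hg
    refine mem_normalizer_of_conj_le fun z hz => (hmemZ _).2 ⟨(mem_normalizer_iff.1 (hQS hg) z).1 hz.1, fun b hb => ?_⟩
    have hb' : g⁻¹ * b * g ∈ Q := (mem_normalizer_iff''.1 (hQS hg) b).1 hb
    calc g * z * g⁻¹ * b = g * (z * (g⁻¹ * b * g)) * g⁻¹ := by group
      _ = g * ((g⁻¹ * b * g) * z) * g⁻¹ := by rw [((hmemZ z).1 hz).2 _ hb']
      _ = b * (g * z * g⁻¹) := by group
  have hAZ : A ≤ centralizer (Z : Set H) := habel Z inf_le_left hZS fun a ha b hb => ((hmemZ a).1 ha).2 b hb.1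
  have hyZ : ∀ y ∈ A, ∀ z : Z, (z : H) * y = y * z := fun y hy z => mem_centralizer_iff.1 (hAZ hy) z z.2
  have hZK : ((Nat.card Z : ℕ) : K) ≠ 0 := by
    obtain ⟨m, hm⟩ := IsPGroup.iff_card.1 (hQ.to_le (inf_le_left : Z ≤ Q))
    rw [hm, Nat.cast_pow]
    refine pow_ne_zero _ fun h => hp2 ?_
    exact ((Nat.prime_dvd_prime_iff_eq hp Nat.prime_two).1 ((CharP.cast_eq_zero_iff K p 2).1 h))
  by_contra hcon
  obtain ⟨c, hcD, a, haQ, hca⟩ : ∃ c ∈ D, ∃ a ∈ Q, c * a * c⁻¹ ≠ a := by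
    by_contra hh
    push Not at hh
    exact hcon fun c hc => mem_centralizer_iff.2 fun a ha => (mul_inv_eq_iff_eq_mul.1 (hh c hc a ha)).symm
  obtain ⟨v₀, hv₀, hmv⟩ : ∃ v : V, (∀ z : Z, ∃ r : K, ρ z v = r • v) ∧ ρ (c * a * c⁻¹) v ≠ ρ a v := by
    by_contra hh
    push Not at hh
    exact hca (hρ (LinearMap.ext_on (common_eigen_span hZcomm hZK (ρ.comp Z.subtype)) fun v hv => hh v hv))
  have hv₀0 : v₀ ≠ 0 := fun h => hmv (by simp [h])
  choose f hf using hv₀
  set U : Submodule K V := ⨅ z : Z, (ρ (z : H)).eigenspace (f z) with hUdef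
  have hU : ∀ v, v ∈ U ↔ ∀ z : Z, ρ (z : H) v = f z • v := fun v => by
    simp [hUdef, Submodule.mem_iInf]
  have hv₀U : v₀ ∈ U := (hU _).2 fun z => hf z
  haveI : Nontrivial U := ⟨⟨⟨v₀, hv₀U⟩, 0, fun e => hv₀0 (congrArg Subtype.val e)⟩⟩
  set Sf := S ⊓ stabSub ρ U with hSf
  have hASf : A ≤ Sf := by
    refine le_inf hAS fun y hy v hv => ?_
    rw [hU] at hv ⊢
    intro z
    rw [← Module.End.mul_apply, ← map_mul, hyZ y hy z, map_mul, Module.End.mul_apply, hv, map_smul]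
  have hQU : Q ≤ stabSub ρ U := fun g hg v hv => by
    rw [hU] at hv ⊢
    intro z
    rw [← Module.End.mul_apply, ← map_mul, ((hmemZ _).1 z.2).2 g hg, map_mul, Module.End.mul_apply, hv, map_smul]
  set G₁ := Q ⊔ Sf with hG₁
  have hG₁U : G₁ ≤ stabSub ρ U := sup_le hQU inf_le_right
  let ρU : G₁ →* Module.End K U := restrictRep (ρ.comp G₁.subtype) U fun g => hG₁U g.2
  let j : Sf →* G₁ := Subgroup.inclusion le_sup_right
  set Q₁ := Q.subgroupOf G₁ with hQ₁
  haveI : Q₁.Normal := normal_subgroupOf_of_le_normalizer (sup_le le_normalizer (inf_le_left.trans hQS))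
  have hQ₁p : IsPGroup 2 Q₁ := hQ.comap_of_injective _ G₁.subtype_injective
  have hmQ₁ : ∀ u : G₁, u ∈ Q₁ ↔ (u : H) ∈ Q := fun u => mem_subgroupOf
  have hscalZ : ∀ u : G₁, (hz : (u : H) ∈ Z) → ρU u = f ⟨u, hz⟩ • 1 := fun u hz =>
    LinearMap.ext fun v => Subtype.ext ((hU _).1 v.2 ⟨u, hz⟩)
  have hkerZ : ∀ u : G₁, (u : H) ∈ Z → u ∈ (adRep ρU).ker := fun u hz =>
    (mem_ker_adRep_iff ρU u).2 ⟨_, hscalZ u hz⟩
  have hΦcomm : ∀ u ∈ Q₁, ∀ b ∈ Q₁, ((u * b * u⁻¹ * b⁻¹ : G₁) : H) ∈ Φ := fun u hu b hb =>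
    ⟨⟨u, (hmQ₁ u).1 hu⟩ * ⟨b, (hmQ₁ b).1 hb⟩ * ⟨u, (hmQ₁ u).1 hu⟩⁻¹ * ⟨b, (hmQ₁ b).1 hb⟩⁻¹,
      Cfsg.Lib.PGroups.commutator_le_frattini hQ (commutator_mem_commutator (mem_top _) (mem_top _)), rfl⟩
  have hcommQ : ∀ u ∈ Q₁, ∀ b ∈ Q₁, ∃ r : K, ρU u * ρU b = r • (ρU b * ρU u) := by
    intro u hu b hb
    refine ⟨f ⟨_, hΦZ _ (hΦcomm u hu b hb)⟩, ?_⟩
    calc ρU u * ρU b = ρU ((u * b * u⁻¹ * b⁻¹) * (b * u)) := by rw [← map_mul]; congr 1; group
      _ = _ := by rw [map_mul, hscalZ _ (hΦZ _ (hΦcomm u hu b hb)), smul_mul_assoc, one_mul, map_mul]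
  let φ : G₁ →* (Module.End K (Module.End K U))ˣ := (adRep ρU).toHomUnits
  have hφker : ∀ u : G₁, φ u = 1 ↔ u ∈ (adRep ρU).ker := fun u => by
    rw [MonoidHom.mem_ker, Units.ext_iff]; rfl
  set Wg := Q₁.map φ with hWg
  haveI : Finite Wg := .of_surjective (fun r : Q₁ => (⟨φ r, r, r.2, rfl⟩ : Wg))
      fun ⟨_, r, hr, e⟩ => ⟨⟨r, hr⟩, Subtype.ext e⟩
  haveI hWc : IsMulCommutative Wg := ⟨⟨by
    rintro ⟨_, u, hu, rfl⟩ ⟨_, b, hb, rfl⟩
    refine Subtype.ext ?_
    show φ u * φ b = φ b * φ u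
    rw [← map_mul, show u * b = (u * b * u⁻¹ * b⁻¹) * (b * u) by group, map_mul,
      (hφker _).2 (hkerZ _ (hΦZ _ (hΦcomm u hu b hb))), one_mul, map_mul]⟩⟩
  have hWsq : ∀ w : Wg, w ^ 2 = 1 := by
    rintro ⟨_, u, hu, rfl⟩
    refine Subtype.ext ?_
    show φ u ^ 2 = 1
    rw [← map_pow, hφker]
    exact hkerZ _ (hΦZ _ ⟨⟨u, (hmQ₁ u).1 hu⟩ ^ 2, Cfsg.Lib.PGroups.pow_mem_frattini hQ _, rfl⟩)
  haveI : Module (ZMod 2) (Additive Wg) := AddCommGroup.zmodModule fun w => by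
    apply Additive.toMul.injective
    rw [toMul_nsmul, hWsq]; rfl
  have hφn : ∀ g : G₁, φ g ∈ normalizer (Wg : Set (Module.End K (Module.End K U))ˣ) := fun g => by
    refine (le_normalizer_map φ) ⟨g, ?_, rfl⟩
    rw [normalizer_eq_top_iff.2 inferInstance]; exact mem_top g
  let cact : G₁ →* MulAut Wg := Wg.normalizerMonoidHom.comp (φ.codRestrict _ hφn)
  let σ₁ : G₁ →* Module.End (ZMod 2) (Additive Wg) := (mulAutToEnd 2 Wg).comp cact
  let π : Q₁ →* Multiplicative (Additive Wg) :=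
    { toFun := fun u => Multiplicative.ofAdd (Additive.ofMul (⟨φ u, u, u.2, rfl⟩ : Wg))
      map_one' := by
        rw [show (⟨φ ((1 : Q₁) : G₁), _, (1 : Q₁).2, rfl⟩ : Wg) = 1 from Subtype.ext (map_one φ)]; rfl
      map_mul' := fun u b => by
        rw [show (⟨φ ((u * b : Q₁) : G₁), _, (u * b).2, rfl⟩ : Wg) = ⟨φ u, u, u.2, rfl⟩ * ⟨φ b, b, b.2, rfl⟩ from
          Subtype.ext (map_mul φ _ _)]
        rfl }
  have hπ : Function.Surjective π := by
    intro w
    obtain ⟨u, hu, e⟩ := (Additive.toMul (Multiplicative.toAdd w) : Wg).2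
    exact ⟨⟨u, hu⟩, Multiplicative.toAdd.injective (Additive.toMul.injective (Subtype.ext e))⟩
  have hπker : ∀ u : Q₁, π u = 1 ↔ (u : G₁) ∈ (adRep ρU).ker := fun u => by
    rw [← hφker]
    exact ⟨fun h => congrArg Subtype.val (congrArg Additive.toMul (congrArg Multiplicative.toAdd h)),
      fun h => Multiplicative.toAdd.injective (Additive.toMul.injective (Subtype.ext h))⟩
  have hσπ : ∀ (g : G₁) (u : Q₁), σ₁ g (π u).toAdd = (π (MulAut.conjNormal g u)).toAdd := fun g u => by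
    show mulAutToEnd 2 Wg (cact g) (Additive.ofMul (⟨φ u, u, u.2, rfl⟩ : Wg)) =
      Additive.ofMul (⟨φ ((MulAut.conjNormal g u : Q₁) : G₁), _, (MulAut.conjNormal g u).2, rfl⟩ : Wg)
    refine (mulAutToEnd_apply Wg (cact g) _).trans (congrArg Additive.ofMul ?_)
    refine Subtype.ext ?_
    show φ g * φ u * (φ g)⁻¹ = φ _
    rw [MulAut.conjNormal_apply, map_mul, map_mul, map_inv]
  let σ : Sf →* Module.End (ZMod 2) (Additive Wg) := σ₁.comp j
  set Ys : Set Sf := {y | (y : H) ∈ Yh} with hYs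
  haveI : CharP (Module.End K V) p := by
    haveI : Nontrivial V := ⟨⟨v₀, 0, hv₀0⟩⟩
    exact charP_of_injective_algebraMap (algebraMap K (Module.End K V)).injective p
  -- the isotypic property
  have hiso : ∀ z : Module.End (ZMod 2) (Additive Wg), z ^ p = 1 → (∀ g, Commute z (σ g)) → ∀ y ∈ Ys, ∃ i : ℕ,
      ∀ w, z (σ y w - w) = (σ y ^ i) (σ y w - w) := by
    intro z hz hzc y hy
    obtain ⟨s, hs, hsy⟩ := hy
    simp only at hsy
    have hsZ : ∀ z : Z, s⁻¹ * (z : H) * s ∈ Z := fun z => (mem_normalizer_iff''.1 (hZS hs) z).1 z.2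
    let τz : Z → Z := fun z => ⟨s⁻¹ * (z : H) * s, hsZ z⟩
    have hτi : ∀ (i : ℕ) (z : Z), ((τz^[i] z : Z) : H) = (s ^ i)⁻¹ * (z : H) * s ^ i := by
      intro i
      induction i with
      | zero => intro z; simp
      | succ i ih =>
        intro z
        rw [Function.iterate_succ_apply', show ((τz (τz^[i] z) : Z) : H) = s⁻¹ * ((τz^[i] z : Z) : H) * s from rfl, ih,
          pow_succ]
        group
    let τ : (Z → K) → (Z → K) := fun g => g ∘ τz
    have hτ : ∀ (i : ℕ) (g : Z → K), τ^[i] g = g ∘ τz^[i] := by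
      intro i
      induction i with
      | zero => intro g; rfl
      | succ i ih => intro g; rw [Function.iterate_succ_apply', ih, Function.iterate_succ]; rfl
    have hper : Function.IsPeriodicPt τ (p ^ k) f := by
      show τ^[p ^ k] f = f
      rw [hτ]
      funext z
      show f _ = f z
      congr 1
      refine Subtype.ext ?_
      rw [hτi, mul_assoc, hyZ _ (subset_closure ⟨s, hs, rfl⟩) z, ← mul_assoc, inv_mul_cancel, one_mul]
    obtain ⟨b, hbk, hbM⟩ := (Nat.dvd_prime_pow hp).1 hper.minimalPeriod_dvd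
    set M := p ^ b with hMdef
    have hMpos : 0 < M := pow_pos hp.pos _
    set n := k + 1 - b with hn
    have hMN : M * p ^ n = p ^ (k + 1) := by rw [hMdef, hn, ← pow_add]; congr 1; omega
    have hfM : ∀ z : Z, f (τz^[M] z) = f z := by
      have h1 : τ^[M] f = f := by rw [← hbM]; exact Function.isPeriodicPt_minimalPeriod τ f
      rw [hτ] at h1
      exact fun z => congrFun h1 z
    have hXU : s ^ M ∈ stabSub ρ U := fun v hv => by
      rw [hU] at hv ⊢
      intro z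
      have h1 : (z : H) * s ^ M = s ^ M * (τz^[M] z : Z) := by rw [hτi]; group
      rw [← Module.End.mul_apply, ← map_mul, h1, map_mul, Module.End.mul_apply, hv, map_smul, hfM]
    let X' : Sf := ⟨s ^ M, pow_mem hs _, hXU⟩
    let X : G₁ := j X'
    have hXN : X' ^ p ^ n = 1 := Subtype.ext (by
      rw [Subgroup.coe_pow, Subgroup.coe_one]
      show (s ^ M) ^ p ^ n = 1
      rw [← pow_mul, hMN, hexp s hs])
    have hXy : X' ^ p ^ (n - 1) = y := Subtype.ext (by
      rw [Subgroup.coe_pow]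
      show (s ^ M) ^ p ^ (n - 1) = (y : H)
      rw [← pow_mul, hMdef, ← pow_add, show b + (n - 1) = k by omega]
      exact hsy)
    have hinj : Set.InjOn (fun i => f ∘ τz^[i]) (Set.Iio M) := by
      have h1 := Function.iterate_injOn_Iio_minimalPeriod (f := τ) (x := f)
      rw [hbM] at h1
      simpa only [hτ] using h1
    have hxM : (ρ s - 1) ^ M = ρ (s ^ M) - 1 := by
      rw [hMdef, sub_pow_expChar_pow_of_commute (p := p) _ (Commute.one_right _), one_pow, ← map_pow]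
    have hrest : ∀ (t : ℕ) (v : U), ((((ρU X - 1) ^ t) v : U) : V) = ((ρ (s ^ M) - 1) ^ t) (v : V) := by
      intro t
      induction t with
      | zero => intro v; simp
      | succ t ih =>
        intro v
        rw [pow_succ', Module.End.mul_apply, pow_succ', Module.End.mul_apply, ← ih]
        rfl
    have hdegX : (ρU X - 1) ^ (p ^ n - 1) = 0 := by
      refine LinearMap.ext fun v => Subtype.ext ?_
      by_contra hne
      have hN : 1 ≤ p ^ n := Nat.one_le_pow _ _ hp.pos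
      refine pow_sub_one_apply_ne_zero_of_orbit (ρ.comp Z.subtype) (ρ s) ((Group.isUnit s).map ρ) τz
        (fun z => ?_) _ f (fun z => (hU _).1 (((ρU X - 1) ^ (p ^ n - 1)) v).2 z) hne M hinj hMpos ?_
      · show ρ s * ρ (s⁻¹ * (z : H) * s) = ρ (z : H) * ρ s
        rw [← map_mul, ← map_mul]; congr 1; group
      · rw [hrest, ← hxM, ← Module.End.mul_apply, ← pow_mul, ← pow_add,
          show M - 1 + M * (p ^ n - 1) = p ^ (k + 1) - 1 by
            rw [Nat.mul_sub, mul_one, hMN]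
            have : M ≤ p ^ (k + 1) := hMN ▸ Nat.le_mul_of_pos_right M hN
            omega,
          hdeg s hs, LinearMap.zero_apply]
    obtain ⟨i, hi⟩ := isotypic_of_deg (p := p) (n := n) hp2 ρU Q₁ hQ₁p hcommQ π hπ hπker X (σ X') (fun u => hσπ X u)
      (by omega) (by rw [← map_pow, hXN, map_one]) hdegX (by rw [← map_pow, hXN, map_one]) z hz (hzc X')
    refine ⟨i, fun w => ?_⟩
    have h1 := hi w
    rwa [← map_pow σ X', hXy] at h1
  have hcomm := commute_of_isotypic hp2 (hS.to_le (inf_le_left : Sf ≤ S)) Ys _ (Additive Wg) σ le_rfl (fun y hy => by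
    obtain ⟨s, hs, hsy⟩ := hy
    rw [← map_pow, show y ^ p = 1 from Subtype.ext (by
      rw [Subgroup.coe_pow, ← hsy, Subgroup.coe_one, ← pow_mul, ← pow_succ, hexp s hs]), map_one]) hiso
  -- commutators act trivially on the support
  obtain ⟨c', hc', rfl⟩ : ∃ c' ∈ ⁅closure Ys, closure Ys⁆, ((c' : Sf) : H) = c := by
    have hmap : (closure Ys).map Sf.subtype = A := by
      rw [MonoidHom.map_closure]
      congr 1
      ext y
      exact ⟨fun ⟨y', hy', e⟩ => e ▸ hy', fun hy => ⟨⟨y, hASf (subset_closure hy)⟩, hy, rfl⟩⟩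
    rw [hD, ← hmap, ← map_commutator] at hcD
    exact hcD
  have hσu : ⁅closure Ys, closure Ys⁆ ≤ σ.toHomUnits.ker := by
    rw [commutator_le]
    intro g hg h hh
    haveI := isMulCommutative_closure (k := σ.toHomUnits '' Ys) fun _ hx _ hy => by
      obtain ⟨x', hx', rfl⟩ := hx
      obtain ⟨y', hy', rfl⟩ := hy
      exact Units.ext (hcomm x' hx' y' hy')
    have hg' : σ.toHomUnits g ∈ closure (σ.toHomUnits '' Ys) := by rw [← MonoidHom.map_closure]; exact ⟨g, hg, rfl⟩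
    have hh' : σ.toHomUnits h ∈ closure (σ.toHomUnits '' Ys) := by rw [← MonoidHom.map_closure]; exact ⟨h, hh, rfl⟩
    have h1 := congrArg Subtype.val (mul_comm' (⟨_, hg'⟩ : closure (σ.toHomUnits '' Ys)) ⟨_, hh'⟩)
    simp only [Subgroup.coe_mul] at h1
    rw [MonoidHom.mem_ker, map_commutatorElement, commutatorElement_eq_one_iff_mul_comm, h1]
  have hc1 : σ c' = 1 := congrArg Units.val (MonoidHom.mem_ker.1 (hσu hc'))
  have haG : a ∈ G₁ := (le_sup_left : Q ≤ G₁) haQ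
  set a₁ : G₁ := ⟨a, haG⟩
  set c₁ : G₁ := j c'
  have ha₁ : a₁ ∈ Q₁ := (hmQ₁ _).2 haQ
  obtain ⟨r, hr⟩ := (mem_ker_adRep_iff ρU _).1 (show c₁ * a₁ * c₁⁻¹ * a₁⁻¹ ∈ (adRep ρU).ker by
    refine (hφker _).1 ?_
    have h1 := hσπ c₁ ⟨a₁, ha₁⟩
    rw [show σ₁ c₁ = 1 from hc1, Module.End.one_apply] at h1
    have h2 : φ a₁ = φ (MulAut.conjNormal c₁ (⟨a₁, ha₁⟩ : Q₁) : G₁) :=
      congrArg Subtype.val (congrArg Additive.toMul h1)
    rw [MulAut.conjNormal_apply] at h2
    rw [map_mul, map_inv, ← h2, mul_inv_cancel])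
  have hconj : ∀ l : ℕ, ρU (c₁ ^ l * a₁ * (c₁ ^ l)⁻¹) = r ^ l • ρU a₁ := by
    have h1 : ρU (c₁ * a₁ * c₁⁻¹) = r • ρU a₁ := by
      rw [show c₁ * a₁ * c₁⁻¹ = (c₁ * a₁ * c₁⁻¹ * a₁⁻¹) * a₁ by group, map_mul, hr, smul_mul_assoc, one_mul]
    intro l
    induction l with
    | zero => simp
    | succ l ih =>
      rw [show c₁ ^ (l + 1) * a₁ * (c₁ ^ (l + 1))⁻¹ = c₁ * (c₁ ^ l * a₁ * (c₁ ^ l)⁻¹) * c₁⁻¹ by rw [pow_succ']; group,
        map_mul, map_mul, ih, mul_smul_comm, smul_mul_assoc, ← map_mul, ← map_mul, h1, smul_smul, pow_succ]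
  have ha0 : ρU a₁ ≠ 0 := fun h => by
    have h4 := map_mul ρU a₁ a₁⁻¹
    rw [mul_inv_cancel, map_one, h, zero_mul] at h4
    exact one_ne_zero h4
  have hr1 : r = 1 := by
    have hc2 : c₁ ^ p ^ (k + 1) = 1 := Subtype.ext (by
      rw [Subgroup.coe_pow, Subgroup.coe_one]
      exact hexp _ c'.2.1)
    have h4 := hconj (p ^ (k + 1))
    rw [hc2, one_mul, inv_one, mul_one] at h4
    have h5 : r ^ p ^ (k + 1) = 1 := smul_left_injective K ha0 (h4.symm.trans (one_smul K _).symm)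
    exact iterateFrobenius_inj K p (k + 1) (by simp [iterateFrobenius_def, h5])
  refine hmv ?_
  have h6 := hconj 1
  rw [pow_one, hr1, one_pow, one_smul] at h6
  exact congrArg Subtype.val (LinearMap.congr_fun h6 ⟨v₀, hv₀U⟩)

/-- The `p ^ k`-th powers in a `p`-subgroup commute. -/
theorem agemo_commute {H : Type w} [Group H] [Finite H] {p k : ℕ} [Fact p.Prime] [CharP K p] (hp2 : p ≠ 2)
    (hsol : Cfsg.IsPSolvable p H) (hO : Cfsg.pCore p H = ⊥) (ρ : H →* Module.End K V) (hρ : Function.Injective ρ)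
    (S : Subgroup H) (hS : IsPGroup p S)
    (hexp : ∀ s ∈ S, s ^ p ^ (k + 1) = 1) (hdeg : ∀ s ∈ S, (ρ s - 1) ^ (p ^ (k + 1) - 1) = 0)
    (s₁ s₂ : H) (hs₁ : s₁ ∈ S) (hs₂ : s₂ ∈ S) : Commute (s₁ ^ p ^ k) (s₂ ^ p ^ k) := by
  classical
  have hp : p.Prime := Fact.out
  set R := Cfsg.pPrimeCore p H
  have hRcop := Cfsg.Lib.Components.coprime_card_pPrimeCore (G := H) p
  haveI : R.Normal := Cfsg.Lib.Components.pPrimeCore_normal' p
  set A := closure ((fun s : H => s ^ p ^ k) '' S) with hA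
  have hAS : A ≤ S := (closure_le S).2 (by rintro _ ⟨s, hs, rfl⟩; exact pow_mem hs _)
  have hSR : S ≤ normalizer (R : Set H) := by rw [normalizer_eq_top_iff.2 inferInstance]; exact le_top
  have hcopS : (Nat.card S).Coprime (Nat.card R) := by
    obtain ⟨i, hi⟩ := IsPGroup.iff_card.1 hS
    rw [hi]
    exact hRcop.symm.pow_left _
  set c := ⁅s₁ ^ p ^ k, s₂ ^ p ^ k⁆ with hc
  suffices hcc : c ∈ centralizer (R : Set H) by
    have hcR : c ∈ R := Cfsg.Agent.S4748.centralizer_pPrimeCore_le p hsol hO hcc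
    have hcS : c ∈ S := by
      rw [hc, commutatorElement_def]
      exact mul_mem (mul_mem (mul_mem (pow_mem hs₁ _) (pow_mem hs₂ _)) (inv_mem (pow_mem hs₁ _))) (inv_mem (pow_mem hs₂ _))
    exact commutatorElement_eq_one_iff_mul_comm.1 (Cfsg.Lib.Coprime.eq_one_of_coprime hcopS hcS hcR)
  have hcD : c ∈ ⁅A, A⁆ :=
    commutator_mem_commutator (subset_closure ⟨s₁, hs₁, rfl⟩) (subset_closure ⟨s₂, hs₂, rfl⟩)
  refine mem_centralizer_iff.2 fun r hr => ?_
  set C := (centralizer ({c} : Set H)).subgroupOf R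
  suffices hC : C = ⊤ by
    have h1 : (⟨r, hr⟩ : R) ∈ C := hC ▸ mem_top _
    exact mem_centralizer_singleton_iff.1 h1
  rw [← index_eq_one, Nat.eq_one_iff_not_exists_prime_dvd]
  intro q hq hdvd
  haveI := Fact.mk hq
  haveI : Group.IsNilpotent S := hS.isNilpotent
  obtain ⟨T, hT⟩ := Cfsg.Lib.Coprime.exists_invariant_sylow hSR hcopS (Or.inl inferInstance) q
  refine T.not_dvd_index (hdvd.trans (index_dvd_of_le fun t ht => ?_))
  set T₀ := (T : Subgroup R).map R.subtype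
  have hT₀ : IsPGroup q T₀ := T.2.map _
  have htT : (t : H) ∈ T₀ := mem_map_of_mem _ ht
  refine mem_centralizer_singleton_iff.2 ?_
  by_cases hq2 : q = 2
  · subst hq2
    exact mem_centralizer_iff.1 (agemo_two hp2 ρ hρ S hS hexp hdeg T₀ hT₀ hT hcD) _ htT
  by_cases hqp : q = p
  · subst hqp
    obtain ⟨i, hi⟩ := IsPGroup.iff_card.1 hT₀
    rcases Nat.eq_zero_or_pos i with rfl | hpos
    · rw [pow_zero] at hi
      rw [eq_bot_of_card_eq T₀ hi, mem_bot] at htT
      show (t : H) * c = c * (t : H)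
      rw [htT, one_mul, mul_one]
    · exact absurd (Nat.eq_one_of_dvd_coprimes hRcop
        ((dvd_pow_self q hpos.ne').trans (hi ▸ card_dvd_of_le (map_subtype_le _))) dvd_rfl) hq.ne_one
  have hle : A ≤ centralizer (T₀ : Set H) := by
    refine (closure_le _).2 ?_
    rintro _ ⟨s, hs, rfl⟩
    exact mem_centralizer_iff.2 (pow_centralizes_odd hp2 hq2 hqp ρ hρ s (hexp s hs) (hdeg s hs) T₀ hT₀ (hT hs))
  exact mem_centralizer_iff.1 ((commutator_le_self A).trans hle hcD) _ htT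

/-- The same over the prime field. -/
theorem agemo_commute_zmod {H : Type w} [Group H] [Finite H] {p k : ℕ} [Fact p.Prime] (hp2 : p ≠ 2)
    (hsol : Cfsg.IsPSolvable p H) (hO : Cfsg.pCore p H = ⊥) {W : Type v} [AddCommGroup W] [Module (ZMod p) W]
    [Finite W] (ρ : H →* Module.End (ZMod p) W) (hρ : Function.Injective ρ) (S : Subgroup H) (hS : IsPGroup p S)
    (hexp : ∀ s ∈ S, s ^ p ^ (k + 1) = 1) (hdeg : ∀ s ∈ S, (ρ s - 1) ^ (p ^ (k + 1) - 1) = 0)
    (s₁ s₂ : H) (hs₁ : s₁ ∈ S) (hs₂ : s₂ ∈ S) : Commute (s₁ ^ p ^ k) (s₂ ^ p ^ k) := by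
  classical
  let b := Module.finBasis (ZMod p) W
  let ι := AlgebraicClosure (ZMod p)
  let Φ : Module.End (ZMod p) W →+* Module.End ι (Fin (finrank (ZMod p) W) → ι) :=
    ((Matrix.toLinAlgEquiv' : Matrix _ _ ι ≃ₐ[ι] _).toRingEquiv.toRingHom.comp
      (algebraMap (ZMod p) ι).mapMatrix).comp (LinearMap.toMatrixAlgEquiv b).toRingEquiv.toRingHom
  have hΦ : Function.Injective Φ := by
    intro f g e
    exact (LinearMap.toMatrixAlgEquiv b).injective
      (Matrix.map_injective (algebraMap (ZMod p) ι).injective (Matrix.toLinAlgEquiv'.injective e))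
  haveI : CharP ι p := charP_of_injective_algebraMap (algebraMap (ZMod p) ι).injective p
  exact agemo_commute (K := ι) hp2 hsol hO (Φ.toMonoidHom.comp ρ) (hΦ.comp hρ) S hS hexp
    (fun s hs => by show (Φ (ρ s) - 1) ^ _ = 0; rw [← map_one Φ, ← map_sub, ← map_pow, hdeg s hs, map_zero])
    s₁ s₂ hs₁ hs₂

theorem mul_pow_map {Γ : Type*} [Group Γ] {M : Type*} [AddCommGroup M] {R : Type*} [Semiring R] [Module R M]
    (ι : Multiplicative M →* Γ) (g : Γ) (θ : Module.End R M)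
    (h : ∀ v, ι (Multiplicative.ofAdd (θ v)) = g * ι (Multiplicative.ofAdd v) * g⁻¹) (v : M) :
    ∀ i : ℕ, (ι (Multiplicative.ofAdd v) * g) ^ i =
      ι (Multiplicative.ofAdd ((∑ l ∈ Finset.range i, θ ^ l) v)) * g ^ i := by
  intro i
  induction i with
  | zero =>
    rw [Finset.range_zero, Finset.sum_empty, LinearMap.zero_apply, ofAdd_zero, map_one, pow_zero, pow_zero, one_mul]
  | succ i ih =>
    have h1 : ∀ (l : ℕ) (v : M), ι (Multiplicative.ofAdd ((θ ^ l) v)) = g ^ l * ι (Multiplicative.ofAdd v) * (g ^ l)⁻¹ := by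
      intro l
      induction l with
      | zero => intro v; simp
      | succ l ihl => intro v; rw [pow_succ', Module.End.mul_apply, h, ihl, pow_succ']; group
    rw [pow_succ, ih, Finset.sum_range_succ, LinearMap.add_apply, ofAdd_add, map_mul, h1, pow_succ]
    group

/-- Commuting `p ^ k`-th powers lower the exponent modulo `O_p`. -/
theorem exp_drop_two {G : Type w} [Group G] [Finite G] {p k : ℕ} [Fact p.Prime] (hp2 : p ≠ 2)
    (hsol : Cfsg.IsPSolvable p G) (hO : Cfsg.pPrimeCore p G = ⊥)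
    (hexp : ∀ (P : Sylow p G), ∀ x ∈ (P : Subgroup G), x ^ p ^ (k + 1) = 1)
    (hcomm : ∀ (P : Sylow p G), ∀ x ∈ (P : Subgroup G), ∀ y ∈ (P : Subgroup G), Commute (x ^ p ^ k) (y ^ p ^ k))
    (P : Sylow p G) (x : G) (hx : x ∈ (P : Subgroup G)) : x ^ p ^ k ∈ Cfsg.pCore p G := by
  classical
  have hp : p.Prime := Fact.out
  obtain ⟨Γ, iG, iF, π, C, W, iA, iM, iW, ι, ρ, hπ, hι, hrange, hιn, hinf, hsup, hker, hρ, hρc, hsolC, hOC⟩ :=
    exists_split_module hsol hO
  haveI := hιn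
  have hmem : π x ∈ ι.range ⊔ C := hsup ▸ mem_top _
  obtain ⟨w, hw, κ, hκ, hxw⟩ := mem_sup_of_normal_left.1 hmem
  suffices hκ1 : κ ^ p ^ k = 1 by
    have hpow : π (x ^ p ^ k) ∈ ι.range := by
      rw [← QuotientGroup.eq_one_iff, map_pow, QuotientGroup.mk_pow, ← hxw, QuotientGroup.mk_mul,
        (QuotientGroup.eq_one_iff w).2 hw, one_mul, ← QuotientGroup.mk_pow, hκ1, QuotientGroup.mk_one]
    rw [hrange] at hpow
    obtain ⟨o, ho, hoe⟩ := hpow
    have h1 : o⁻¹ * x ^ p ^ k ∈ Cfsg.pCore p G :=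
      hker (by rw [MonoidHom.mem_ker, map_mul, map_inv, hoe, inv_mul_cancel])
    have h2 := mul_mem ho h1
    rwa [mul_inv_cancel_left] at h2
  set P' := (P : Subgroup G).map π with hP'
  have hOP : ι.range ≤ P' := by rw [hrange]; exact map_mono (Cfsg.Lib.Coprime.pCore_le_sylow p P)
  have hexp' : ∀ g ∈ P', g ^ p ^ (k + 1) = 1 := by
    rintro _ ⟨g, hg, rfl⟩; rw [← map_pow, hexp P g hg, map_one]
  have hcomm' : ∀ g ∈ P', ∀ h ∈ P', Commute (g ^ p ^ k) (h ^ p ^ k) := by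
    rintro _ ⟨g, hg, rfl⟩ _ ⟨h, hh, rfl⟩; rw [← map_pow, ← map_pow]; exact (hcomm P g hg h hh).map π
  have hκP : κ ∈ P' := by
    have h1 : w⁻¹ * (w * κ) ∈ P' := mul_mem (inv_mem (hOP hw)) (hxw ▸ mem_map_of_mem π hx)
    rwa [inv_mul_cancel_left] at h1
  by_contra hne
  set κ' : C := ⟨κ, hκ⟩
  haveI : Nontrivial W := by
    by_contra hW
    rw [not_nontrivial_iff_subsingleton] at hW
    haveI := hW
    have h1 : κ' = 1 := hρ (LinearMap.ext fun v => Subsingleton.elim _ _)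
    exact hne (by rw [show κ = 1 from congrArg Subtype.val h1, one_pow])
  have hκo : orderOf κ' = p ^ (k + 1) := orderOf_eq_prime_pow
    (fun h => hne (by have := congrArg Subtype.val h; simpa using this))
    (Subtype.ext (by rw [Subgroup.coe_pow]; exact hexp' κ hκP))
  haveI : CharP (Module.End (ZMod p) W) p :=
    charP_of_injective_algebraMap (algebraMap (ZMod p) (Module.End (ZMod p) W)).injective p
  haveI : ExpChar (Module.End (ZMod p) W) p := ExpChar.prime hp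
  set N := p ^ k with hN
  have hNpos : 0 < N := pow_pos hp.pos _
  have hnorm : (ρ κ' - 1) ^ (2 * N - 1) = 0 := by
    have hsum : (ρ κ' - 1) ^ (N - 1) = ∑ l ∈ Finset.range N, ρ κ' ^ l := by
      have h1 := congrArg (Polynomial.aeval (ρ κ')) (geom_sum_eq_pow (p := p) k)
      simp only [map_pow, map_sub, Polynomial.aeval_X, map_one, map_sum] at h1
      exact h1
    have hN1 : (ρ κ' - 1) ^ N = ρ κ' ^ N - 1 := by
      rw [hN, sub_pow_expChar_pow_of_commute (p := p) _ (Commute.one_right _), one_pow]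
    rw [show 2 * N - 1 = N + (N - 1) by omega, pow_add, hsum, hN1]
    refine LinearMap.ext fun v => ?_
    rw [Module.End.mul_apply, LinearMap.sub_apply, Module.End.one_apply, LinearMap.zero_apply, sub_eq_zero, ← map_pow ρ]
    apply Multiplicative.ofAdd.injective
    apply hι
    rw [hρc, Subgroup.coe_pow]
    set t := ι (Multiplicative.ofAdd ((∑ l ∈ Finset.range N, ρ κ' ^ l) v))
    have h2 := hcomm' _ (mul_mem (hOP ⟨Multiplicative.ofAdd v, rfl⟩) hκP) κ hκP
    rw [mul_pow_map ι κ (ρ κ') (fun u => hρc κ' u) v N] at h2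
    have h3 : t * κ ^ N * κ ^ N = κ ^ N * (t * κ ^ N) := h2
    rw [← mul_assoc] at h3
    have h4 := mul_right_cancel h3
    show κ ^ N * t * (κ ^ N)⁻¹ = t
    rw [← h4, mul_inv_cancel_right]
  rcases theorem_B_field (F := ZMod p) hsolC hOC ρ hρ κ' (k + 1) hκo _ hnorm with h | ⟨n₀, q, m, h1, h2, -, -, -, -, h7⟩
  · have hp3 : 3 ≤ p := by have := hp.two_le; omega
    have : 3 * N ≤ p ^ (k + 1) := by rw [pow_succ', ← hN]; exact Nat.mul_le_mul_right _ hp3
    omega
  · have hp3 : 3 ≤ p := by have := hp.two_le; omega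
    rw [Nat.mul_sub, mul_one, ← pow_add, show k + 1 - n₀ + n₀ = k + 1 by omega] at h7
    have hle : p ^ (k + 1 - n₀) ≤ N := Nat.pow_le_pow_right hp.pos (by omega)
    have : 3 * N ≤ p ^ (k + 1) := by rw [pow_succ', ← hN]; exact Nat.mul_le_mul_right _ hp3
    omega

end Cfsg.Lib.HallHigman
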