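import Mathlib
import Cfsg.Prelude
import Cfsg.Agent.HallHigman.AgemoCommute

/-!
The derived length drops in the step of the Hall–Higman theorem for an odd prime.
-/

set_option linter.style.haveILetI false
set_option linter.unusedSectionVars false

namespace Cfsg.Lib.HallHigman

open Module Subgroup
open scoped commutatorElement IsMulCommutative

universe u v w

/-- The derived series of a subgroup, inside the group. -/
def derSub {G : Type*} [Group G] (S : Subgroup G) : ℕ → Subgroup G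
  | 0 => S
  | j + 1 => ⁅derSub S j, derSub S j⁆

theorem derSub_eq_map {G : Type*} [Group G] (S : Subgroup G) (j : ℕ) :
    derSub S j = (derivedSeries S j).map S.subtype := by
  induction j with
  | zero => rw [derSub, derivedSeries_zero, ← MonoidHom.range_eq_map, range_subtype]
  | succ j ih => rw [derSub, derivedSeries_succ, map_commutator, ih]

theorem derSub_map {G H : Type*} [Group G] [Group H] (f : G →* H) (S : Subgroup G) (j : ℕ) :
    (derSub S j).map f = derSub (S.map f) j := by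
  induction j with
  | zero => rfl
  | succ j ih => rw [derSub, derSub, map_commutator, ih]

theorem derSub_mono {G : Type*} [Group G] {S T : Subgroup G} (h : S ≤ T) (j : ℕ) : derSub S j ≤ derSub T j := by
  induction j with
  | zero => exact h
  | succ j ih => exact commutator_mono ih ih

theorem derSub_antitone {G : Type*} [Group G] (S : Subgroup G) : Antitone (derSub S) :=
  antitone_nat_of_succ_le fun j => commutator_le_self (derSub S j)

theorem derSub_le_normalizer {G : Type*} [Group G] [Finite G] (S : Subgroup G) (j : ℕ) :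
    S ≤ normalizer (derSub S j : Set G) := by
  induction j with
  | zero => exact le_normalizer
  | succ j ih => exact le_normalizer_commutator ih ih

/-- Endomorphisms commuting with an irreducible one commute. -/
theorem commutant_comm {F : Type u} [Field F] {M : Type v} [AddCommGroup M] [Module F M]
    (T : Module.End F M) (hirr : ∀ S : Submodule F M, (∀ v ∈ S, T v ∈ S) → S = ⊥ ∨ S = ⊤)
    (f g : Module.End F M) (hf : f * T = T * f) (hg : g * T = T * g) : f * g = g * f := by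
  set L := Algebra.adjoin F ({T} : Set (Module.End F M)) with hL
  have hcommT : ∀ a ∈ L, ∀ b : Module.End F M, b * T = T * b → b * a = a * b := by
    intro a ha b hb
    induction ha using Algebra.adjoin_induction with
    | mem x hx => rw [Set.mem_singleton_iff.1 hx]; exact hb
    | algebraMap r => exact (Algebra.commutes r b).symm
    | add x y _ _ hx hy => rw [mul_add, add_mul, hx, hy]
    | mul x y _ _ hx hy => rw [← mul_assoc, hx, mul_assoc, hy, mul_assoc]
  rcases subsingleton_or_nontrivial M with h | h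
  · exact LinearMap.ext fun v => Subsingleton.elim _ _
  obtain ⟨v₀, hv₀⟩ := exists_ne (0 : M)
  have htop : (Subalgebra.toSubmodule L).map (LinearMap.applyₗ v₀ : Module.End F M →ₗ[F] M) = ⊤ := by
    refine (hirr _ ?_).resolve_left fun h1 => hv₀ ((Submodule.eq_bot_iff _).1 h1 v₀ ⟨1, L.one_mem, rfl⟩)
    rintro _ ⟨a, ha, rfl⟩
    exact ⟨T * a, L.mul_mem (Algebra.self_mem_adjoin_singleton F T) ha, rfl⟩
  obtain ⟨a, ha, hav⟩ := htop.ge (Submodule.mem_top (x := f v₀))
  obtain ⟨b, hb, hbv⟩ := htop.ge (Submodule.mem_top (x := g v₀))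
  simp only [LinearMap.applyₗ_apply_apply] at hav hbv
  refine LinearMap.ext fun v => ?_
  obtain ⟨c, hc, rfl⟩ := htop.ge (Submodule.mem_top (x := v))
  simp only [LinearMap.applyₗ_apply_apply, Module.End.mul_apply]
  have hfc : ∀ w, f (c w) = c (f w) := fun w => LinearMap.congr_fun (hcommT c hc f hf) w
  have hgc : ∀ w, g (c w) = c (g w) := fun w => LinearMap.congr_fun (hcommT c hc g hg) w
  rw [hgc, hfc, hfc, hgc]
  refine congrArg c ?_
  rw [← hbv, ← hav]
  have h1 : f (b v₀) = b (f v₀) := LinearMap.congr_fun (hcommT b hb f hf) v₀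
  have h2 : g (a v₀) = a (g v₀) := LinearMap.congr_fun (hcommT a ha g hg) v₀
  rw [h1, h2, ← hav, ← hbv, ← Module.End.mul_apply, ← Module.End.mul_apply,
    hcommT a ha b (((hcommT b hb T rfl)).symm)]

variable {K : Type u} [Field K] [IsAlgClosed K] {V : Type v} [AddCommGroup V] [Module K V] [FiniteDimensional K V]

/-- The products `(b_{j-1} - 1) ⋯ (b_0 - 1)` with `b_i` in the `i`-th derived subgroup. -/
def IsChain {H : Type w} [Group H] {R : Type*} [Ring R] (ρ : H →* R) (S : Subgroup H) : ℕ → R → Prop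
  | 0, o => o = 1
  | j + 1, o => ∃ b ∈ derSub S j, ∃ o', IsChain ρ S j o' ∧ o = (ρ b - 1) * o'

theorem derived_two {H : Type w} [Group H] [Finite H] {p : ℕ} [Fact p.Prime] [CharP K p] (hp2 : p ≠ 2)
    (ρ : H →* Module.End K V) (hρ : Function.Injective ρ) (S : Subgroup H) (hS : IsPGroup p S) (e : ℕ)
    (hpow : ∀ a ∈ derSub S (e + 1), a ^ p = 1)
    (hab : ∀ a ∈ derSub S (e + 1), ∀ a' ∈ derSub S (e + 1), a * a' = a' * a)
    (hquad : ∀ a ∈ derSub S (e + 1), (ρ a - 1) ^ (p - 1) = 0)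
    (hchain : ∀ o, IsChain ρ S (e + 1) o → ∀ a ∈ derSub S (e + 1), (ρ a - 1) * o = 0)
    (T : Subgroup H) (hT : IsPGroup 2 T) (hTS : S ≤ normalizer (T : Set H)) :
    derSub S (e + 1) ≤ centralizer (T : Set H) := by
  classical
  haveI : Fact (Nat.Prime 2) := ⟨Nat.prime_two⟩
  haveI : Fact (p.Prime) := inferInstance
  have hp : p.Prime := Fact.out
  set A := derSub S (e + 1) with hA
  have hAS : A ≤ S := derSub_antitone S (Nat.zero_le _)
  have hAn : S ≤ normalizer (A : Set H) := derSub_le_normalizer S _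
  suffices ∀ Q : Subgroup H, Q ≤ T → S ≤ normalizer (Q : Set H) → A ≤ centralizer (Q : Set H) from this T le_rfl hTS
  intro Q
  induction Q using WellFoundedLT.induction with
  | ind Q ih =>
  intro hQT hQS
  have hQ : IsPGroup 2 Q := hT.to_le hQT
  have hcop : (Nat.card A).Coprime (Nat.card Q) := by
    obtain ⟨i, hi⟩ := IsPGroup.iff_card.1 (hS.to_le hAS)
    obtain ⟨j, hj⟩ := IsPGroup.iff_card.1 hQ
    rw [hi, hj]
    exact Nat.Coprime.pow i j ((Nat.coprime_primes hp Nat.prime_two).2 hp2)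
  haveI : Group.IsNilpotent Q := hQ.isNilpotent
  have hsolQ : Group.IsSolvable Q := inferInstance
  have hAQ : A ≤ normalizer (Q : Set H) := hAS.trans hQS
  have hprop : ∀ M, M ≤ Q → M ≠ Q → S ≤ normalizer (M : Set H) → A ≤ centralizer (M : Set H) :=
    fun M h1 h2 h3 => ih M (lt_of_le_of_ne h1 h2) (h1.trans hQT) h3
  by_cases hfull : ⁅Q, A⁆ = Q
  swap
  · have h1 := hprop _ (Cfsg.Lib.Coprime.commutator_le_of_le_normalizer hAQ) hfull (le_normalizer_commutator hQS hAn)
    have h2 : ⁅(⁅Q, A⁆ : Subgroup H), A⁆ = ⊥ := commutator_eq_bot_iff_le_centralizer.2 (le_centralizer_iff.1 h1)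
    rw [Cfsg.Lib.Coprime.commutator_commutator_eq hAQ hcop (Or.inr hsolQ)] at h2
    exact le_centralizer_iff.1 (commutator_eq_bot_iff_le_centralizer.1 h2)
  rcases eq_or_ne Q ⊥ with rfl | hQne
  · intro d _
    rw [mem_centralizer_iff]
    intro z hz
    rw [SetLike.mem_coe, mem_bot] at hz
    rw [hz, one_mul, mul_one]
  haveI : Nontrivial Q := nontrivial_iff_ne_bot _ |>.2 hQne
  set Φ := (frattini Q).map Q.subtype with hΦ
  have hΦQ : Φ ≤ Q := map_subtype_le _
  have hΦne : Φ ≠ Q := by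
    intro h
    have h1 : frattini Q = ⊤ := map_injective Q.subtype_injective (by rw [← MonoidHom.range_eq_map, range_subtype]; exact h)
    obtain ⟨M, hM, -⟩ := (eq_top_or_exists_le_coatom (⊥ : Subgroup Q)).resolve_left bot_ne_top
    exact hM.1 (top_le_iff.1 (h1 ▸ frattini_le_coatom hM))
  have hΦS : S ≤ normalizer (Φ : Set H) := le_normalizer_map_frattini hQS
  have hΦA : A ≤ centralizer (Φ : Set H) := hprop Φ hΦQ hΦne hΦS
  have hΦcen : ∀ a ∈ Φ, ∀ b ∈ Q, a * b = b * a := by
    have h1 : ⁅(⁅A, Φ⁆ : Subgroup H), Q⁆ = ⊥ := by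
      rw [commutator_eq_bot_iff_le_centralizer.2 hΦA, commutator_bot_left]
    have h2 : ⁅(⁅Φ, Q⁆ : Subgroup H), A⁆ = ⊥ := by
      rw [commutator_eq_bot_iff_le_centralizer]
      have hle : ⁅Φ, Q⁆ ≤ Φ := by
        rw [commutator_le]
        intro a ha b hb
        obtain ⟨a', ha', rfl⟩ := ha
        have h := mul_mem ha' ((inferInstance : (frattini Q).Normal).conj_mem _ (inv_mem ha') ⟨b, hb⟩)
        refine ⟨_, h, ?_⟩
        simp [commutatorElement_def, mul_assoc]
      exact hle.trans (le_centralizer_iff.1 hΦA)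
    have h3 : ⁅(⁅Q, A⁆ : Subgroup H), Φ⁆ = ⊥ := commutator_commutator_eq_bot_of_rotate h1 h2
    rw [hfull, commutator_eq_bot_iff_le_centralizer] at h3
    exact fun a ha b hb => mem_centralizer_iff.1 (h3 hb) a ha
  set Z := Q ⊓ centralizer (Q : Set H) with hZdef
  have hmemZ : ∀ a, a ∈ Z ↔ a ∈ Q ∧ ∀ b ∈ Q, a * b = b * a := fun a =>
    ⟨fun h => ⟨h.1, fun b hb => (mem_centralizer_iff.1 h.2 b hb).symm⟩,
      fun h => ⟨h.1, mem_centralizer_iff.2 fun b hb => (h.2 b hb).symm⟩⟩
  have hΦZ : ∀ a ∈ Φ, a ∈ Z := fun a ha => (hmemZ a).2 ⟨hΦQ ha, hΦcen a ha⟩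
  have hZcomm : ∀ a b : Z, a * b = b * a := fun a b => Subtype.ext (((hmemZ a).1 a.2).2 b b.2.1)
  have hZS : S ≤ normalizer (Z : Set H) := by
    intro g hg
    refine mem_normalizer_of_conj_le fun z hz => (hmemZ _).2 ⟨(mem_normalizer_iff.1 (hQS hg) z).1 hz.1, fun b hb => ?_⟩
    have hb' : g⁻¹ * b * g ∈ Q := (mem_normalizer_iff''.1 (hQS hg) b).1 hb
    calc g * z * g⁻¹ * b = g * (z * (g⁻¹ * b * g)) * g⁻¹ := by group
      _ = g * ((g⁻¹ * b * g) * z) * g⁻¹ := by rw [((hmemZ z).1 hz).2 _ hb']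
      _ = b * (g * z * g⁻¹) := by group
  have hyZ : ∀ y ∈ A, ∀ z : Z, (z : H) * y = y * z := by
    intro y hy z
    have h1 := pow_centralizes_abelian (p := p) (k := 0) (Ne.symm hp2) ρ hρ y
      (by rw [zero_add, pow_one]; exact hpow y hy) (by rw [zero_add, pow_one]; exact hquad y hy) Z
      (hQ.to_le inf_le_left) (hZS (hAS hy)) (fun a ha b hb => ((hmemZ a).1 ha).2 b hb.1) z z.2
    simpa using h1
  have hZK : ((Nat.card Z : ℕ) : K) ≠ 0 := by
    obtain ⟨m, hm⟩ := IsPGroup.iff_card.1 (hQ.to_le (inf_le_left : Z ≤ Q))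
    rw [hm, Nat.cast_pow]
    refine pow_ne_zero _ fun h => hp2 ?_
    exact ((Nat.prime_dvd_prime_iff_eq hp Nat.prime_two).1 ((CharP.cast_eq_zero_iff K p 2).1 h))
  by_contra hcon
  obtain ⟨c, hcA, a, haQ, hca⟩ : ∃ c ∈ A, ∃ a ∈ Q, c * a * c⁻¹ ≠ a := by
    by_contra hh
    push Not at hh
    exact hcon fun c hc => mem_centralizer_iff.2 fun a ha => (mul_inv_eq_iff_eq_mul.1 (hh c hc a ha)).symm
  obtain ⟨v₀, hv₀, hmv⟩ : ∃ v : V, (∀ z : Z, ∃ r : K, ρ z v = r • v) ∧ ρ (c * a * c⁻¹) v ≠ ρ a v := by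
    by_contra hh
    push Not at hh
    exact hca (hρ (LinearMap.ext_on (common_eigen_span hZcomm hZK (ρ.comp Z.subtype)) fun v hv => hh v hv))
  have hv₀0 : v₀ ≠ 0 := fun h => hmv (by simp [h])
  choose f hf using hv₀
  have hfmul : ∀ z z' : Z, f (z * z') = f z * f z' := fun z z' => by
    refine smul_left_injective K hv₀0 ?_
    show f (z * z') • v₀ = (f z * f z') • v₀
    rw [← hf, Subgroup.coe_mul, map_mul, Module.End.mul_apply, hf, map_smul, hf, smul_smul, mul_comm]
  have hfinv : ∀ z : Z, f z * f z⁻¹ = 1 := fun z => by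
    refine smul_left_injective K hv₀0 ?_
    show (f z * f z⁻¹) • v₀ = (1 : K) • v₀
    rw [← hfmul, mul_inv_cancel, ← hf, Subgroup.coe_one, map_one, Module.End.one_apply, one_smul]
  set U : Submodule K V := ⨅ z : Z, (ρ (z : H)).eigenspace (f z) with hUdef
  have hU : ∀ v, v ∈ U ↔ ∀ z : Z, ρ (z : H) v = f z • v := fun v => by
    simp [hUdef, Submodule.mem_iInf]
  have hv₀U : v₀ ∈ U := (hU _).2 fun z => hf z
  haveI : Nontrivial U := ⟨⟨⟨v₀, hv₀U⟩, 0, fun e => hv₀0 (congrArg Subtype.val e)⟩⟩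
  have hQU : Q ≤ stabSub ρ U := fun g hg v hv => by
    rw [hU] at hv ⊢
    intro z
    rw [← Module.End.mul_apply, ← map_mul, ((hmemZ _).1 z.2).2 g hg, map_mul, Module.End.mul_apply, hv, map_smul]
  have hAU : A ≤ stabSub ρ U := fun y hy v hv => by
    rw [hU] at hv ⊢
    intro z
    rw [← Module.End.mul_apply, ← map_mul, hyZ y hy z, map_mul, Module.End.mul_apply, hv, map_smul]
  -- some element of `A` moves a vector of `U`
  have hmvA : ∃ v ∈ U, ρ c v ≠ v := by
    by_contra hh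
    push Not at hh
    refine hmv ?_
    have hc' : ρ c⁻¹ v₀ = v₀ := by
      conv_lhs => rw [← hh v₀ hv₀U]
      rw [← Module.End.mul_apply, ← map_mul, inv_mul_cancel, map_one, Module.End.one_apply]
    rw [map_mul, map_mul, Module.End.mul_apply, Module.End.mul_apply, hc', hh _ (hQU haQ v₀ hv₀U)]
  -- the action on characters of `Z`
  set B := derSub S e with hB
  have hBS : B ≤ S := derSub_antitone S (Nat.zero_le _)
  have hBfix : B ≤ stabSub ρ U := by
    haveI := Fintype.ofFinite Z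
    let act : H → (Z → K) → (Z → K) := fun g χ z =>
      if h : g⁻¹ * (z : H) * g ∈ Z then χ ⟨g⁻¹ * (z : H) * g, h⟩ else 0
    have hzg : ∀ g ∈ S, ∀ z : Z, g⁻¹ * (z : H) * g ∈ Z := fun g hg z =>
      (mem_normalizer_iff''.1 (hZS hg) z).1 z.2
    have hact : ∀ g (hg : g ∈ S) (χ : Z → K) (z : Z), act g χ z = χ ⟨g⁻¹ * (z : H) * g, hzg g hg z⟩ :=
      fun g hg χ z => dif_pos (hzg g hg z)
    have hactmul : ∀ g ∈ S, ∀ h ∈ S, ∀ χ : Z → K, act (g * h) χ = act g (act h χ) := fun g hg h hh χ => by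
      funext z
      rw [hact _ (mul_mem hg hh), hact g hg, hact h hh]
      congr 1
      exact Subtype.ext (by simp only [mul_inv_rev]; group)
    have hact1 : ∀ χ : Z → K, act 1 χ = χ := fun χ => by
      funext z
      rw [hact 1 S.one_mem]
      congr 1
      exact Subtype.ext (by simp)
    let Stf : Subgroup H :=
      { carrier := {g | g ∈ S ∧ act g f = f}
        one_mem' := ⟨S.one_mem, hact1 f⟩
        mul_mem' := fun {x y} hx hy => ⟨mul_mem hx.1 hy.1, by rw [hactmul x hx.1 y hy.1, hy.2, hx.2]⟩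
        inv_mem' := fun {x} hx => ⟨inv_mem hx.1, by
          conv_lhs => rw [← hx.2]
          rw [← hactmul _ (inv_mem hx.1) x hx.1, inv_mul_cancel, hact1]⟩ }
    intro g hg
    by_cases hgf : act g f = f
    · intro v hv
      rw [hU] at hv ⊢
      intro z
      have hgS := hBS hg
      have h1 : (z : H) * g = g * ((⟨g⁻¹ * (z : H) * g, hzg g hgS z⟩ : Z) : H) := by
        show (z : H) * g = g * (g⁻¹ * (z : H) * g)
        group
      rw [← Module.End.mul_apply, ← map_mul, h1, map_mul, Module.End.mul_apply, hv, map_smul,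
        ← hact g hgS f z, hgf]
    exfalso
    let E : (Z → K) → Module.End K V := fun χ => ((Nat.card Z : ℕ) : K)⁻¹ • ∑ z : Z, χ z⁻¹ • ρ (z : H)
    have hEU : ∀ v ∈ U, E f v = v := by
      intro v hv
      simp only [E, LinearMap.smul_apply, LinearMap.sum_apply]
      rw [Finset.sum_congr rfl fun z _ => (show f z⁻¹ • (ρ (z : H)) v = v by
        rw [(hU v).1 hv z, smul_smul, mul_comm, hfinv, one_smul]), Finset.sum_const, Finset.card_univ,
        ← Nat.cast_smul_eq_nsmul K, smul_smul, ← Nat.card_eq_fintype_card, inv_mul_cancel₀ hZK, one_smul]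
    have hEne : ∀ x ∈ S, act x f ≠ f → ∀ v ∈ U, E (act x f) v = 0 := by
      intro x hx hne v hv
      simp only [E, LinearMap.smul_apply, LinearMap.sum_apply]
      rw [Finset.sum_congr rfl fun z _ => (show act x f z⁻¹ • (ρ (z : H)) v = (act x f z⁻¹ * f z) • v by
        rw [(hU v).1 hv z, smul_smul]), ← Finset.sum_smul]
      set s := ∑ z : Z, act x f z⁻¹ * f z
      have hmul : ∀ z z' : Z, act x f (z * z') = act x f z * act x f z' := fun z z' => by
        rw [hact x hx, hact x hx, hact x hx, ← hfmul]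
        congr 1
        exact Subtype.ext (by simp only [Subgroup.coe_mul]; group)
      obtain ⟨z₀, hz₀⟩ : ∃ z₀, act x f z₀ ≠ f z₀ := by
        by_contra hh; push Not at hh; exact hne (funext hh)
      have hs : (act x f z₀⁻¹ * f z₀) * s = s := by
        rw [Finset.mul_sum]
        refine Fintype.sum_equiv (Equiv.mulLeft z₀) _ _ fun z => ?_
        rw [Equiv.coe_mulLeft, mul_inv_rev, hmul, hfmul]
        ring
      have hinv : act x f z₀ * act x f z₀⁻¹ = 1 := by
        rw [hact x hx, hact x hx, ← hfinv ⟨x⁻¹ * (z₀ : H) * x, hzg x hx z₀⟩]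
        congr 2
        exact Subtype.ext (by simp only [Subgroup.coe_inv]; group)
      have hs0 : s = 0 := by
        by_contra h0
        have h1 : act x f z₀⁻¹ * f z₀ = 1 := mul_right_cancel₀ h0 (by rw [hs, one_mul])
        exact hz₀ (by
          calc act x f z₀ = act x f z₀ * (act x f z₀⁻¹ * f z₀) := by rw [h1, mul_one]
            _ = f z₀ := by rw [← mul_assoc, hinv, one_mul])
      rw [hs0, zero_smul, smul_zero]
    have hEρ : ∀ x (hx : x ∈ S) (χ : Z → K) (v : V), E χ (ρ x v) = ρ x (E (act x⁻¹ χ) v) := by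
      intro x hx χ v
      simp only [E, LinearMap.smul_apply, LinearMap.sum_apply, map_smul, map_sum]
      congr 1
      refine Fintype.sum_equiv
        { toFun := fun z : Z => (⟨x⁻¹ * (z : H) * x, hzg x hx z⟩ : Z)
          invFun := fun z : Z => (⟨x * (z : H) * x⁻¹, by simpa using hzg x⁻¹ (inv_mem hx) z⟩ : Z)
          left_inv := fun z => Subtype.ext (by dsimp only; group)
          right_inv := fun z => Subtype.ext (by dsimp only; group) } _ _ fun z => ?_
      rw [hact _ (inv_mem hx)]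
      show χ z⁻¹ • (ρ (z : H)) ((ρ x) v) = χ _ • (ρ x) ((ρ (x⁻¹ * (z : H) * x)) v)
      rw [← Module.End.mul_apply, ← map_mul, ← Module.End.mul_apply, ← map_mul]
      congr 2
      · congr 1
        exact Subtype.ext (by simp only [Subgroup.coe_inv, Equiv.coe_fn_mk, inv_inv]; group)
      · congr 1; group
    have hmove : ∀ j ≤ e, ∃ b ∈ derSub S j, ∀ y ∈ derSub S (j + 1), act b f ≠ act y f := by
      intro j hje
      by_contra hh
      push Not at hh
      have hjS : derSub S j ≤ S := derSub_antitone S (Nat.zero_le _)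
      refine hgf ?_
      suffices derSub S j ≤ Stf from (this (derSub_antitone S hje hg)).2
      set L := derSub S j
      haveI : Group.IsNilpotent L := (hS.to_le hjS).isNilpotent
      have hfr : derSub S (j + 1) ≤ (frattini L).map L.subtype := by
        show ⁅L, L⁆ ≤ _
        rw [show ⁅L, L⁆ = (commutator L).map L.subtype by
          rw [_root_.commutator_def, map_commutator, ← MonoidHom.range_eq_map, range_subtype]]
        exact map_mono (Cfsg.Lib.PGroups.commutator_le_frattini (hS.to_le hjS))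
      have htop : Stf.subgroupOf L ⊔ frattini L = ⊤ := by
        refine eq_top_iff.2 fun b _ => ?_
        obtain ⟨y, hy, hby⟩ := hh b b.2
        obtain ⟨y', hy', rfl⟩ := hfr hy
        have hst : y'⁻¹ * b ∈ Stf.subgroupOf L := by
          refine mem_subgroupOf.2 ⟨hjS (y'⁻¹ * b).2, ?_⟩
          rw [Subgroup.coe_mul, hactmul _ (hjS (y'⁻¹).2) _ (hjS b.2), hby]
          show act ((y'⁻¹ : L) : H) (act ((y' : L) : H) f) = f
          rw [← hactmul _ (hjS (y'⁻¹).2) _ (hjS y'.2)]
          show act ((((y'⁻¹ : L) : H)) * (y' : H)) f = f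
          rw [← Subgroup.coe_mul, inv_mul_cancel, Subgroup.coe_one, hact1]
        have h2 := mul_mem (mem_sup_right (S := Stf.subgroupOf L) hy') (mem_sup_left (T := frattini L) hst)
        rwa [mul_inv_cancel_left] at h2
      have h3 := frattini_nongenerating htop
      intro b hb
      exact mem_subgroupOf.1 (h3 ▸ mem_top (⟨b, hb⟩ : L))
    have hind : ∀ j ≤ e + 1, ∀ v ∈ U, ∃ o, IsChain ρ S j o ∧ (E f (o v) = v ∨ E f (o v) = -v) ∧
        ∀ y ∈ derSub S j, act y f ≠ f → E (act y f) (o v) = 0 := by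
      intro j
      induction j with
      | zero =>
        intro _ v hv
        exact ⟨1, rfl, Or.inl (hEU v hv), fun y hy hne => hEne y hy hne v hv⟩
      | succ j ihj =>
        intro hje v hv
        obtain ⟨o, ho, ho1, ho2⟩ := ihj (by omega) v hv
        obtain ⟨b, hb, hb'⟩ := hmove j (by omega)
        have hjS : derSub S j ≤ S := derSub_antitone S (Nat.zero_le _)
        have hcomp : ∀ y ∈ derSub S (j + 1), E (act y f) (ρ b (o v)) = 0 := by
          intro y hy
          have hyj : y ∈ derSub S j := derSub_antitone S (Nat.le_succ j) hy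
          rw [hEρ b (hjS hb), ← hactmul _ (inv_mem (hjS hb)) _ (hjS hyj), ho2 _ (mul_mem (inv_mem hb) hyj), map_zero]
          intro h
          refine hb' y hy ?_
          conv_lhs => rw [← h]
          rw [← hactmul _ (hjS hb) _ (mul_mem (inv_mem (hjS hb)) (hjS hyj)), mul_inv_cancel_left]
        refine ⟨(ρ b - 1) * o, ⟨b, hb, o, ho, rfl⟩, ?_, fun y hy hne => ?_⟩
        · have h1 := hcomp 1 (one_mem _)
          rw [hact1] at h1
          rw [Module.End.mul_apply, LinearMap.sub_apply, Module.End.one_apply, map_sub, h1, zero_sub]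
          rcases ho1 with h | h
          · exact Or.inr (by rw [h])
          · exact Or.inl (by rw [h, neg_neg])
        · rw [Module.End.mul_apply, LinearMap.sub_apply, Module.End.one_apply, map_sub, hcomp y hy,
            ho2 y (derSub_antitone S (Nat.le_succ j) hy) hne, sub_zero]
    obtain ⟨v, hv, hcv⟩ := hmvA
    obtain ⟨o, ho, ho1, -⟩ := hind (e + 1) le_rfl v hv
    have h1 := LinearMap.congr_fun (hchain o ho c hcA) v
    rw [Module.End.mul_apply, LinearMap.sub_apply, Module.End.one_apply, LinearMap.zero_apply, sub_eq_zero] at h1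
    refine hcv ?_
    have h2 : E f (ρ c (o v)) = ρ c (E f (o v)) := by
      rw [hEρ c (hAS hcA)]
      congr 2
      congr 1
      funext z
      rw [hact _ (inv_mem (hAS hcA))]
      congr 1
      refine Subtype.ext ?_
      show c⁻¹⁻¹ * (z : H) * c⁻¹ = z
      rw [inv_inv, ← hyZ c hcA z, mul_inv_cancel_right]
    rw [h1] at h2
    rcases ho1 with h | h <;> rw [h] at h2
    · exact h2.symm
    · rw [map_neg, neg_inj] at h2
      exact h2.symm
  -- the support
  set G₁ := Q ⊔ B with hG₁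
  have hG₁U : G₁ ≤ stabSub ρ U := sup_le hQU hBfix
  let ρU : G₁ →* Module.End K U := restrictRep (ρ.comp G₁.subtype) U fun g => hG₁U g.2
  let j : B →* G₁ := Subgroup.inclusion le_sup_right
  set Q₁ := Q.subgroupOf G₁ with hQ₁
  haveI : Q₁.Normal := normal_subgroupOf_of_le_normalizer (sup_le le_normalizer (hBS.trans hQS))
  have hQ₁p : IsPGroup 2 Q₁ := hQ.comap_of_injective _ G₁.subtype_injective
  have hmQ₁ : ∀ u : G₁, u ∈ Q₁ ↔ (u : H) ∈ Q := fun u => mem_subgroupOf
  have hscalZ : ∀ u : G₁, (hz : (u : H) ∈ Z) → ρU u = f ⟨u, hz⟩ • 1 := fun u hz =>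
    LinearMap.ext fun v => Subtype.ext ((hU _).1 v.2 ⟨u, hz⟩)
  have hkerZ : ∀ u : G₁, (u : H) ∈ Z → u ∈ (adRep ρU).ker := fun u hz =>
    (mem_ker_adRep_iff ρU u).2 ⟨_, hscalZ u hz⟩
  have hΦcomm : ∀ u ∈ Q₁, ∀ b ∈ Q₁, ((u * b * u⁻¹ * b⁻¹ : G₁) : H) ∈ Φ := fun u hu b hb =>
    ⟨⟨u, (hmQ₁ u).1 hu⟩ * ⟨b, (hmQ₁ b).1 hb⟩ * ⟨u, (hmQ₁ u).1 hu⟩⁻¹ * ⟨b, (hmQ₁ b).1 hb⟩⁻¹,
      Cfsg.Lib.PGroups.commutator_le_frattini hQ (commutator_mem_commutator (mem_top _) (mem_top _)), rfl⟩
  have hcommQ : ∀ u ∈ Q₁, ∀ b ∈ Q₁, ∃ r : K, ρU u * ρU b = r • (ρU b * ρU u) := by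
    intro u hu b hb
    refine ⟨f ⟨_, hΦZ _ (hΦcomm u hu b hb)⟩, ?_⟩
    calc ρU u * ρU b = ρU ((u * b * u⁻¹ * b⁻¹) * (b * u)) := by rw [← map_mul]; congr 1; group
      _ = _ := by rw [map_mul, hscalZ _ (hΦZ _ (hΦcomm u hu b hb)), smul_mul_assoc, one_mul, map_mul]
  let φ : G₁ →* (Module.End K (Module.End K U))ˣ := (adRep ρU).toHomUnits
  have hφker : ∀ u : G₁, φ u = 1 ↔ u ∈ (adRep ρU).ker := fun u => by
    rw [MonoidHom.mem_ker, Units.ext_iff]; rfl
  set Wg := Q₁.map φ with hWg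
  haveI : Finite Wg := .of_surjective (fun r : Q₁ => (⟨φ r, r, r.2, rfl⟩ : Wg))
      fun ⟨_, r, hr, e⟩ => ⟨⟨r, hr⟩, Subtype.ext e⟩
  haveI hWc : IsMulCommutative Wg := ⟨⟨by
    rintro ⟨_, u, hu, rfl⟩ ⟨_, b, hb, rfl⟩
    refine Subtype.ext ?_
    show φ u * φ b = φ b * φ u
    rw [← map_mul, show u * b = (u * b * u⁻¹ * b⁻¹) * (b * u) by group, map_mul,
      (hφker _).2 (hkerZ _ (hΦZ _ (hΦcomm u hu b hb))), one_mul, map_mul]⟩⟩
  have hWsq : ∀ w : Wg, w ^ 2 = 1 := by
    rintro ⟨_, u, hu, rfl⟩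
    refine Subtype.ext ?_
    show φ u ^ 2 = 1
    rw [← map_pow, hφker]
    exact hkerZ _ (hΦZ _ ⟨⟨u, (hmQ₁ u).1 hu⟩ ^ 2, Cfsg.Lib.PGroups.pow_mem_frattini hQ _, rfl⟩)
  haveI : Module (ZMod 2) (Additive Wg) := AddCommGroup.zmodModule fun w => by
    apply Additive.toMul.injective
    rw [toMul_nsmul, hWsq]; rfl
  have hφn : ∀ g : G₁, φ g ∈ normalizer (Wg : Set (Module.End K (Module.End K U))ˣ) := fun g => by
    refine (le_normalizer_map φ) ⟨g, ?_, rfl⟩
    rw [normalizer_eq_top_iff.2 inferInstance]; exact mem_top g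
  let cact : G₁ →* MulAut Wg := Wg.normalizerMonoidHom.comp (φ.codRestrict _ hφn)
  let σ₁ : G₁ →* Module.End (ZMod 2) (Additive Wg) := (mulAutToEnd 2 Wg).comp cact
  let π : Q₁ →* Multiplicative (Additive Wg) :=
    { toFun := fun u => Multiplicative.ofAdd (Additive.ofMul (⟨φ u, u, u.2, rfl⟩ : Wg))
      map_one' := by
        rw [show (⟨φ ((1 : Q₁) : G₁), _, (1 : Q₁).2, rfl⟩ : Wg) = 1 from Subtype.ext (map_one φ)]; rfl
      map_mul' := fun u b => by
        rw [show (⟨φ ((u * b : Q₁) : G₁), _, (u * b).2, rfl⟩ : Wg) = ⟨φ u, u, u.2, rfl⟩ * ⟨φ b, b, b.2, rfl⟩ from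
          Subtype.ext (map_mul φ _ _)]
        rfl }
  have hπ : Function.Surjective π := by
    intro w
    obtain ⟨u, hu, e⟩ := (Additive.toMul (Multiplicative.toAdd w) : Wg).2
    exact ⟨⟨u, hu⟩, Multiplicative.toAdd.injective (Additive.toMul.injective (Subtype.ext e))⟩
  have hπker : ∀ u : Q₁, π u = 1 ↔ (u : G₁) ∈ (adRep ρU).ker := fun u => by
    rw [← hφker]
    exact ⟨fun h => congrArg Subtype.val (congrArg Additive.toMul (congrArg Multiplicative.toAdd h)),
      fun h => Multiplicative.toAdd.injective (Additive.toMul.injective (Subtype.ext h))⟩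
  have hσπ : ∀ (g : G₁) (u : Q₁), σ₁ g (π u).toAdd = (π (MulAut.conjNormal g u)).toAdd := fun g u => by
    show mulAutToEnd 2 Wg (cact g) (Additive.ofMul (⟨φ u, u, u.2, rfl⟩ : Wg)) =
      Additive.ofMul (⟨φ ((MulAut.conjNormal g u : Q₁) : G₁), _, (MulAut.conjNormal g u).2, rfl⟩ : Wg)
    refine (mulAutToEnd_apply Wg (cact g) _).trans (congrArg Additive.ofMul ?_)
    refine Subtype.ext ?_
    show φ g * φ u * (φ g)⁻¹ = φ _
    rw [MulAut.conjNormal_apply, map_mul, map_mul, map_inv]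
  let σ : B →* Module.End (ZMod 2) (Additive Wg) := σ₁.comp j
  have hAB : A ≤ B := commutator_le_self B
  have hdegA : ∀ y : B, (y : H) ∈ A → (ρU (j y) - 1) ^ (p ^ 1 - 1) = 0 := fun y hy => by
    have hrest : ∀ (t : ℕ) (v : U), ((((ρU (j y) - 1) ^ t) v : U) : V) = ((ρ (y : H) - 1) ^ t) (v : V) := by
      intro t
      induction t with
      | zero => intro v; simp
      | succ t ih =>
        intro v
        rw [pow_succ', Module.End.mul_apply, pow_succ', Module.End.mul_apply, ← ih]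
        rfl
    refine LinearMap.ext fun v => Subtype.ext ?_
    rw [hrest, pow_one, hquad _ hy]; rfl
  have hpowA : ∀ y : B, (y : H) ∈ A → y ^ p = 1 := fun y hy => Subtype.ext (by
    rw [Subgroup.coe_pow, hpow _ hy, Subgroup.coe_one])
  have hisoA : ∀ y : B, (y : H) ∈ A → ∀ z : Module.End (ZMod 2) (Additive Wg), z ^ p = 1 → Commute z (σ y) →
      ∃ i : ℕ, ∀ w, z (σ y w - w) = (σ y ^ i) (σ y w - w) := by
    intro y hy z hz hzc
    obtain ⟨i, hi⟩ := isotypic_of_deg (p := p) (n := 1) hp2 ρU Q₁ hQ₁p hcommQ π hπ hπker (j y) (σ y)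
      (fun u => hσπ (j y) u) one_ne_zero (by rw [pow_one, ← map_pow, hpowA y hy, map_one]) (hdegA y hy)
      (by rw [pow_one, ← map_pow, hpowA y hy, map_one]) z hz hzc
    refine ⟨i, fun w => ?_⟩
    simpa only [Nat.sub_self, pow_zero, pow_one] using hi w
  set c' : B := ⟨c, hAB hcA⟩
  -- `c` acts nontrivially on the support
  have hcne : σ c' ≠ 1 := by
    intro hc1
    have haG : a ∈ G₁ := (le_sup_left : Q ≤ G₁) haQ
    set a₁ : G₁ := ⟨a, haG⟩
    set c₁ : G₁ := j c'
    have ha₁ : a₁ ∈ Q₁ := (hmQ₁ _).2 haQ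
    obtain ⟨r, hr⟩ := (mem_ker_adRep_iff ρU _).1 (show c₁ * a₁ * c₁⁻¹ * a₁⁻¹ ∈ (adRep ρU).ker by
      refine (hφker _).1 ?_
      have h1 := hσπ c₁ ⟨a₁, ha₁⟩
      rw [show σ₁ c₁ = 1 from hc1, Module.End.one_apply] at h1
      have h2 : φ a₁ = φ (MulAut.conjNormal c₁ (⟨a₁, ha₁⟩ : Q₁) : G₁) :=
        congrArg Subtype.val (congrArg Additive.toMul h1)
      rw [MulAut.conjNormal_apply] at h2
      rw [map_mul, map_inv, ← h2, mul_inv_cancel])
    have hconj : ∀ l : ℕ, ρU (c₁ ^ l * a₁ * (c₁ ^ l)⁻¹) = r ^ l • ρU a₁ := by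
      have h1 : ρU (c₁ * a₁ * c₁⁻¹) = r • ρU a₁ := by
        rw [show c₁ * a₁ * c₁⁻¹ = (c₁ * a₁ * c₁⁻¹ * a₁⁻¹) * a₁ by group, map_mul, hr, smul_mul_assoc, one_mul]
      intro l
      induction l with
      | zero => simp
      | succ l ih =>
        rw [show c₁ ^ (l + 1) * a₁ * (c₁ ^ (l + 1))⁻¹ = c₁ * (c₁ ^ l * a₁ * (c₁ ^ l)⁻¹) * c₁⁻¹ by rw [pow_succ']; group,
          map_mul, map_mul, ih, mul_smul_comm, smul_mul_assoc, ← map_mul, ← map_mul, h1, smul_smul, pow_succ]
    have ha0 : ρU a₁ ≠ 0 := fun h => by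
      have h4 := map_mul ρU a₁ a₁⁻¹
      rw [mul_inv_cancel, map_one, h, zero_mul] at h4
      exact one_ne_zero h4
    have hr1 : r = 1 := by
      have hc2 : c₁ ^ p = 1 := by rw [← map_pow, hpowA c' hcA, map_one]
      have h4 := hconj p
      rw [hc2, one_mul, inv_one, mul_one] at h4
      have h5 : r ^ p = 1 := smul_left_injective K ha0 (h4.symm.trans (one_smul K _).symm)
      haveI : ExpChar K p := ExpChar.prime hp
      exact frobenius_inj K p (by simp [frobenius_def, h5])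
    refine hmv ?_
    have h6 := hconj 1
    rw [pow_one, hr1, one_pow, one_smul] at h6
    exact congrArg Subtype.val (LinearMap.congr_fun h6 ⟨v₀, hv₀U⟩)
  set T₀ := σ c' with hT₀
  have hT₀p : T₀ ^ p = 1 := by rw [hT₀, ← map_pow, hpowA c' hcA, map_one]
  set W₀ := LinearMap.range (T₀ - 1) with hW₀
  have hnofix := support_no_fixed hp2 T₀ hT₀p
  have hW₀ne : ∃ w ∈ W₀, w ≠ 0 := by
    by_contra hh
    push Not at hh
    exact hcne (LinearMap.ext fun w => sub_eq_zero.1 (hh _ ⟨w, rfl⟩))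
  have hinvc : ∀ g : Module.End (ZMod 2) (Additive Wg), Commute g T₀ → ∀ w ∈ W₀, g w ∈ W₀ := by
    rintro g hg _ ⟨w, rfl⟩
    exact ⟨g w, (LinearMap.congr_fun (hg.sub_right (Commute.one_right g)).eq w).symm⟩
  have hTW : ∀ w ∈ W₀, T₀ w ∈ W₀ := hinvc T₀ (Commute.refl _)
  have hAc : ∀ y : B, (y : H) ∈ A → Commute (σ y) T₀ := fun y hy =>
    Commute.map (show Commute y c' from Subtype.ext (hab _ hy _ hcA)) σ
  have hp0 : ∀ (i : ℕ) (u : Additive Wg), u ∈ W₀ → (T₀ ^ i) u = T₀ u → u ≠ 0 → i % p = 1 := by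
    intro i u hu he hu0
    by_contra hne
    refine hu0 (hnofix u hu ?_)
    have hmod : T₀ ^ i = T₀ ^ (i % p) := by
      conv_lhs => rw [← Nat.mod_add_div i p, pow_add, pow_mul, hT₀p, one_pow, mul_one]
    rw [hmod] at he
    set r := i % p
    have hr : r < p := Nat.mod_lt _ hp.pos
    have hfix : (T₀ ^ (r + (p - 1))) u = u := by
      rw [add_comm, pow_add, Module.End.mul_apply, he, ← Module.End.mul_apply, ← pow_succ,
        Nat.sub_add_cancel hp.one_le, hT₀p, Module.End.one_apply]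
    have hcop : Nat.Coprime (r + (p - 1)) p := by
      refine Nat.Coprime.symm (hp.coprime_iff_not_dvd.2 ?_)
      rintro ⟨l, hl⟩
      have := hp.two_le
      rcases Nat.eq_zero_or_pos r with h0 | h0
      · rcases l with _ | l
        · omega
        · rw [Nat.mul_succ] at hl; omega
      · rcases l with _ | _ | l
        · omega
        · omega
        · rw [Nat.mul_succ, Nat.mul_succ] at hl; omega
    obtain ⟨l, -, hl⟩ := Nat.exists_mul_mod_eq_one_of_coprime hcop hp.one_lt
    have hfixl : ∀ l : ℕ, (T₀ ^ ((r + (p - 1)) * l)) u = u := by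
      intro l
      induction l with
      | zero => simp
      | succ l ih => rw [Nat.mul_succ, pow_add, Module.End.mul_apply, hfix, ih]
    have h1 := hfixl l
    rwa [← Nat.mod_add_div ((r + (p - 1)) * l) p, hl, pow_add, pow_one, pow_mul, hT₀p, one_pow, mul_one] at h1
  -- the image of `A` is cyclic
  have hcyc : ∀ y : B, (y : H) ∈ A → ∃ m : ℕ, σ y = T₀ ^ m := by
    intro y hy
    obtain ⟨m, hm⟩ := hisoA c' hcA (σ y) (by rw [← map_pow, hpowA y hy, map_one]) (hAc y hy)
    refine ⟨m, ?_⟩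
    set d : B := y * c' ^ (m * (p - 1))
    set C := σ d with hC
    have hCdef : C = σ y * T₀ ^ (m * (p - 1)) := by rw [hC, map_mul, map_pow]
    have hdA : (d : H) ∈ A := by
      rw [Subgroup.coe_mul, Subgroup.coe_pow]; exact mul_mem hy (pow_mem hcA _)
    have hCW : ∀ u ∈ W₀, C u = u := by
      rintro _ ⟨w, rfl⟩
      have h1 : σ y ((T₀ - 1) w) = (T₀ ^ m) ((T₀ - 1) w) := hm w
      rw [hCdef, ((hAc y hy).pow_right _).eq, Module.End.mul_apply, h1, ← Module.End.mul_apply, ← pow_add,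
        show m * (p - 1) + m = m * p by
          obtain ⟨t, rfl⟩ : ∃ t, p = t + 1 := ⟨p - 1, (Nat.sub_add_cancel hp.one_le).symm⟩
          rw [Nat.add_sub_cancel]; ring,
        mul_comm, pow_mul, hT₀p, one_pow, Module.End.one_apply]
    have hy1 : ((d * c' : B) : H) ∈ A := by rw [Subgroup.coe_mul]; exact mul_mem hdA hcA
    have hdc : Commute (σ d) T₀ := hAc d hdA
    obtain ⟨i, hi⟩ := hisoA (d * c') hy1 T₀ hT₀p (by rw [map_mul]; exact hdc.symm.mul_right (Commute.refl _))
    rw [map_mul, ← hC, ← hT₀] at hi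
    obtain ⟨w₀, hw₀, hw₀0⟩ := hW₀ne
    have hu : T₀ w₀ - w₀ ∈ W₀ := ⟨w₀, rfl⟩
    have hu0 : T₀ w₀ - w₀ ≠ 0 := fun h => hw₀0 (hnofix _ hw₀ (sub_eq_zero.1 h))
    have hi0 := hi w₀
    rw [Module.End.mul_apply, hCW _ (hTW _ hw₀), (hdc : Commute C T₀).mul_pow, Module.End.mul_apply] at hi0
    have hTi : ∀ t : ℕ, ∀ u ∈ W₀, (T₀ ^ t) u ∈ W₀ := fun t => hinvc _ (Commute.pow_left (Commute.refl _) t)
    have hCi : ∀ t : ℕ, ∀ u ∈ W₀, (C ^ t) u = u := fun t u hu => by
      induction t with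
      | zero => simp
      | succ t ih => rw [pow_succ', Module.End.mul_apply, ih, hCW u hu]
    rw [hCi _ _ (hTi i _ hu)] at hi0
    have hi1 : i % p = 1 := hp0 i _ hu hi0.symm hu0
    have hCp : C ^ p = 1 := by rw [hC, ← map_pow, hpowA d hdA, map_one]
    have hpi : (C * T₀) ^ i = C * T₀ := by
      have h1 : (C * T₀) ^ p = 1 := by rw [(hdc : Commute C T₀).mul_pow, hCp, hT₀p, one_mul]
      rw [← Nat.mod_add_div i p, hi1, pow_add, pow_one, pow_mul, h1, one_pow, mul_one]
    have hCfix : ∀ w, C ((C * T₀) w - w) = (C * T₀) w - w := fun w => by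
      have h1 := hi w
      rw [hpi, (hdc : Commute C T₀).eq, Module.End.mul_apply T₀ C] at h1
      have h2 := congrArg (T₀ ^ (p - 1)) h1.symm
      have hinv : T₀ ^ (p - 1) * T₀ = 1 := by rw [← pow_succ, Nat.sub_add_cancel hp.one_le, hT₀p]
      rw [← Module.End.mul_apply, ← Module.End.mul_apply, ← mul_assoc, hinv, one_mul, ← Module.End.mul_apply (T₀ ^ (p - 1)) T₀, hinv, Module.End.one_apply,
        ← (hdc : Commute C T₀).eq] at h2
      exact h2
    have h2 : (2 : Module.End (ZMod 2) (Additive Wg)) = 0 := by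
      refine LinearMap.ext fun x => ?_
      show (((2 : ℕ)) : Module.End (ZMod 2) (Additive Wg)) x = 0
      rw [Module.End.natCast_apply, ← Nat.cast_smul_eq_nsmul (ZMod 2), ZMod.natCast_self, zero_smul]
    have e1 : (C - 1) * (T₀ - 1) = 0 := LinearMap.ext fun w => by
      rw [Module.End.mul_apply, LinearMap.sub_apply, Module.End.one_apply, hCW _ ⟨w, rfl⟩, sub_self,
        LinearMap.zero_apply]
    have e2 : (C - 1) * (C * T₀ - 1) = 0 := LinearMap.ext fun w => by
      rw [Module.End.mul_apply, LinearMap.sub_apply, Module.End.one_apply, LinearMap.sub_apply, Module.End.one_apply,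
        hCfix, sub_self, LinearMap.zero_apply]
    have e3 : (C - 1) ^ 2 = 0 := by
      have e4 : (C - 1) * (C * T₀ - 1) = (C - 1) * C * (T₀ - 1) + (C - 1) ^ 2 := by
        rw [mul_assoc, sq, ← mul_add, mul_sub C T₀ 1, mul_one, sub_add_sub_cancel]
      have e5 : (C - 1) * C = C * (C - 1) := by rw [sub_mul, mul_sub, one_mul, mul_one]
      rw [e2, e5, mul_assoc, e1, mul_zero, zero_add] at e4
      exact e4.symm
    have hC2 : C ^ 2 = 1 := by
      have e4 : (C - 1) ^ 2 = C ^ 2 - 1 - 2 * (C - 1) := by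
        rw [sq, sq, two_mul, mul_sub, sub_mul, one_mul, mul_one]
        abel
      rw [e3, h2, zero_mul, sub_zero] at e4
      exact sub_eq_zero.1 e4.symm
    have hC1 : C = 1 := by
      obtain ⟨t, ht⟩ := hp.odd_of_ne_two hp2
      rw [ht, pow_succ, pow_mul, hC2, one_pow, one_mul] at hCp
      exact hCp
    calc σ y = C * T₀ ^ m := by
          rw [hCdef, mul_assoc, ← pow_add, show m * (p - 1) + m = p * m by
            obtain ⟨t, rfl⟩ : ∃ t, p = t + 1 := ⟨p - 1, (Nat.sub_add_cancel hp.one_le).symm⟩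
            rw [Nat.add_sub_cancel]; ring, pow_mul, hT₀p, one_pow, mul_one]
      _ = T₀ ^ m := by rw [hC1, one_mul]
  -- `B` centralizes the image
  have hTord : orderOf T₀ = p := orderOf_eq_prime hT₀p hcne
  have hBc : ∀ b : B, Commute (σ b) T₀ := by
    intro b
    have hbA : ((b * c' * b⁻¹ : B) : H) ∈ A := by
      have h1 := (mem_normalizer_iff.1 (derSub_le_normalizer S (e + 1) (hBS b.2)) c).1 hcA
      simpa [c'] using h1
    obtain ⟨i, hi⟩ := hcyc _ hbA
    have hit : ∀ l : ℕ, σ (b ^ l * c' * (b ^ l)⁻¹) = T₀ ^ (i ^ l) := by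
      intro l
      induction l with
      | zero => simp [T₀]
      | succ l ih =>
        have h1 : b ^ (l + 1) * c' * (b ^ (l + 1))⁻¹ = b ^ l * (b * c' * b⁻¹) * (b ^ l)⁻¹ := by
          rw [pow_succ]; group
        have h3 : ∀ t : ℕ, σ (b ^ l * c' ^ t * (b ^ l)⁻¹) = (T₀ ^ (i ^ l)) ^ t := fun t => by
          rw [← conj_pow, map_pow, ih]
        rw [h1, map_mul, map_mul, hi, hT₀, ← map_pow, ← map_mul, ← map_mul, h3, ← pow_mul, pow_succ, ← hT₀]
    obtain ⟨t, ht⟩ := (hS.to_le hBS) b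
    have h1 := hit (p ^ t)
    rw [ht, one_mul, inv_one, mul_one, ← hT₀] at h1
    haveI : NeZero p := ⟨hp.ne_zero⟩
    obtain ⟨w, hw, hw0⟩ := hW₀ne
    have h4 : i ^ p ^ t % p = 1 := hp0 _ w hw (by rw [← h1]) hw0
    have h5 : ((i : ℕ) : ZMod p) = 1 := by
      have h6 : ((i ^ p ^ t : ℕ) : ZMod p) = ((1 : ℕ) : ZMod p) :=
        (ZMod.natCast_eq_natCast_iff' _ _ p).2 (by rw [h4, Nat.one_mod_eq_one.2 hp.ne_one])
      rw [Nat.cast_one, Nat.cast_pow, ZMod.pow_card_pow] at h6
      exact h6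
    have h7 : i % p = 1 := by
      rw [← Nat.cast_one, ZMod.natCast_eq_natCast_iff', Nat.one_mod_eq_one.2 hp.ne_one] at h5
      exact h5
    have h8 : T₀ ^ i = T₀ := by
      rw [← Nat.mod_add_div i p, h7, pow_add, pow_one, pow_mul, hT₀p, one_pow, mul_one]
    rw [h8] at hi
    show σ b * T₀ = T₀ * σ b
    conv_rhs => rw [← hi, ← map_mul, inv_mul_cancel_right, map_mul, ← hT₀]
  have hBW : ∀ b : B, ∀ w ∈ W₀, σ b w ∈ W₀ := fun b => hinvc _ (hBc b)
  let σW : B →* Module.End (ZMod 2) W₀ :=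
    { toFun := fun b => (σ b).restrict (hBW b)
      map_one' := LinearMap.ext fun x => Subtype.ext (by simp)
      map_mul' := fun a b => LinearMap.ext fun x => Subtype.ext (by simp) }
  have hirr : ∀ R : Submodule (ZMod 2) W₀, (∀ v ∈ R, T₀.restrict hTW v ∈ R) → R = ⊥ ∨ R = ⊤ := by
    have h := support_irreducible (p := p) (n := 1) hp2 ρU Q₁ hQ₁p hcommQ π hπ hπker (j c') T₀
      (fun u => hσπ (j c') u) one_ne_zero (by rw [pow_one, ← map_pow, hpowA c' hcA, map_one]) (hdegA c' hcA)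
      (by rw [pow_one, hT₀p])
    rw [show T₀ ^ p ^ (1 - 1) = T₀ by rw [Nat.sub_self, pow_zero, pow_one]] at h
    exact h hTW
  have hcommB : ∀ b₁ b₂ : B, σW b₁ * σW b₂ = σW b₂ * σW b₁ := fun b₁ b₂ =>
    commutant_comm _ hirr _ _ (LinearMap.ext fun x => Subtype.ext (LinearMap.congr_fun (hBc b₁).eq (x : Additive Wg)))
      (LinearMap.ext fun x => Subtype.ext (LinearMap.congr_fun (hBc b₂).eq (x : Additive Wg)))
  have hker : (commutator B) ≤ σW.toHomUnits.ker := by
    rw [_root_.commutator_def, commutator_le]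
    intro g _ h _
    rw [MonoidHom.mem_ker, map_commutatorElement, commutatorElement_eq_one_iff_mul_comm]
    exact Units.ext (hcommB g h)
  have hcB : c' ∈ commutator B := by
    have h1 : c ∈ (commutator B).map B.subtype := by
      rw [_root_.commutator_def, map_commutator, ← MonoidHom.range_eq_map, range_subtype]
      exact hcA
    obtain ⟨x, hx, e⟩ := h1
    exact (Subtype.ext e : x = c') ▸ hx
  have h1 : σW c' = 1 := congrArg Units.val (MonoidHom.mem_ker.1 (hker hcB))
  obtain ⟨w, hw, hw0⟩ := hW₀ne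
  exact hw0 (hnofix w hw (congrArg Subtype.val (LinearMap.congr_fun h1 ⟨w, hw⟩)))

/-- The last term of the derived series is trivial. -/
theorem derived_trivial {H : Type w} [Group H] [Finite H] {p : ℕ} [Fact p.Prime] [CharP K p] (hp2 : p ≠ 2)
    (hsol : Cfsg.IsPSolvable p H) (hO : Cfsg.pCore p H = ⊥) (ρ : H →* Module.End K V) (hρ : Function.Injective ρ)
    (S : Subgroup H) (hS : IsPGroup p S) (e : ℕ)
    (hquad : ∀ a ∈ derSub S (e + 1), ∀ a' ∈ derSub S (e + 1), (ρ a - 1) * (ρ a' - 1) = 0)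
    (hchain : ∀ o, IsChain ρ S (e + 1) o → ∀ a ∈ derSub S (e + 1), (ρ a - 1) * o = 0) :
    derSub S (e + 1) = ⊥ := by
  classical
  have hp : p.Prime := Fact.out
  have hp3 : 3 ≤ p := by have := hp.two_le; omega
  rcases subsingleton_or_nontrivial V with hV | hV
  · haveI : Subsingleton H := ⟨fun a b => hρ (LinearMap.ext fun v => Subsingleton.elim _ _)⟩
    exact Subsingleton.elim _ _
  haveI : CharP (Module.End K V) p := charP_of_injective_algebraMap (algebraMap K (Module.End K V)).injective p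
  haveI : ExpChar (Module.End K V) p := ExpChar.prime hp
  set A := derSub S (e + 1) with hA
  have hdeg : ∀ a ∈ A, (ρ a - 1) ^ (p - 1) = 0 := fun a ha =>
    pow_eq_zero_of_le (show 2 ≤ p - 1 by omega) (by rw [sq]; exact hquad a ha a ha)
  have hpow : ∀ a ∈ A, a ^ p = 1 := fun a ha => hρ (by
    rw [map_pow, map_one, ← sub_eq_zero]
    have h1 := sub_pow_expChar_of_commute (p := p) (Commute.one_right (ρ a))
    rw [one_pow] at h1
    rw [← h1]
    exact pow_eq_zero_of_le (show p - 1 ≤ p by omega) (hdeg a ha))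
  have hab : ∀ a ∈ A, ∀ a' ∈ A, a * a' = a' * a := fun a ha a' ha' => hρ (by
    have h1 := hquad a ha a' ha'
    have h2 := hquad a' ha' a ha
    rw [sub_mul, mul_sub, one_mul, mul_one, sub_eq_zero, sub_eq_iff_eq_add] at h1 h2
    rw [map_mul, map_mul, h1, h2]
    abel)
  set R := Cfsg.pPrimeCore p H
  have hRcop := Cfsg.Lib.Components.coprime_card_pPrimeCore (G := H) p
  haveI : R.Normal := Cfsg.Lib.Components.pPrimeCore_normal' p
  have hSR : S ≤ normalizer (R : Set H) := by rw [normalizer_eq_top_iff.2 inferInstance]; exact le_top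
  have hcopS : (Nat.card S).Coprime (Nat.card R) := by
    obtain ⟨i, hi⟩ := IsPGroup.iff_card.1 hS
    rw [hi]
    exact hRcop.symm.pow_left _
  rw [eq_bot_iff]
  intro c hc
  suffices hcc : c ∈ centralizer (R : Set H) from
    mem_bot.2 (Cfsg.Lib.Coprime.eq_one_of_coprime hcopS (derSub_antitone S (Nat.zero_le _) hc)
      (Cfsg.Agent.S4748.centralizer_pPrimeCore_le p hsol hO hcc))
  refine mem_centralizer_iff.2 fun r hr => ?_
  set C := (centralizer ({c} : Set H)).subgroupOf R
  suffices hC : C = ⊤ by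
    have h1 : (⟨r, hr⟩ : R) ∈ C := hC ▸ mem_top _
    exact mem_centralizer_singleton_iff.1 h1
  rw [← index_eq_one, Nat.eq_one_iff_not_exists_prime_dvd]
  intro q hq hdvd
  haveI := Fact.mk hq
  haveI : Group.IsNilpotent S := hS.isNilpotent
  obtain ⟨T, hT⟩ := Cfsg.Lib.Coprime.exists_invariant_sylow hSR hcopS (Or.inl inferInstance) q
  refine T.not_dvd_index (hdvd.trans (index_dvd_of_le fun t ht => ?_))
  set T₀ := (T : Subgroup R).map R.subtype
  have hT₀ : IsPGroup q T₀ := T.2.map _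
  have htT : (t : H) ∈ T₀ := mem_map_of_mem _ ht
  refine mem_centralizer_singleton_iff.2 ?_
  show (t : H) * c = c * (t : H)
  by_cases hq2 : q = 2
  · subst hq2
    exact mem_centralizer_iff.1 (derived_two hp2 ρ hρ S hS e hpow hab hdeg hchain T₀ hT₀ hT hc) _ htT
  by_cases hqp : q = p
  · subst hqp
    obtain ⟨i, hi⟩ := IsPGroup.iff_card.1 hT₀
    rcases Nat.eq_zero_or_pos i with rfl | hpos
    · rw [pow_zero] at hi
      rw [eq_bot_of_card_eq T₀ hi, mem_bot] at htT
      rw [htT, one_mul, mul_one]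
    · exact absurd (Nat.eq_one_of_dvd_coprimes hRcop
        ((dvd_pow_self q hpos.ne').trans (hi ▸ card_dvd_of_le (map_subtype_le _))) dvd_rfl) hq.ne_one
  have h1 := pow_centralizes_odd (k := 0) hp2 hq2 hqp ρ hρ c (by rw [zero_add, pow_one]; exact hpow c hc)
    (by rw [zero_add, pow_one]; exact hdeg c hc) T₀ hT₀ (hT (derSub_antitone S (Nat.zero_le _) hc)) _ htT
  simpa using h1

/-- The same over the prime field. -/
theorem derived_trivial_zmod {H : Type w} [Group H] [Finite H] {p : ℕ} [Fact p.Prime] (hp2 : p ≠ 2)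
    (hsol : Cfsg.IsPSolvable p H) (hO : Cfsg.pCore p H = ⊥) {W : Type v} [AddCommGroup W] [Module (ZMod p) W]
    [Finite W] (ρ : H →* Module.End (ZMod p) W) (hρ : Function.Injective ρ) (S : Subgroup H) (hS : IsPGroup p S)
    (e : ℕ) (hquad : ∀ a ∈ derSub S (e + 1), ∀ a' ∈ derSub S (e + 1), (ρ a - 1) * (ρ a' - 1) = 0)
    (hchain : ∀ o, IsChain ρ S (e + 1) o → ∀ a ∈ derSub S (e + 1), (ρ a - 1) * o = 0) :
    derSub S (e + 1) = ⊥ := by
  classical
  let b := Module.finBasis (ZMod p) W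
  let ι := AlgebraicClosure (ZMod p)
  let Φ : Module.End (ZMod p) W →+* Module.End ι (Fin (finrank (ZMod p) W) → ι) :=
    ((Matrix.toLinAlgEquiv' : Matrix _ _ ι ≃ₐ[ι] _).toRingEquiv.toRingHom.comp
      (algebraMap (ZMod p) ι).mapMatrix).comp (LinearMap.toMatrixAlgEquiv b).toRingEquiv.toRingHom
  have hΦ : Function.Injective Φ := by
    intro f g e
    exact (LinearMap.toMatrixAlgEquiv b).injective
      (Matrix.map_injective (algebraMap (ZMod p) ι).injective (Matrix.toLinAlgEquiv'.injective e))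
  haveI : CharP ι p := charP_of_injective_algebraMap (algebraMap (ZMod p) ι).injective p
  have hlift : ∀ j o', IsChain (Φ.toMonoidHom.comp ρ) S j o' → ∃ o, IsChain ρ S j o ∧ Φ o = o' := by
    intro j
    induction j with
    | zero => intro o' ho; exact ⟨1, rfl, by rw [map_one]; exact ho.symm⟩
    | succ j ih =>
      rintro o' ⟨g, hg, o'', ho'', rfl⟩
      obtain ⟨o, ho, rfl⟩ := ih o'' ho''
      exact ⟨(ρ g - 1) * o, ⟨g, hg, o, ho, rfl⟩, by rw [map_mul, map_sub, map_one]; rfl⟩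
  refine derived_trivial (K := ι) hp2 hsol hO (Φ.toMonoidHom.comp ρ) (hΦ.comp hρ) S hS e (fun a ha a' ha' => ?_)
    fun o' ho' a ha => ?_
  · show (Φ (ρ a) - 1) * (Φ (ρ a') - 1) = 0
    rw [← map_one Φ, ← map_sub, ← map_sub, ← map_mul, hquad a ha a' ha', map_zero]
  · obtain ⟨o, ho, rfl⟩ := hlift _ o' ho'
    show (Φ (ρ a) - 1) * Φ o = 0
    rw [← map_one Φ, ← map_sub, ← map_mul, hchain o ho a ha, map_zero]

/-- The derived length drops modulo `O_p`. -/
theorem derived_drop {G : Type w} [Group G] [Finite G] {p : ℕ} [Fact p.Prime] (hp2 : p ≠ 2)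
    (hsol : Cfsg.IsPSolvable p G) (hO : Cfsg.pPrimeCore p G = ⊥) (P : Sylow p G) (e : ℕ)
    (hd : derSub (P : Subgroup G) (e + 1) = ⊥) : derSub (P : Subgroup G) e ≤ Cfsg.pCore p G := by
  classical
  obtain ⟨Γ, iG, iF, π, C, W, iA, iM, iW, ι, ρ, hπ, hι, hrange, hιn, hinf, hsup, hker, hρ, hρc, hsolC, hOC⟩ :=
    exists_split_module hsol hO
  haveI := hιn
  set T := (P : Subgroup G).map π with hT
  have hTp : IsPGroup p T := P.2.map π
  have hWT : ι.range ≤ T := by rw [hrange]; exact map_mono (Cfsg.Lib.Coprime.pCore_le_sylow p P)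
  have hTd : derSub T (e + 1) = ⊥ := by rw [hT, ← derSub_map, hd, Subgroup.map_bot]
  set S := T.subgroupOf C with hS
  have hSp : IsPGroup p S := hTp.comap_of_injective _ C.subtype_injective
  have hST : ∀ j, ∀ s ∈ derSub S j, (s : Γ) ∈ derSub T j := fun j s hs => by
    refine derSub_mono (S := S.map C.subtype) (map_le_iff_le_comap.2 le_rfl) j ?_
    rw [← derSub_map]
    exact mem_map_of_mem _ hs
  have hact : ∀ (k : C) (v : W), ι (Multiplicative.ofAdd ((ρ k - 1) v)) =
      ⁅(k : Γ), ι (Multiplicative.ofAdd v)⁆ := fun k v => by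
    rw [LinearMap.sub_apply, Module.End.one_apply, ofAdd_sub, map_div, hρc, div_eq_mul_inv, commutatorElement_def]
  have hfix : ∀ a ∈ derSub S e, ∀ u : W, ι (Multiplicative.ofAdd u) ∈ derSub T e → (ρ a - 1) u = 0 := by
    intro a ha u hu
    apply Multiplicative.ofAdd.injective
    apply hι
    rw [hact, ofAdd_zero, map_one]
    have h1 : ⁅(a : Γ), ι (Multiplicative.ofAdd u)⁆ ∈ derSub T (e + 1) := commutator_mem_commutator (hST e a ha) hu
    rwa [hTd, mem_bot] at h1
  have hchainT : ∀ j o, IsChain ρ S j o → ∀ v, ι (Multiplicative.ofAdd (o v)) ∈ derSub T j := by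
    intro j
    induction j with
    | zero =>
      intro o ho v
      obtain rfl : o = 1 := ho
      exact hWT ⟨_, rfl⟩
    | succ j ih =>
      rintro o ⟨b, hb, o', ho', rfl⟩ v
      rw [Module.End.mul_apply, hact]
      exact commutator_mem_commutator (hST j b hb) (ih o' ho' v)
  have htriv : derSub S e = ⊥ := by
    cases e with
    | zero =>
      rw [eq_bot_iff]
      intro a ha
      refine mem_bot.2 (hρ ?_)
      rw [map_one]
      refine LinearMap.ext fun u => sub_eq_zero.1 ?_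
      exact hfix a ha u (hWT ⟨_, rfl⟩)
    | succ e =>
      refine derived_trivial_zmod hp2 hsolC hOC ρ hρ S hSp e (fun a ha a' ha' => ?_) fun o ho a ha => ?_
      · refine LinearMap.ext fun v => hfix a ha _ ?_
        rw [hact]
        have h1 := hST _ a' ha'
        have h2 := (mem_normalizer_iff.1 (derSub_le_normalizer T (e + 1) (hWT ⟨Multiplicative.ofAdd v, rfl⟩)) _).1
          (inv_mem h1)
        rw [commutatorElement_def, mul_assoc, mul_assoc, ← mul_assoc (ι (Multiplicative.ofAdd v))]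
        exact mul_mem h1 h2
      · exact LinearMap.ext fun v => hfix a ha _ (hchainT _ o ho v)
  -- back to `G`
  have hle : T ≤ ι.range ⊔ S.map C.subtype := by
    intro t ht
    obtain ⟨w, hw, k, hk, rfl⟩ := mem_sup_of_normal_left.1 (hsup ▸ mem_top t)
    refine mul_mem_sup hw ⟨⟨k, hk⟩, ?_, rfl⟩
    have h1 := mul_mem (inv_mem (hWT hw)) ht
    rwa [inv_mul_cancel_left] at h1
  intro x hx
  have hx1 : π x ∈ ι.range := by
    rw [← QuotientGroup.eq_one_iff]
    let f := QuotientGroup.mk' ι.range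
    have h1 : f (π x) ∈ derSub (T.map f) e := by
      rw [hT, ← derSub_map, ← derSub_map]
      exact mem_map_of_mem _ (mem_map_of_mem _ hx)
    have h2 : T.map f ≤ (S.map C.subtype).map f := by
      refine (map_mono hle).trans ?_
      rw [Subgroup.map_sup, QuotientGroup.map_mk'_self, bot_sup_eq]
    have h3 := derSub_mono h2 e h1
    rw [← derSub_map, ← derSub_map, htriv, Subgroup.map_bot, Subgroup.map_bot, mem_bot] at h3
    exact h3
  rw [hrange] at hx1
  obtain ⟨o, ho, hoe⟩ := hx1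
  have h1 : o⁻¹ * x ∈ Cfsg.pCore p G :=
    hker (by rw [MonoidHom.mem_ker, map_mul, map_inv, hoe, inv_mul_cancel])
  have h2 := mul_mem ho h1
  rwa [mul_inv_cancel_left] at h2

end Cfsg.Lib.HallHigman
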